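import Cfsg.Agent.Lib.TensorFormMax.Basic
import Mathlib.RingTheory.SimpleModule.Basic

/-!
A matrix subalgebra normalised by the isometries of determinant one of a non-degenerate form and without a common
eigenvector is everything.
-/

set_option autoImplicit false

namespace Cfsg.Agent.Lib.TensorFormMax.InvariantAlgebra

open Matrix
open Cfsg.Agent.Lib.Subspaces.Transvection Cfsg.Agent.Lib.Subspaces.FormVec
  Cfsg.Agent.Lib.TensorFormMax.Basic

variable {F : Type*} [Field F] {m : ℕ}

local notation "V1" => Fin m → F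
local notation "A1" => Matrix (Fin m) (Fin m) F

/-- The subalgebra is normalised by the isometries of determinant one. -/
def Invariant (f : (Fin m → F) → (Fin m → F) → F) (S : Subalgebra F (Matrix (Fin m) (Fin m) F)) : Prop :=
  ∀ g g' : Matrix (Fin m) (Fin m) F, g * g' = 1 → g.det = 1 → (∀ x y, f (g *ᵥ x) (g *ᵥ y) = f x y) →
    ∀ A ∈ S, g * A * g' ∈ S

/-- An irreducible algebra with scalar centraliser is everything. -/
theorem eq_top_of_irreducible (S : Subalgebra F (Matrix (Fin m) (Fin m) F)) (hm : 0 < m)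
    (hirr : ∀ W : Submodule F (Fin m → F), (∀ A ∈ S, ∀ x ∈ W, A *ᵥ x ∈ W) → W = ⊥ ∨ W = ⊤)
    (hcent : ∀ C : Matrix (Fin m) (Fin m) F, (∀ A ∈ S, C * A = A * C) → ∃ μ : F, C = μ • 1) : S = ⊤ := by
  classical
  haveI : Nonempty (Fin m) := ⟨⟨0, hm⟩⟩
  set R := S.map (Matrix.toLinAlgEquiv' : A1 ≃ₐ[F] Module.End F V1).toAlgHom with hR
  have hmem : ∀ r : R, ∃ A ∈ S, ∀ x : V1, r • x = A *ᵥ x := fun r => by
    obtain ⟨A, hA, hAr⟩ := r.2
    refine ⟨A, hA, fun x => ?_⟩
    show (r : Module.End F V1) x = _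
    rw [← hAr]
    exact Matrix.toLinAlgEquiv'_apply A x
  have hact : ∀ A ∈ S, ∃ r : R, ∀ x : V1, r • x = A *ᵥ x := fun A hA =>
    ⟨⟨_, A, hA, rfl⟩, fun x => Matrix.toLinAlgEquiv'_apply A x⟩
  have hlin : ∀ (c : F) (x : V1), ∃ r : R, r • x = c • x ∧ ∀ y : V1, r • y = c • y := fun c x => by
    obtain ⟨r, hr⟩ := hact (c • 1) (S.smul_mem S.one_mem c)
    refine ⟨r, ?_, fun y => ?_⟩ <;> rw [hr, smul_mulVec, one_mulVec]
  haveI : IsSimpleModule R V1 := by
    haveI : Nontrivial (Submodule R V1) := (Submodule.nontrivial_iff R).2 inferInstance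
    refine isSimpleModule_iff _ _ |>.2 ⟨fun W => ?_⟩
    let W' : Submodule F V1 :=
      { carrier := W
        add_mem' := fun h h' => W.add_mem h h'
        zero_mem' := W.zero_mem
        smul_mem' := fun c x h => by
          obtain ⟨r, hr, -⟩ := hlin c x
          exact hr ▸ W.smul_mem r h }
    rcases hirr W' (fun A hA x hx => by
      obtain ⟨r, hr⟩ := hact A hA
      exact hr x ▸ W.smul_mem r hx) with h | h
    · left
      ext x
      show x ∈ W' ↔ _
      rw [h, Submodule.mem_bot, Submodule.mem_bot]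
    · right
      ext x
      show x ∈ W' ↔ _
      rw [h]
      exact iff_of_true Submodule.mem_top Submodule.mem_top
  have hend : ∀ φ : Module.End R V1, ∃ μ : F, ∀ x, φ x = μ • x := fun φ => by
    let C : V1 →ₗ[F] V1 :=
      { toFun := φ
        map_add' := φ.map_add
        map_smul' := fun c x => by
          obtain ⟨r, hr, hr'⟩ := hlin c x
          rw [RingHom.id_apply, ← hr, φ.map_smul, hr'] }
    obtain ⟨μ, hμ⟩ := hcent (LinearMap.toMatrix' C) fun A hA => by
      obtain ⟨r, hr⟩ := hact A hA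
      refine Matrix.mulVec_injective (funext fun x => ?_)
      rw [← mulVec_mulVec, ← mulVec_mulVec, LinearMap.toMatrix'_mulVec, LinearMap.toMatrix'_mulVec]
      show φ (A *ᵥ x) = A *ᵥ φ x
      rw [← hr, φ.map_smul, hr]
    refine ⟨μ, fun x => ?_⟩
    show C x = _
    rw [← LinearMap.toMatrix'_mulVec, hμ, smul_mulVec, one_mulVec]
  refine eq_top_iff.2 fun A _ => ?_
  let f : Module.End (Module.End R V1) V1 :=
    { toFun := fun x => A *ᵥ x
      map_add' := fun x y => mulVec_add A x y
      map_smul' := fun φ x => by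
        obtain ⟨μ, hμ⟩ := hend φ
        simp only [RingHom.id_apply, Module.End.smul_def, hμ, mulVec_smul] }
  obtain ⟨r, hr⟩ := jacobson_density (R := R) (M := V1) f (Finset.univ.image fun i : Fin m => (Pi.single i 1 : V1))
  obtain ⟨A', hA', hA''⟩ := hmem r
  have : A = A' := Matrix.ext fun i j => by
    have e := congrFun ((hr _ (Finset.mem_image.2 ⟨j, Finset.mem_univ _, rfl⟩)).trans
      (hA'' (Pi.single j 1))) i
    simpa [f] using e
  rwa [this]

section

variable {σ : F →+* F} {ε : F} {f : (Fin m → F) → (Fin m → F) → F} (hf : SForm σ ε f)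

/-- A transvection of the form. -/
def tmat (f : (Fin m → F) → (Fin m → F) → F) (a : Fin m → F) (c : F) : Matrix (Fin m) (Fin m) F :=
  1 + c • vecMulVec a (formVec f a)

include hf

theorem tmat_mulVec (a : V1) (c : F) (x : V1) : tmat f a c *ᵥ x = x + (c * f x a) • a := by
  rw [tmat, add_mulVec, one_mulVec, smul_mulVec, vecMulVec_mulVec, op_smul_eq_smul, hf.dot, smul_smul]

theorem tmat_mul {a : V1} (ha : f a a = 0) (c d : F) : tmat f a c * tmat f a d = tmat f a (c + d) := by
  refine Matrix.mulVec_injective (funext fun x => ?_)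
  rw [← mulVec_mulVec, tmat_mulVec hf, tmat_mulVec hf, tmat_mulVec hf, hf.lin.add_left, hf.lin.smul_left, ha]
  module

theorem tmat_zero (a : V1) : tmat f a 0 = 1 := by rw [tmat, zero_smul, add_zero]

theorem tmat_det {a : V1} (ha : f a a = 0) (c : F) : (tmat f a c).det = 1 := by
  have h : (c • formVec f a) ⬝ᵥ a = 0 := by rw [smul_dotProduct, hf.dot, ha, smul_zero]
  rw [tmat, ← vecMulVec_smul, ← coe_tv h]
  exact det_tv _ _

theorem tmat_isometry {a : V1} (ha : f a a = 0) {c : F} (hc : ε * c + σ c = 0) (x y : V1) :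
    f (tmat f a c *ᵥ x) (tmat f a c *ᵥ y) = f x y := by
  rw [tmat_mulVec hf, tmat_mulVec hf, hf.lin.add_left, hf.add_right, hf.add_right, hf.lin.smul_left,
    hf.lin.smul_left, hf.smul_right, hf.smul_right, ha, map_mul, hf.swap y a]
  linear_combination (f x a * σ (f y a)) * hc

variable (S : Subalgebra F (Matrix (Fin m) (Fin m) F))

theorem conj_tmat (hinv : Invariant f S) {a : V1} (ha : f a a = 0) {c : F} (hc : ε * c + σ c = 0)
    {A : A1} (hA : A ∈ S) : tmat f a c * A * tmat f a (-c) ∈ S :=
  hinv _ _ (by rw [tmat_mul hf ha, add_neg_cancel, tmat_zero hf]) (tmat_det hf ha c) (tmat_isometry hf ha hc) A hA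

omit hf in
/-- Three common eigenvectors on a line force equal eigenvalues. -/
theorem eig3 {A : A1} {w x : V1} (hx : x ∉ Submodule.span F {w}) (hw0 : w ≠ 0) {c d χ χc χd : F}
    (hc : c ≠ 0) (hd : d ≠ 0) (hcd : c ≠ d) (hw : A *ᵥ w = χ • w)
    (h1 : A *ᵥ (w + c • x) = χc • (w + c • x)) (h2 : A *ᵥ (w + d • x) = χd • (w + d • x)) :
    A *ᵥ x = χ • x := by
  have hind : ∀ p q : F, p • w + q • x = 0 → p = 0 ∧ q = 0 := by
    intro p q h
    by_cases hq : q = 0
    · rw [hq, zero_smul, add_zero, smul_eq_zero] at h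
      exact ⟨h.resolve_right hw0, hq⟩
    · exfalso
      refine hx (Submodule.mem_span_singleton.2 ⟨-(q⁻¹ * p), ?_⟩)
      have e : q • x = -(p • w) := eq_neg_of_add_eq_zero_right h
      rw [neg_smul, ← smul_smul, ← smul_neg, ← e, inv_smul_smul₀ hq]
  rw [mulVec_add, mulVec_smul, hw] at h1 h2
  obtain ⟨e1, e2⟩ := hind (d * (χc - χ) - c * (χd - χ)) (d * c * (χc - χd))
    (by linear_combination (norm := module) -(d • h1) + c • h2)
  have hχ : χc = χd := by
    rcases mul_eq_zero.1 e2 with e | e
    · exact absurd e (mul_ne_zero hd hc)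
    · exact sub_eq_zero.1 e
  rw [hχ, ← sub_mul] at e1
  have hχd : χd = χ := sub_eq_zero.1 ((mul_eq_zero.1 e1).resolve_left (sub_ne_zero.2 hcd.symm))
  rw [hχ, hχd] at h1
  have e : c • (A *ᵥ x) = c • (χ • x) := by linear_combination (norm := module) h1
  exact smul_right_injective _ hc e

variable {S}

/-- A subspace invariant under all transvection directions is everything. -/
theorem eq_top_of_dirs (hP : ∀ a : V1, a ≠ 0 → f a a = 0 → Submodule.span F {b | f b b = 0 ∧ f b a ≠ 0} = ⊤)
    (ha0 : ∃ a : V1, a ≠ 0 ∧ f a a = 0) {W : Submodule F V1} (hW : W ≠ ⊥)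
    (hdir : ∀ a, f a a = 0 → ∀ x ∈ W, f x a • a ∈ W) : W = ⊤ := by
  have hmem : ∀ a, f a a = 0 → (∃ x ∈ W, f x a ≠ 0) → a ∈ W := fun a ha ⟨x, hx, hxa⟩ => by
    have := W.smul_mem (f x a)⁻¹ (hdir a ha x hx)
    rwa [inv_smul_smul₀ hxa] at this
  obtain ⟨a, ha, haa⟩ := ha0
  -- some isotropic vector lies in `W`
  obtain ⟨a0, ha0, ha00, ha0W⟩ : ∃ a0, a0 ≠ 0 ∧ f a0 a0 = 0 ∧ a0 ∈ W := by
    by_contra hc
    push Not at hc
    obtain ⟨x, hx, hx0⟩ := Submodule.exists_mem_ne_zero_of_ne_bot hW
    refine hx0 (hf.eq_of_left fun u => ?_)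
    rw [form_zero_left hf.lin]
    have hle : Submodule.span F {b | f b b = 0 ∧ f b a ≠ 0} ≤
        LinearMap.ker (Matrix.mulVecLin (Matrix.of fun _ : Fin 1 => formVec f x)) := by
      rw [Submodule.span_le]
      rintro b ⟨hb, hba⟩
      have hb0 : b ≠ 0 := fun e => hba (by rw [e, form_zero_left hf.lin])
      refine LinearMap.mem_ker.2 (funext fun _ => ?_)
      show formVec f x ⬝ᵥ b = 0
      rw [hf.dot]
      by_contra hbx
      exact hc b hb0 hb (hmem b hb ⟨x, hx, fun e => hbx (hf.eq_zero_comm e)⟩)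
    rw [hP a ha haa] at hle
    refine hf.eq_zero_comm ?_
    have e := congrFun (LinearMap.mem_ker.1 (hle (Submodule.mem_top : u ∈ ⊤))) 0
    rw [← hf.dot]
    exact e
  refine eq_top_iff.2 ?_
  rw [← hP a0 ha0 ha00, Submodule.span_le]
  rintro b ⟨hb, hba⟩
  exact hmem b hb ⟨a0, ha0W, fun e => hba (hf.eq_zero_comm e)⟩

/-- A subalgebra normalised by transvections without common eigenvector is everything. -/
theorem eq_top (hinv : Invariant f S) (hm : 2 ≤ m)
    (hP : ∀ a : V1, a ≠ 0 → f a a = 0 → Submodule.span F {b | f b b = 0 ∧ f b a ≠ 0} = ⊤)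
    (ha0 : ∃ a : V1, a ≠ 0 ∧ f a a = 0) (hc0 : ∃ c : F, c ≠ 0 ∧ ε * c + σ c = 0)
    (hex : 3 ≤ m ∨ ∃ c d : F, c ≠ 0 ∧ d ≠ 0 ∧ c ≠ d ∧ ε * c + σ c = 0 ∧ ε * d + σ d = 0)
    (hline : ∀ w : V1, w ≠ 0 → ¬ ∀ A ∈ S, A *ᵥ w ∈ Submodule.span F {w}) : S = ⊤ := by
  obtain ⟨c0, hc0, hc0'⟩ := hc0
  have hneg : ∀ {c : F}, ε * c + σ c = 0 → ε * -c + σ (-c) = 0 := fun {c} h => by
    rw [map_neg]; linear_combination -h
  have hirr : ∀ W : Submodule F V1, (∀ A ∈ S, ∀ x ∈ W, A *ᵥ x ∈ W) → W = ⊥ ∨ W = ⊤ := by
    intro W hW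
    induction h : Module.finrank F W using Nat.strong_induction_on generalizing W with
    | _ n ih =>
      subst h
      by_cases hbot : W = ⊥
      · exact Or.inl hbot
      refine Or.inr ?_
      by_contra htop
      refine htop (eq_top_of_dirs hf hP ha0 hbot fun a haa x hx => ?_)
      set t := Matrix.mulVecLin (tmat f a c0)
      have ht' : ∀ y, t (tmat f a (-c0) *ᵥ y) = y := fun y => by
        show tmat f a c0 *ᵥ (tmat f a (-c0) *ᵥ y) = y
        rw [mulVec_mulVec, tmat_mul hf haa, add_neg_cancel, tmat_zero hf, one_mulVec]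
      have htW : ∀ A ∈ S, ∀ y ∈ W.map t, A *ᵥ y ∈ W.map t := by
        rintro A hA _ ⟨y, hy, rfl⟩
        refine ⟨_, hW _ (conj_tmat hf S hinv haa (hneg hc0') hA) y hy, ?_⟩
        rw [neg_neg, ← mulVec_mulVec, ← mulVec_mulVec, ht']
        rfl
      set W' := W ⊓ W.map t
      have hW' : ∀ A ∈ S, ∀ y ∈ W', A *ᵥ y ∈ W' := fun A hA y hy => ⟨hW A hA y hy.1, htW A hA y hy.2⟩
      by_cases heq : W' = W
      · -- the transvection preserves `W`
        have htinj : Function.Injective t := fun p q e => by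
          have := congrArg (fun z => tmat f a (-c0) *ᵥ z) (show tmat f a c0 *ᵥ p = tmat f a c0 *ᵥ q from e)
          simpa [mulVec_mulVec, tmat_mul hf haa, tmat_zero hf] using this
        have hle : W ≤ W.map t := fun y hy => (heq.symm ▸ hy : y ∈ W').2
        have he : W = W.map t := Submodule.eq_of_le_of_finrank_le hle (Submodule.finrank_map_le _ _)
        have h1 : t x ∈ W := he.symm ▸ (⟨x, hx, rfl⟩ : t x ∈ W.map t)
        have h2 := W.sub_mem h1 hx
        rw [show t x = tmat f a c0 *ᵥ x from rfl, tmat_mulVec hf, add_sub_cancel_left, ← smul_smul] at h2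
        have := W.smul_mem c0⁻¹ h2
        rwa [inv_smul_smul₀ hc0] at this
      · exfalso
        have hlt : Module.finrank F W' < Module.finrank F W :=
          Submodule.finrank_lt_finrank_of_lt (lt_of_le_of_ne inf_le_left heq)
        rcases ih _ hlt W' hW' rfl with h0 | h0
        · -- the orthogonal of the direction meets `W` trivially
          let A' : W →ₗ[F] F :=
            { toFun := fun y => f (y : V1) a
              map_add' := fun p q => by rw [Submodule.coe_add, hf.lin.add_left]
              map_smul' := fun s p => by rw [Submodule.coe_smul, hf.lin.smul_left]; rfl }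
          have hinj : Function.Injective A' := by
            rw [injective_iff_map_eq_zero]
            rintro ⟨y, hy⟩ (hya : f y a = 0)
            have : y ∈ W' := ⟨hy, y, hy, by
              show tmat f a c0 *ᵥ y = y
              rw [tmat_mulVec hf, hya, mul_zero, zero_smul, add_zero]⟩
            rw [h0, Submodule.mem_bot] at this
            exact Subtype.ext this
          have hd := LinearMap.finrank_le_finrank_of_injective hinj
          rw [Module.finrank_self] at hd
          obtain ⟨w, hwW, hw⟩ := Submodule.exists_mem_ne_zero_of_ne_bot hbot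
          have hWw : W = Submodule.span F {w} := (Submodule.eq_of_le_of_finrank_le
            ((Submodule.span_singleton_le_iff_mem _ _).2 hwW) (by rw [finrank_span_singleton hw]; exact hd)).symm
          exact hline w hw fun A hA => hWw ▸ hW A hA w hwW
        · exact htop (top_le_iff.1 (h0 ▸ inf_le_left))
  refine eq_top_of_irreducible S (by omega) hirr fun C hC => ?_
  -- the centraliser
  have hkill : ∀ (D : A1), (∀ A ∈ S, D * A = A * D) → ∀ x : V1, x ≠ 0 → D *ᵥ x = 0 → D = 0 := by
    intro D hD x hx hDx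
    rcases hirr (LinearMap.ker (Matrix.mulVecLin D)) (fun A hA y hy => by
      rw [LinearMap.mem_ker, Matrix.mulVecLin_apply] at hy ⊢
      rw [mulVec_mulVec, hD A hA, ← mulVec_mulVec, hy, mulVec_zero]) with h | h
    · exact absurd ((Submodule.mem_bot F).1 (h ▸ (LinearMap.mem_ker.2 hDx : x ∈ LinearMap.ker D.mulVecLin))) hx
    · refine Matrix.mulVec_injective (funext fun y => ?_)
      have : y ∈ LinearMap.ker (Matrix.mulVecLin D) := h ▸ Submodule.mem_top
      rw [LinearMap.mem_ker, Matrix.mulVecLin_apply] at this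
      rw [this, zero_mulVec]
  have hscal : ∀ x : V1, x ≠ 0 → ∀ μ : F, C *ᵥ x = μ • x → ∃ μ : F, C = μ • 1 := by
    intro x hx μ hμ
    refine ⟨μ, sub_eq_zero.1 (hkill _ (fun A hA => ?_) x hx ?_)⟩
    · rw [sub_mul, mul_sub, hC A hA, Matrix.smul_mul, Matrix.mul_smul, one_mul, mul_one]
    · rw [sub_mulVec, smul_mulVec, one_mulVec, hμ, sub_self]
  obtain ⟨a, ha, haa⟩ := ha0
  have hcj : ∀ {c : F}, ε * c + σ c = 0 → ∀ A ∈ S,
      (tmat f a c * C * tmat f a (-c)) * A = A * (tmat f a c * C * tmat f a (-c)) := by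
    intro c hc A hA
    have e := hC _ (conj_tmat hf S hinv haa (hneg hc) hA)
    rw [neg_neg] at e
    have e1 := congrArg (fun Z => tmat f a c * Z * tmat f a (-c)) e
    have h1 : tmat f a c * tmat f a (-c) = 1 := by rw [tmat_mul hf haa, add_neg_cancel, tmat_zero hf]
    calc tmat f a c * C * tmat f a (-c) * A
        = tmat f a c * C * tmat f a (-c) * A * (tmat f a c * tmat f a (-c)) := by rw [h1, mul_one]
      _ = tmat f a c * (C * (tmat f a (-c) * A * tmat f a c)) * tmat f a (-c) := by simp only [Matrix.mul_assoc]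
      _ = tmat f a c * (tmat f a (-c) * A * tmat f a c * C) * tmat f a (-c) := e1
      _ = (tmat f a c * tmat f a (-c)) * A * (tmat f a c * C * tmat f a (-c)) := by simp only [Matrix.mul_assoc]
      _ = _ := by rw [h1, Matrix.one_mul]
  have hcomm : ∀ {c : F}, ε * c + σ c = 0 → ∀ A ∈ S, (tmat f a c * C * tmat f a (-c) - C) * A =
      A * (tmat f a c * C * tmat f a (-c) - C) := fun {c} hc A hA => by
    rw [sub_mul, mul_sub, hcj hc A hA, hC A hA]
  have hexp : ∀ (c : F) (x : V1), (tmat f a c * C * tmat f a (-c) - C) *ᵥ x =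
      c • (f (C *ᵥ x) a • a - f x a • (C *ᵥ a)) - (c * c * (f x a * f (C *ᵥ a) a)) • a := by
    intro c x
    rw [sub_mulVec, ← mulVec_mulVec, ← mulVec_mulVec, tmat_mulVec hf a (-c), mulVec_add, mulVec_smul,
      tmat_mulVec hf, hf.lin.add_left, hf.lin.smul_left]
    module
  rcases hex with h3 | ⟨c, d, hc, hd, hcd, hc', hd'⟩
  · obtain ⟨x, hx, hxz⟩ := exists_common_zero_not_mem (⊥ : Submodule F V1)
      ![formVec f a, formVec f a ᵥ* C] (by rw [finrank_bot, Fintype.card_fin]; omega)
    have hxa : f x a = 0 := by have := hxz 0; rwa [show ![formVec f a, formVec f a ᵥ* C] 0 = formVec f a from rfl, hf.dot] at this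
    have hCxa : f (C *ᵥ x) a = 0 := by
      have := hxz 1
      rwa [show ![formVec f a, formVec f a ᵥ* C] 1 = formVec f a ᵥ* C from rfl, ← dotProduct_mulVec, hf.dot]
        at this
    have h0 := hkill _ (hcomm hc0') x (by simpa using hx) (by rw [hexp, hxa, hCxa]; simp)
    obtain ⟨y, hy⟩ := hf.exists_one ha
    have e := hexp c0 y
    rw [h0, zero_mulVec, hy, one_smul, one_mul] at e
    refine hscal a ha (f (C *ᵥ y) a - c0 * f (C *ᵥ a) a) (smul_right_injective _ hc0 ?_)
    linear_combination (norm := module) e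
  · -- two transvections on one centre
    have hN : ∀ A ∈ S, vecMulVec a (f (C *ᵥ a) a • formVec f a) * A =
        A * vecMulVec a (f (C *ᵥ a) a • formVec f a) := by
      intro A hA
      have e : (c * d * (d - c)) • vecMulVec a (f (C *ᵥ a) a • formVec f a) =
          d • (tmat f a c * C * tmat f a (-c) - C) - c • (tmat f a d * C * tmat f a (-d) - C) := by
        refine Matrix.mulVec_injective (funext fun x => ?_)
        rw [sub_mulVec, smul_mulVec, smul_mulVec, smul_mulVec, hexp, hexp, vecMulVec_mulVec, op_smul_eq_smul,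
          smul_dotProduct, hf.dot, smul_eq_mul]
        module
      have e' : (c * d * (d - c)) • (vecMulVec a (f (C *ᵥ a) a • formVec f a) * A) =
          (c * d * (d - c)) • (A * vecMulVec a (f (C *ᵥ a) a • formVec f a)) := by
        rw [← Matrix.smul_mul, ← Matrix.mul_smul, e, sub_mul, mul_sub, Matrix.smul_mul, Matrix.smul_mul,
          Matrix.mul_smul, Matrix.mul_smul, hcomm hc' A hA, hcomm hd' A hA]
      exact smul_right_injective _ (mul_ne_zero (mul_ne_zero hc hd) (sub_ne_zero.2 hcd.symm)) e'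
    have h0 := hkill _ hN a ha (by
      rw [vecMulVec_mulVec, op_smul_eq_smul, smul_dotProduct, hf.dot, haa, smul_zero, zero_smul])
    have hCa : f (C *ᵥ a) a = 0 := by
      obtain ⟨y, hy⟩ := hf.exists_one ha
      have e := congrArg (fun Z => Z *ᵥ y) h0
      simp only [vecMulVec_mulVec, op_smul_eq_smul, smul_dotProduct, hf.dot, hy, smul_eq_mul, mul_one,
        zero_mulVec, smul_eq_zero] at e
      exact e.resolve_right ha
    by_cases h3 : C *ᵥ a ∈ Submodule.span F {a}
    · obtain ⟨μ, hμ⟩ := Submodule.mem_span_singleton.1 h3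
      exact hscal a ha μ hμ.symm
    · -- the orthogonal of `a` would be too large
      obtain ⟨y, hy⟩ := hf.exists_one ha
      by_cases h3' : 3 ≤ m
      · obtain ⟨x, hx, hxz⟩ := exists_common_zero_not_mem (⊥ : Submodule F V1)
          ![formVec f a, formVec f a ᵥ* C] (by rw [finrank_bot, Fintype.card_fin]; omega)
        have hxa : f x a = 0 := by have := hxz 0; rwa [show ![formVec f a, formVec f a ᵥ* C] 0 = formVec f a from rfl, hf.dot] at this
        have hCxa : f (C *ᵥ x) a = 0 := by
          have := hxz 1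
          rwa [show ![formVec f a, formVec f a ᵥ* C] 1 = formVec f a ᵥ* C from rfl, ← dotProduct_mulVec, hf.dot]
            at this
        have h0 := hkill _ (hcomm hc') x (by simpa using hx) (by rw [hexp, hxa, hCxa]; simp)
        have e := hexp c y
        rw [h0, zero_mulVec, hy, one_smul, one_mul] at e
        refine hscal a ha (f (C *ᵥ y) a - c * f (C *ᵥ a) a) (smul_right_injective _ hc ?_)
        linear_combination (norm := module) e
      · exfalso
        apply h3
        have hm2 : m = 2 := by omega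
        let A' : V1 →ₗ[F] F :=
          { toFun := fun y => f y a
            map_add' := fun p q => hf.lin.add_left _ _ _
            map_smul' := fun s p => hf.lin.smul_left _ _ _ }
        have hd1 := LinearMap.finrank_range_add_finrank_ker A'
        have hr : LinearMap.range A' = ⊤ := LinearMap.range_eq_top.2 fun s => ⟨s • y, by
          show f (s • y) a = s; rw [hf.lin.smul_left, hy, mul_one]⟩
        rw [hr, finrank_top, Module.finrank_self, Module.finrank_fin_fun] at hd1
        have heq : Submodule.span F {a} = LinearMap.ker A' := Submodule.eq_of_le_of_finrank_le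
          ((Submodule.span_singleton_le_iff_mem _ _).2 (LinearMap.mem_ker.2 (show f a a = 0 from haa)))
          (by rw [finrank_span_singleton ha]; omega)
        rw [heq]
        exact hCa

end

end Cfsg.Agent.Lib.TensorFormMax.InvariantAlgebra
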