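import Cfsg.Agent.Lib.TensorFormMax.Radical
import Cfsg.Agent.Lib.TensorFormMax.InvariantAlgebra

/-!
The coefficient algebra of the radical elements: a radical element outside the tensor product stabiliser gives
a non-scalar coefficient, and the coefficients available along every pair form a subalgebra.
-/

set_option autoImplicit false

namespace Cfsg.Agent.Lib.TensorFormMax.Algebra

open Matrix Kronecker
open Cfsg.Agent.Lib.Subspaces.Transvection Cfsg.Agent.Lib.Subspaces.FormVec
  Cfsg.Agent.Lib.TensorMax.Block Cfsg.Agent.Lib.TensorMax.Lemmas Cfsg.Agent.Lib.TensorFormMax.Basic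
  Cfsg.Agent.Lib.TensorFormMax.Radical

variable {F : Type*} [Field F] {m k : ℕ} {σ : F →+* F} {ε : F}
  {f₁ : (Fin m → F) → (Fin m → F) → F} {f₂ : (Fin k → F) → (Fin k → F) → F}
  {B : (Fin m × Fin k → F) → (Fin m × Fin k → F) → F} {M : Subgroup (GL (Fin m × Fin k) F)}

local notation "V1" => Fin m → F
local notation "V2" => Fin k → F
local notation "Big" => Matrix (Fin m × Fin k) (Fin m × Fin k) F
local notation "A1" => Matrix (Fin m) (Fin m) F
local notation "G" => GL (Fin m × Fin k) F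

/-- Isotropic vectors with prescribed products. -/
structure Duals {k : ℕ} (f : (Fin k → F) → (Fin k → F) → F) : Prop where
  two : ∀ v s, Pair f v s → ∃ w, f w w = 0 ∧ f w v = 1 ∧ f w s = 0
  three : ∀ v s r, Pair f v s → Pair f v r → r ∉ Submodule.span F {v} ⊔ Submodule.span F {s} →
    ∃ t, f t t = 0 ∧ f t v = 0 ∧ f t s = 1 ∧ f r t = 1

/-- The coefficient is available along every pair. -/
def AllHas (f₂ : (Fin k → F) → (Fin k → F) → F) (M : Subgroup (GL (Fin m × Fin k) F))
    (A : Matrix (Fin m) (Fin m) F) : Prop :=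
  ∀ v s, Pair f₂ v s → Has f₂ M v A s

/-- Isotropic dual vectors, and the sliding of the second vector of a pair across a plane. -/
structure Slides {m k : ℕ} (f : (Fin k → F) → (Fin k → F) → F) (M : Subgroup (GL (Fin m × Fin k) F)) : Prop where
  two : ∀ v s, Pair f v s → ∃ w, f w w = 0 ∧ f w v = 1 ∧ f w s = 0
  slide : ∀ (v s r : Fin k → F) (A : Matrix (Fin m) (Fin m) F), Pair f v s → Pair f v r →
    r ∉ Submodule.span F {v} ⊔ Submodule.span F {s} → Has f M v A s → Has f M v A r

/-- Duals for two vectors at once give the sliding. -/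
theorem Duals.slides (D : Duals f₂) (S : Setting σ ε f₁ f₂ B M) : Slides f₂ M where
  two := D.two
  slide v s r A hs hr hn h := by
    obtain ⟨t, htt, htv, hts, hrt⟩ := D.three v s r hs hr hn
    have h1 := Has.slide S hs.ne hs.left htt htv h
    rw [hts, one_smul] at h1
    have h2 := Has.slide S hs.ne hs.left hr.right hr.orth h1
    rwa [hrt, one_smul] at h2

variable [Finite F] (S : Setting σ ε f₁ f₂ B M) (D : Slides f₂ M)
include S

/-- The action of an element on the second factor. -/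
theorem exists_eichler_right {v s : V2} (hv : f₂ v v = 0) (hs : f₂ s s = 0) (hsv : f₂ s v = 0) :
    ∃ g ∈ M, ∀ (a : V1) (w : V2), (g : Big) *ᵥ tens a w = tens a (w + f₂ w s • v + f₂ w v • s) := by
  obtain ⟨g, hg, hgz⟩ := BlkKron.exists_eichler S hv hs hsv
  refine ⟨g, hg, fun a w => ?_⟩
  rw [hgz, S.ctr_form_tens, S.ctr_form_tens, tens_add_right, tens_add_right, tens_smul_left, tens_smul_left,
    tens_smul_right, tens_smul_right]

theorem has_one {v s : V2} (hv : f₂ v v = 0) (hs : f₂ s s = 0) (hsv : f₂ s v = 0) : Has f₂ M v 1 s := by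
  obtain ⟨g, hg, hgz⟩ := BlkKron.exists_eichler S hv hs hsv
  refine ⟨g, hg, fun u => ?_, fun z hz => ?_⟩
  · rw [hgz, S.ctr_form_tens, S.ctr_form_tens, hv, S.h2.eq_zero_comm hsv, zero_smul, tens_zero_left,
      tens_zero_left, add_zero, add_zero]
  · rw [hgz, hz, tens_zero_left, add_zero]
    dsimp only
    rw [one_mulVec]

theorem has_zero (v s : V2) : Has f₂ M v 0 s :=
  ⟨1, M.one_mem, fun u => by rw [Units.val_one, one_mulVec], fun z _ => by
    rw [Units.val_one, one_mulVec]; dsimp only; rw [zero_mulVec, tens_zero_left, add_zero]⟩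

theorem exists_pair_at {v : V2} (hv : v ≠ 0) (hvv : f₂ v v = 0) : ∃ s, Pair f₂ v s := by
  have := S.hk
  obtain ⟨s, hs, hsv, hsn⟩ := S.exists_second hv hvv (T := Submodule.span F {v})
    (by rw [finrank_span_singleton hv]; omega)
  exact ⟨s, hv, hvv, hs, hsv, hsn⟩

theorem pair_symm {v s : V2} (h : Pair f₂ v s) : Pair f₂ s v :=
  ⟨fun e => h.indep (by rw [e]; exact Submodule.zero_mem _), h.right, h.left, S.h2.eq_zero_comm h.orth,
    fun e => by
      obtain ⟨c, hc⟩ := Submodule.mem_span_singleton.1 e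
      have hc0 : c ≠ 0 := fun e0 => h.ne (by rw [← hc, e0, zero_smul])
      exact h.indep (Submodule.mem_span_singleton.2 ⟨c⁻¹, by rw [← hc, inv_smul_smul₀ hc0]⟩)⟩

include D

theorem has_slide {v s r : V2} {A : A1} (hs : Pair f₂ v s) (hr : Pair f₂ v r) (h : Has f₂ M v A s) :
    Has f₂ M v A r := by
  have step : ∀ {s r : V2}, Pair f₂ v s → Pair f₂ v r →
      r ∉ Submodule.span F {v} ⊔ Submodule.span F {s} → Has f₂ M v A s → Has f₂ M v A r :=
    fun {s r} hs hr hn h => D.slide v s r A hs hr hn h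
  by_cases hn : r ∈ Submodule.span F {v} ⊔ Submodule.span F {s}
  swap
  · exact step hs hr hn h
  have := S.hk
  obtain ⟨r0, h0, h0v, h0n⟩ := S.exists_second hs.ne hs.left
    (T := Submodule.span F {v} ⊔ Submodule.span F {s}) (by
      have h1 : Module.finrank F (Submodule.span F {v}) ≤ 1 := (finrank_span_le_card _).trans (by simp)
      have h2 : Module.finrank F (Submodule.span F {s}) ≤ 1 := (finrank_span_le_card _).trans (by simp)
      have := Submodule.finrank_add_le_finrank_add_finrank (Submodule.span F {v}) (Submodule.span F {s})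
      omega)
  have hp0 : Pair f₂ v r0 := ⟨hs.ne, hs.left, h0, h0v, fun e => h0n (Submodule.mem_sup_left e)⟩
  refine step hp0 hr (fun e => ?_) (step hs hp0 h0n h)
  obtain ⟨x, hx, y, hy, hxy⟩ := Submodule.mem_sup.1 e
  obtain ⟨c, rfl⟩ := Submodule.mem_span_singleton.1 hy
  have hc : c ≠ 0 := fun e0 => hr.indep (by rw [e0, zero_smul, add_zero] at hxy; exact hxy ▸ hx)
  refine h0n ?_
  rw [show r0 = c⁻¹ • (r - x) by rw [← hxy, add_sub_cancel_left, inv_smul_smul₀ hc]]
  exact Submodule.smul_mem _ _ (Submodule.sub_mem _ hn (Submodule.mem_sup_left hx))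

/-- Transport of the first vector along an orthogonal pair. -/
theorem exists_move {v u : V2} (h : Pair f₂ v u) : ∃ (g : G) (N : V2 → V2), g ∈ M ∧
    (∀ (a : V1) (w : V2), (g : Big) *ᵥ tens a w = tens a (N w)) ∧ N v = u := by
  obtain ⟨w, hw, hwv, hwu⟩ := D.two v u h
  obtain ⟨w', hw', hwu', hwv'⟩ := D.two u v (pair_symm S h)
  have hneg : ∀ x y : V2, f₂ ((-1 : F) • x) y = -f₂ x y := fun x y => by rw [S.h2.lin.smul_left]; ring
  have hneg' : ∀ x y : V2, f₂ x ((-1 : F) • y) = -f₂ x y := fun x y => by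
    rw [S.h2.smul_right, map_neg, map_one]; ring
  obtain ⟨g1, hg1, hN1⟩ := exists_eichler_right S (v := (-1 : F) • w) (s := u)
    (by rw [hneg, hneg', hw, neg_zero, neg_zero]) h.right (by rw [hneg', S.h2.eq_zero_comm hwu, neg_zero])
  obtain ⟨g2, hg2, hN2⟩ := exists_eichler_right S (v := (-1 : F) • w') (s := (-1 : F) • v)
    (by rw [hneg, hneg', hw', neg_zero, neg_zero]) (by rw [hneg, hneg', h.left, neg_zero, neg_zero])
    (by rw [hneg, hneg', S.h2.eq_zero_comm hwv', neg_zero, neg_zero])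
  refine ⟨g2 * g1, _, M.mul_mem hg2 hg1, fun a x => by rw [gl_mul_mulVec, hN1, hN2], ?_⟩
  have hvw : f₂ v w = -1 := by rw [S.h2.swap, hwv, map_one, mul_one]
  have huw : f₂ u w' = -1 := by rw [S.h2.swap, hwu', map_one, mul_one]
  have e1 : v + f₂ v u • ((-1 : F) • w) + f₂ v ((-1 : F) • w) • u = v + u := by
    rw [S.h2.eq_zero_comm h.orth, zero_smul, add_zero, hneg', hvw, neg_neg, one_smul]
  rw [e1, hneg', hneg', S.h2.lin.add_left, S.h2.lin.add_left, h.left, h.orth, huw,
    S.h2.eq_zero_comm hwv']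
  module

theorem has_move {v u s : V2} {A : A1} (hs : Pair f₂ v s) (h : Has f₂ M v A s) (hu : Pair f₂ v u) :
    ∃ s', Pair f₂ u s' ∧ Has f₂ M u A s' := by
  obtain ⟨g, N, hg, hN, hNv⟩ := exists_move S D hu
  obtain ⟨p, q, hpq⟩ := S.exists_pair
  have hiso : ∀ x y, f₂ (N x) (N y) = f₂ x y := fun x y => by
    have := S.iso g hg (tens p x) (tens q y)
    rw [hN, hN, S.B_tens, S.B_tens] at this
    exact mul_right_cancel₀ hpq this
  refine ⟨N s, ⟨(pair_symm S hu).ne, hu.right, by rw [hiso, hs.right], by rw [← hNv, hiso, hs.orth], fun e => ?_⟩,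
    Has.move S h hg (fun a => by rw [hN, hNv]) fun a => hN a s⟩
  obtain ⟨c, hc⟩ := Submodule.mem_span_singleton.1 e
  refine hs.indep (Submodule.mem_span_singleton.2 ⟨c, ?_⟩)
  have hp : p ≠ 0 := fun e0 => hpq (by rw [e0, form_zero_left S.h1.lin])
  have h1 : (g : Big) *ᵥ tens p (c • v) = (g : Big) *ᵥ tens p s := by
    rw [tens_smul_right, mulVec_smul, hN, hN, hNv, ← hc, tens_smul_right]
  obtain ⟨i, hi⟩ := Function.ne_iff.1 hp
  funext d
  exact mul_left_cancel₀ hi (congrFun (gl_mulVec_injective g h1) (i, d))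

/-- One coefficient gives all. -/
theorem allHas_of_has {v s : V2} {A : A1} (hs : Pair f₂ v s) (h : Has f₂ M v A s) : AllHas f₂ M A := by
  intro v' r hr
  have := S.hk
  have direct : ∀ {a b c : V2}, Pair f₂ a b → Has f₂ M a A b → Pair f₂ a c →
      ∀ d, Pair f₂ c d → Has f₂ M c A d := fun {a b c} hab h hac d hcd => by
    obtain ⟨s', hs', h'⟩ := has_move S D hab h hac
    exact has_slide S D hs' hcd h'
  by_cases hmem : v' ∈ Submodule.span F {v}
  · obtain ⟨c, rfl⟩ := Submodule.mem_span_singleton.1 hmem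
    have hc : c ≠ 0 := fun e => hr.ne (by rw [e, zero_smul])
    have hsc : Pair f₂ s (c • v) := by
      have h' := pair_symm S hs
      refine ⟨h'.ne, h'.left, hr.left, by rw [S.h2.lin.smul_left, h'.orth, mul_zero], fun e => h'.indep ?_⟩
      have := Submodule.smul_mem _ c⁻¹ e
      rwa [inv_smul_smul₀ hc] at this
    exact direct (pair_symm S hs) (direct hs h hs v (pair_symm S hs)) hsc r hr
  by_cases hd : f₂ v' v = 0
  · exact direct hs h ⟨hs.ne, hs.left, hr.left, hd, hmem⟩ r hr
  obtain ⟨u, hu, huu, huo⟩ := S.rich.orth 2 ![v, v'] (by omega)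
  have huv : f₂ u v = 0 := huo 0
  have huv' : f₂ u v' = 0 := huo 1
  have h1 : Pair f₂ v u := ⟨hs.ne, hs.left, huu, huv, fun e => by
    obtain ⟨c, rfl⟩ := Submodule.mem_span_singleton.1 e
    have hc : c ≠ 0 := fun e0 => hu (by rw [e0, zero_smul])
    rw [S.h2.lin.smul_left, mul_eq_zero] at huv'
    exact hd (S.h2.eq_zero_comm (huv'.resolve_left hc))⟩
  have h2 : Pair f₂ u v' := ⟨hu, huu, hr.left, S.h2.eq_zero_comm huv', fun e => by
    obtain ⟨c, rfl⟩ := Submodule.mem_span_singleton.1 e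
    rw [S.h2.lin.smul_left, huv, mul_zero] at hd
    exact hd rfl⟩
  exact direct h1 (has_slide S D hs h1 h |> fun h' => h') h1 v' h2 |> fun h' =>
    direct h2 h' h2 r hr

theorem eq_el_of_fix {v : V2} (hv : v ≠ 0) (hvv : f₂ v v = 0) {x : G} (hx : x ∈ M)
    (hperp : ∀ z, ctr (formVec f₂ v) z = 0 → (x : Big) *ᵥ z = z) :
    ∃ A : A1, (x : Big) = 1 + el A v (formVec f₂ v) := by
  obtain ⟨w, hw⟩ := S.h2.exists_one hv
  have hblock : ∀ a, ∃ b, (x : Big) *ᵥ tens a w = tens a w + tens b v := fun a => by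
    obtain ⟨b, hb⟩ := mem_block S hv hvv (d := (x : Big) *ᵥ tens a w - tens a w) fun z hz => by
      have hR : ∀ p q r, B p (q - r) = B p q - B p r := fun p q r => by
        rw [eq_sub_iff_add_eq, ← S.addR, sub_add_cancel]
      have h1 := S.iso x hx z (tens a w)
      rw [hperp z hz] at h1
      rw [hR, h1, sub_self]
    exact ⟨b, by rw [← hb, add_sub_cancel]⟩
  choose b hb using hblock
  let L : V1 →ₗ[F] V1 :=
    { toFun := b
      map_add' := fun p q => tens_injective hv (show tens (b (p + q)) v = tens (b p + b q) v by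
        refine add_left_cancel (a := tens (p + q) w) ?_
        rw [← hb, tens_add_left, mulVec_add, hb, hb, tens_add_left]
        abel)
      map_smul' := fun c p => tens_injective hv (show tens (b (c • p)) v = tens (c • b p) v by
        refine add_left_cancel (a := tens (c • p) w) ?_
        rw [← hb, tens_smul_left, mulVec_smul, hb, tens_smul_left, smul_add]) }
  refine ⟨LinearMap.toMatrix' L, Matrix.mulVec_injective (funext fun z => ?_)⟩
  rw [add_mulVec, one_mulVec, el_mulVec, LinearMap.toMatrix'_mulVec]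
  set c := ctr (formVec f₂ v) z
  have hz0 : ctr (formVec f₂ v) (z - tens c w) = 0 := by
    rw [ctr_sub, S.ctr_form_tens, hw, one_smul, sub_self]
  conv_lhs => rw [← sub_add_cancel z (tens c w), mulVec_add, hperp _ hz0, hb]
  show z - tens c w + (tens c w + tens (b c) v) = z + tens (b c) v
  abel

/-- A radical element outside the stabiliser gives a coefficient which is not scalar. -/
theorem exists_nonscalar (hG : ¬ NoRadical f₂ M) : ∃ A : A1, (∀ c : F, A ≠ c • 1) ∧ AllHas f₂ M A := by
  classical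
  simp only [NoRadical, not_forall] at hG
  obtain ⟨v, hv, hvv, x, hx, hfix, hperp, hxk⟩ := hG
  choose L0 hL0 using hperp
  let L : (Fin m × Fin k → F) → V1 := fun z => if h : ctr (formVec f₂ v) z = 0 then L0 z h else 0
  have hact : Acts f₂ v x L := ⟨hfix, fun z hz => by
    simp only [L, dif_pos hz]
    rw [← hL0 z hz, add_sub_cancel]⟩
  have hperpT : ∀ (a : V1) {w : V2}, f₂ w v = 0 → ctr (formVec f₂ v) (tens a w) = 0 := fun a w h => by
    rw [S.ctr_form_tens, h, zero_smul]
  have hadd : ∀ {z z'}, ctr (formVec f₂ v) z = 0 → ctr (formVec f₂ v) z' = 0 → L (z + z') = L z + L z' := by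
    intro z z' hz hz'
    refine Acts.eq_of S hv hact (by rw [ctr_add, hz, hz', add_zero]) ?_
    rw [mulVec_add, hact.2 z hz, hact.2 z' hz', tens_add_left]
    abel
  have hsmul : ∀ (c : F) {z}, ctr (formVec f₂ v) z = 0 → L (c • z) = c • L z := fun c z hz => by
    refine Acts.eq_of S hv hact (by rw [ctr_smul, hz, smul_zero]) ?_
    rw [mulVec_smul, hact.2 z hz, smul_add, tens_smul_left]
  let Lw : ∀ w : V2, f₂ w v = 0 → V1 →ₗ[F] V1 := fun w hw =>
    { toFun := fun a => L (tens a w)
      map_add' := fun a b => by rw [tens_add_left, hadd (hperpT a hw) (hperpT b hw)]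
      map_smul' := fun c a => by rw [RingHom.id_apply, tens_smul_left, hsmul c (hperpT a hw)] }
  by_contra hc
  push Not at hc
  -- every coefficient is scalar
  have hsc : ∀ s, f₂ s s = 0 → f₂ s v = 0 → ∃ c : F, ∀ a, L (tens a s) = c • a := by
    intro s hs hsv
    by_cases hmem : s ∈ Submodule.span F {v}
    · obtain ⟨d, rfl⟩ := Submodule.mem_span_singleton.1 hmem
      refine ⟨0, fun a => Acts.eq_of S hv hact (hperpT a hsv) ?_⟩
      rw [tens_smul_right, mulVec_smul, hfix, zero_smul, tens_zero_left, add_zero]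
    · have hp : Pair f₂ v s := ⟨hv, hvv, hs, hsv, hmem⟩
      have hh := qroot S hv hvv hs hsv hx hact (A := LinearMap.toMatrix' (Lw s hsv)) fun a => by
        rw [LinearMap.toMatrix'_mulVec]; rfl
      by_contra hne
      push Not at hne
      refine hc _ (fun c e => ?_) (allHas_of_has S D hp hh)
      obtain ⟨a, ha⟩ := hne c
      refine ha ?_
      have := LinearMap.toMatrix'_mulVec (Lw s hsv) a
      rw [e, smul_mulVec, one_mulVec] at this
      exact this.symm
  have := S.hm
  set i0 : Fin m := ⟨0, by omega⟩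
  have hsurj := formVec_surjective S.h2.lin (fun a b c => S.h2.add_right a b c)
    (fun a ha => ⟨S.h2.nondeg a ha, by
      obtain ⟨y, hy⟩ := S.h2.nondeg a ha
      exact ⟨y, fun e => hy (S.h2.eq_zero_comm e)⟩⟩)
  let P : Submodule F V2 :=
    { carrier := {w | f₂ w v = 0}
      add_mem' := fun {a b} ha hb => by
        show f₂ (a + b) v = 0
        rw [S.h2.lin.add_left, ha, hb, add_zero]
      zero_mem' := form_zero_left S.h2.lin v
      smul_mem' := fun c a ha => by
        show f₂ (c • a) v = 0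
        rw [S.h2.lin.smul_left, ha, mul_zero] }
  have hspan : P ≤ Submodule.span F {s | f₂ s s = 0 ∧ f₂ s v = 0} := by
    intro w hw
    by_contra hn
    obtain ⟨φ, hφ, hφw⟩ := exists_functional hn
    obtain ⟨y, hy⟩ := hsurj φ
    have hy' : ∀ s, f₂ s s = 0 → f₂ s v = 0 → f₂ s y = 0 := fun s hs hsv => by
      rw [← S.h2.dot, hy]
      exact hφ s (Submodule.subset_span ⟨hs, hsv⟩)
    obtain ⟨c, hcv⟩ := Submodule.mem_span_singleton.1 (S.rich.avoid v y hv hvv hy')
    rw [← hy, S.h2.dot, ← hcv, S.h2.smul_right, show f₂ w v = 0 from hw, mul_zero] at hφw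
    exact zero_ne_one hφw
  let Lam : Submodule F V2 :=
    { carrier := {w | f₂ w v = 0 ∧ ∃ c : F, ∀ a, L (tens a w) = c • a}
      zero_mem' := ⟨form_zero_left S.h2.lin v, 0, fun a => Acts.eq_of S hv hact
        (hperpT a (form_zero_left S.h2.lin v))
        (by rw [tens_zero_right, mulVec_zero, zero_smul, tens_zero_left, add_zero])⟩
      add_mem' := by
        rintro p q ⟨hp, c, hc1⟩ ⟨hq, d, hd⟩
        refine ⟨by rw [S.h2.lin.add_left, hp, hq, add_zero], c + d, fun a => ?_⟩
        rw [tens_add_right, hadd (hperpT a hp) (hperpT a hq), hc1, hd, add_smul]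
      smul_mem' := by
        rintro e p ⟨hp, c, hc1⟩
        refine ⟨by rw [S.h2.lin.smul_left, hp, mul_zero], e * c, fun a => ?_⟩
        rw [tens_smul_right, hsmul e (hperpT a hp), hc1, smul_smul] }
  have hLam : P ≤ Lam := hspan.trans (Submodule.span_le.2 fun s hs => ⟨hs.2, hsc s hs.1 hs.2⟩)
  obtain ⟨y, hy⟩ := S.h2.exists_one hv
  have hproj : ∀ w, f₂ (w - f₂ w v • y) v = 0 := fun w => by
    rw [S.h2.sub_left, S.h2.lin.smul_left, hy, mul_one, sub_self]
  let φ : V2 →ₗ[F] F :=
    { toFun := fun w => L (tens (Pi.single i0 1) (w - f₂ w v • y)) i0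
      map_add' := fun p q => by
        rw [show p + q - f₂ (p + q) v • y = (p - f₂ p v • y) + (q - f₂ q v • y) by
          rw [S.h2.lin.add_left]; module,
          tens_add_right, hadd (hperpT _ (hproj p)) (hperpT _ (hproj q))]
        rfl
      map_smul' := fun c p => by
        rw [show c • p - f₂ (c • p) v • y = c • (p - f₂ p v • y) by rw [S.h2.lin.smul_left]; module,
          tens_smul_right, hsmul c (hperpT _ (hproj p))]
        rfl }
  obtain ⟨d, hd⟩ := hsurj (fun j => φ (Pi.single j 1))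
  have hdφ : ∀ w, f₂ w d = φ w := fun w => by
    rw [← S.h2.dot, hd, dotProduct]
    conv_rhs => rw [← Finset.univ_sum_single w, map_sum]
    refine Finset.sum_congr rfl fun j _ => ?_
    rw [mul_comm, ← smul_eq_mul, ← map_smul]
    congr 1
    rw [← Pi.single_smul', smul_eq_mul, mul_one]
  have hLw : ∀ w, f₂ w v = 0 → ∀ a, L (tens a w) = f₂ w d • a := fun w hw a => by
    obtain ⟨-, c, hc1⟩ := hLam (show w ∈ P from hw)
    rw [hc1, hdφ]
    congr 1
    show c = L (tens (Pi.single i0 1) (w - f₂ w v • y)) i0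
    rw [hw, zero_smul, sub_zero, hc1]
    simp
  have hdv : f₂ d v = 0 := by
    refine S.h2.eq_zero_comm ?_
    rw [hdφ]
    show L (tens (Pi.single i0 1) (v - f₂ v v • y)) i0 = 0
    rw [hvv, zero_smul, sub_zero, Acts.eq_of S hv hact (hperpT _ hvv) (a := 0)
      (by rw [hfix, tens_zero_left, add_zero])]
    rfl
  have hLz : ∀ z, ctr (formVec f₂ v) z = 0 → L z = ctr (formVec f₂ d) z := by
    intro z hz
    have hsl : ∀ i, f₂ (slice z i) v = 0 := fun i => by rw [← S.h2.dot, ← ctr_eq_dot, hz]; rfl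
    have key : ∀ s : Finset (Fin m), ctr (formVec f₂ v) (∑ i ∈ s, tens (Pi.single i 1) (slice z i)) = 0 ∧
        L (∑ i ∈ s, tens (Pi.single i 1) (slice z i)) = ∑ i ∈ s, f₂ (slice z i) d • (Pi.single i 1 : V1) := by
      intro s
      induction s using Finset.induction_on with
      | empty =>
        have h0 : ctr (formVec f₂ v) (0 : Fin m × Fin k → F) = 0 := by ext i; simp [ctr]
        exact ⟨h0, Acts.eq_of S hv hact h0 (by simp [tens_zero_left])⟩
      | insert i s hi ih =>
        rw [Finset.sum_insert hi, Finset.sum_insert hi]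
        refine ⟨by rw [ctr_add, hperpT _ (hsl i), ih.1, add_zero], ?_⟩
        rw [hadd (hperpT _ (hsl i)) ih.1, hLw _ (hsl i), ih.2]
    conv_lhs => rw [← sum_tens_slice z, (key Finset.univ).2]
    funext i
    simp [Finset.sum_apply, Pi.single_apply, ctr_eq_dot, S.h2.dot]
  let Z : Submodule F V2 :=
    { carrier := {e | f₂ e v = 0 ∧ ∀ c : F, ∃ g ∈ M, g ∈ Cfsg.Geo.kroneckerSubgroup m k F ∧
        Acts f₂ v g fun z => ctr (formVec f₂ (c • e)) z}
      zero_mem' := ⟨form_zero_left S.h2.lin v, fun c => ⟨1, M.one_mem, one_mem _, fun u => by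
        rw [Units.val_one, one_mulVec], fun z _ => by
        rw [Units.val_one, one_mulVec]; dsimp only
        rw [smul_zero, show formVec f₂ (0 : V2) = 0 from funext fun j => S.h2.zero_right _]
        ext p; simp [ctr, tens]⟩⟩
      add_mem' := by
        rintro p q ⟨hp, hp'⟩ ⟨hq, hq'⟩
        refine ⟨by rw [S.h2.lin.add_left, hp, hq, add_zero], fun c => ?_⟩
        obtain ⟨g, hg, hgk, h1, h2⟩ := hp' c
        obtain ⟨g', hg', hgk', h1', h2'⟩ := hq' c
        refine ⟨g * g', M.mul_mem hg hg', mul_mem hgk hgk', fun u => by rw [gl_mul_mulVec, h1', h1], fun z hz => ?_⟩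
        rw [gl_mul_mulVec, h2' z hz, mulVec_add, h2 z hz, h1, add_assoc, ← tens_add_left]
        dsimp only
        congr 2
        rw [smul_add, show formVec f₂ (c • p + c • q) = formVec f₂ (c • p) + formVec f₂ (c • q) from
          funext fun j => S.h2.add_right _ _ _]
        ext i
        simp [ctr, add_mul, Finset.sum_add_distrib]
      smul_mem' := by
        rintro e p ⟨hp, hp'⟩
        exact ⟨by rw [S.h2.lin.smul_left, hp, mul_zero], fun c => by rw [smul_smul]; exact hp' _⟩ }
  have hZ : d ∈ Z := by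
    refine (Submodule.span_le (p := Z)).2 ?_ (hspan (show d ∈ P from hdv))
    rintro s ⟨hs, hsv⟩
    refine ⟨hsv, fun c => ?_⟩
    have hcs : f₂ (c • s) (c • s) = 0 := by rw [S.h2.lin.smul_left, S.h2.smul_right, hs, mul_zero, mul_zero]
    have hcv : f₂ (c • s) v = 0 := by rw [S.h2.lin.smul_left, hsv, mul_zero]
    obtain ⟨g, hg, hgz⟩ := BlkKron.exists_eichler S hvv hcs hcv
    obtain ⟨g', -, hgN⟩ := exists_eichler_right S hvv hcs hcv
    refine ⟨g, hg, ?_, fun u => ?_, fun z hz => ?_⟩
    · have hvcs : f₂ v (c • s) = 0 := S.h2.eq_zero_comm hcv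
      have hsum : f₂ (v + c • s) (v + c • s) = 0 := by
        rw [S.h2.lin.add_left, S.h2.add_right, S.h2.add_right, hvv, hcs, hcv, hvcs]; ring
      obtain ⟨r1, hr1, hr1v⟩ := S.root_one hsum
      obtain ⟨r2, hr2, hr2v⟩ := S.root v (-1) hvv (by rw [map_neg, map_one])
      obtain ⟨r3, hr3, hr3v⟩ := S.root (c • s) (-1) hcs (by rw [map_neg, map_one])
      have hk1 := RootKron.root_mem_kron S hsum (c := 1) (by rw [one_smul]; exact hr1v)
      have hk2 := RootKron.root_mem_kron S hvv hr2v
      have hk3 := RootKron.root_mem_kron S hcs hr3v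
      have hge : g = r1 * r2 * r3 := gl_ext fun z => by
        rw [hgz, gl_mul_mulVec, gl_mul_mulVec, hr3v, add_mulVec, one_mulVec, scalar_el_mulVec, hr2v, add_mulVec,
          one_mulVec, scalar_el_mulVec, hr1v, add_mulVec, one_mulVec, el_mulVec, one_mulVec]
        have hadd : formVec f₂ (v + c • s) = formVec f₂ v + formVec f₂ (c • s) :=
          funext fun j => S.h2.add_right _ _ _
        have hl : ∀ w : Fin m × Fin k → F, ctr (formVec f₂ (v + c • s)) w = ctr (formVec f₂ v) w + ctr (formVec f₂ (c • s)) w :=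
          fun w => by rw [hadd]; ext i; simp [ctr, add_mul, Finset.sum_add_distrib]
        simp only [hl, ctr_add, S.ctr_form_tens, hvv, hcs, hcv, hvcs, zero_smul, add_zero, tens_add_right,
          tens_add_left, neg_one_smul]
        ext p
        simp only [tens, Pi.add_apply, Pi.neg_apply]
        ring
      rw [hge]
      exact mul_mem (mul_mem hk1 hk2) hk3
    · rw [hgz, S.ctr_form_tens, S.ctr_form_tens, hvv, S.h2.eq_zero_comm hcv, zero_smul, tens_zero_left,
        tens_zero_left, add_zero, add_zero]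
    · rw [hgz, hz, tens_zero_left, add_zero]
  obtain ⟨g, hg, hgk, hgA⟩ := hZ.2 1
  have hxg : ∀ z, ctr (formVec f₂ v) z = 0 → ((x * g⁻¹ : G) : Big) *ᵥ z = z := fun z hz => by
    rw [gl_mul_mulVec, Acts.inv S hvv hgA hz, mulVec_sub, hact.2 z hz, hfix, one_smul, hLz z hz,
      add_sub_cancel_right]
  obtain ⟨A, hA⟩ := eq_el_of_fix S D hv hvv (M.mul_mem hx (M.inv_mem hg)) hxg
  have hAs : ∀ c : F, A ≠ c • 1 := fun c e => by
    subst e
    have := mul_mem (RootKron.root_mem_kron S hvv hA) hgk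
    rw [inv_mul_cancel_right] at this
    exact hxk this
  obtain ⟨u, hu⟩ := exists_pair_at S hv hvv
  have hp : Pair f₂ u v := pair_symm S hu
  obtain ⟨w, hw, hwv, hwu⟩ := D.two v u hu
  have h1 := Has.mul_el S hp.ne hp.left hvv hp.orth (s := (-1 : F) • w)
    (by rw [S.h2.smul_right, S.h2.swap, hwv, map_one, map_neg, map_one]; ring)
    (has_one S hp.left (by rw [S.h2.lin.smul_left, S.h2.smul_right, hw, mul_zero, mul_zero])
      (by rw [S.h2.lin.smul_left, hwu, mul_zero]))
    (show InM M (el A v (formVec f₂ v)) from ⟨_, M.mul_mem hx (M.inv_mem hg), hA⟩)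
  rw [one_mul] at h1
  exact hc A hAs (allHas_of_has S D hp h1)

theorem allHas_one : AllHas f₂ M 1 := fun _ _ h => has_one S h.left h.right h.orth

theorem allHas_add {A A' : A1} (h : AllHas f₂ M A) (h' : AllHas f₂ M A') : AllHas f₂ M (A + A') :=
  fun v s hp => Has.add S (h v s hp) (h' v s hp)

theorem allHas_smul {A : A1} (h : AllHas f₂ M A) (c : F) : AllHas f₂ M (c • A) := fun v s hp => by
  rcases eq_or_ne c 0 with rfl | hc
  · rw [zero_smul]; exact has_zero S v s
  have hc' : σ c ≠ 0 := fun e => hc (by rw [← S.h2.invol c, e, map_zero])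
  have hp' : Pair f₂ v (σ c • s) := ⟨hp.ne, hp.left, by rw [S.h2.lin.smul_left, S.h2.smul_right, hp.right]; ring,
    by rw [S.h2.lin.smul_left, hp.orth, mul_zero], fun e => hp.indep (by
      have := Submodule.smul_mem _ (σ c)⁻¹ e
      rwa [inv_smul_smul₀ hc'] at this)⟩
  have := Has.of_smul S (h v _ hp')
  rwa [S.h2.invol] at this

/-- The elements `el (A C' + C A')` at every isotropic vector. -/
theorem el_all {A A' C C' : A1} (hA : AllHas f₂ M A) (hC : AllHas f₂ M C) (hAA : AdjPair f₁ A A')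
    (hCC : AdjPair f₁ C C') {v : V2} (hv : v ≠ 0) (hvv : f₂ v v = 0) :
    InM M (el (A * C' + C * A') v (formVec f₂ v)) := by
  obtain ⟨s, hs⟩ := exists_pair_at S hv hvv
  obtain ⟨t, ht, hts, htv⟩ := D.two s v (pair_symm S hs)
  have hpt : Pair f₂ v t := ⟨hv, hvv, ht, htv, fun e => by
    obtain ⟨c, rfl⟩ := Submodule.mem_span_singleton.1 e
    rw [S.h2.lin.smul_left, S.h2.eq_zero_comm hs.orth, mul_zero] at hts
    exact zero_ne_one hts⟩
  exact el_of_comm S hv hvv hs.orth htv hts hAA hCC (hA v s hs) (hC v t hpt)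

theorem allHas_mul_of_sigma (hσ : ∃ c : F, σ c ≠ c) {A C : A1} (hA : AllHas f₂ M A) (hC : AllHas f₂ M C) :
    AllHas f₂ M (A * C) := by
  obtain ⟨C', hC'⟩ := exists_adj S C
  have key : ∀ c : F, AllHas f₂ M (A * (c • C' + σ c • C)) := by
    intro c v t ht
    obtain ⟨w, hw, hwt, hwv⟩ := D.two t v (pair_symm S ht)
    have hp : Pair f₂ v ((-1 : F) • w) := ⟨ht.ne, ht.left, by
      rw [S.h2.lin.smul_left, S.h2.smul_right, hw, mul_zero, mul_zero],
      by rw [S.h2.lin.smul_left, hwv, mul_zero], fun e => by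
        obtain ⟨d, hd⟩ := Submodule.mem_span_singleton.1 e
        have e1 : f₂ (d • v) t = f₂ ((-1 : F) • w) t := by rw [hd]
        rw [S.h2.lin.smul_left, S.h2.lin.smul_left, S.h2.eq_zero_comm ht.orth, hwt, mul_zero, mul_one] at e1
        exact neg_ne_zero.2 one_ne_zero e1.symm⟩
    have h1 := el_all S D (allHas_smul S D (allHas_one S D) c) hC (adj_smul_one S c) hC'
      (pair_symm S ht).ne ht.right
    rw [Matrix.smul_mul, Matrix.mul_smul, one_mul, mul_one] at h1
    exact Has.mul_el S ht.ne ht.left ht.right ht.orth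
      (by rw [S.h2.smul_right, S.h2.swap, hwt, map_one, map_neg, map_one]; ring) (hA v _ hp) h1
  obtain ⟨c, hc⟩ := hσ
  have h1 := key c
  have h2 := allHas_smul S D (key 1) c
  have h3 := allHas_smul S D (allHas_add S D h1 (allHas_smul S D h2 (-1))) (σ c - c)⁻¹
  convert h3 using 1
  rw [map_one, one_smul, one_smul, Matrix.mul_add, Matrix.mul_add, Matrix.mul_smul, Matrix.mul_smul, smul_add,
    smul_add, smul_add, smul_smul]
  match_scalars <;> field_simp <;> first | ring | skip
  all_goals (rw [eq_comm, ← sub_eq_zero]; ring_nf)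

theorem allHas_mul_of_pairs (hex : ∀ v r, Pair f₂ v r → ∃ t w s, Pair f₂ t w ∧ Pair f₂ v s ∧ f₂ t v = 0 ∧
    f₂ w v = 0 ∧ f₂ r t = 0 ∧ f₂ r w = 1 ∧ f₂ t s = 1) {A C : A1} (hA : AllHas f₂ M A) (hC : AllHas f₂ M C) :
    AllHas f₂ M (A * C) := by
  intro v r hr
  obtain ⟨t, w, s, htw, hs, htv, hwv, hrt, hrw, hts⟩ := hex v r hr
  exact Has.mul_pair S hr.ne hr.left htw.ne htw.left hr.right htv hwv hr.orth hrt hrw hts (hA v s hs) (hC t w htw)

/-- The coefficient algebra. -/
def coeff (hmul : ∀ {A C : A1}, AllHas f₂ M A → AllHas f₂ M C → AllHas f₂ M (A * C)) :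
    Subalgebra F (Matrix (Fin m) (Fin m) F) where
  carrier := {A | AllHas f₂ M A}
  mul_mem' := hmul
  add_mem' := allHas_add S D
  algebraMap_mem' c := by
    show AllHas f₂ M _
    rw [Algebra.algebraMap_eq_smul_one]
    exact allHas_smul S D (allHas_one S D) c

/-- The available coefficients are normalised by the elements `g ⊗ 1` of the group. -/
theorem allHas_conj {g g' : A1} (hgg' : g * g' = 1) {h : G} (hh : h ∈ M)
    (hval : (h : Big) = g ⊗ₖ (1 : Matrix (Fin k) (Fin k) F)) {A : A1} (hA : AllHas f₂ M A) :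
    AllHas f₂ M (g * A * g') := by
  intro v s hp
  obtain ⟨x, hx, h1, h2⟩ := hA v s hp
  have hg'g : g' * g = 1 := mul_eq_one_comm.1 hgg'
  have hinv : ((h⁻¹ : G) : Big) = g' ⊗ₖ (1 : Matrix (Fin k) (Fin k) F) :=
    Units.inv_eq_of_mul_eq_one_right (by rw [hval, ← Matrix.mul_kronecker_mul, hgg', one_mul, one_kronecker_one])
  have hctr : ∀ (g : A1) (φ : V2) z, ctr φ ((g ⊗ₖ (1 : Matrix (Fin k) (Fin k) F)) *ᵥ z) = g *ᵥ ctr φ z := by
    intro g φ z
    conv_lhs => rw [← sum_tens_slice z, mulVec_sum]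
    have hsum : ∀ (s : Finset (Fin m)) (fz : Fin m → (Fin m × Fin k → F)),
        ctr φ (∑ i ∈ s, fz i) = ∑ i ∈ s, ctr φ (fz i) := by
      intro s fz
      induction s using Finset.induction_on with
      | empty => ext i; simp [ctr]
      | insert a s ha ih => rw [Finset.sum_insert ha, Finset.sum_insert ha, ctr_add, ih]
    rw [hsum]
    simp only [kron_mulVec_tens, one_mulVec, ctr_tens]
    conv_rhs => rw [← Finset.univ_sum_single (ctr φ z), mulVec_sum]
    refine Finset.sum_congr rfl fun i _ => ?_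
    rw [← mulVec_smul, ← Pi.single_smul', smul_eq_mul, mul_one]
    rfl
  refine ⟨h * x * h⁻¹, M.mul_mem (M.mul_mem hh hx) (M.inv_mem hh), fun u => ?_, fun z hz => ?_⟩
  · rw [gl_mul_mulVec, gl_mul_mulVec, hinv, kron_mulVec_tens, one_mulVec, h1, hval, kron_mulVec_tens,
      one_mulVec, mulVec_mulVec, hgg', one_mulVec]
  · have hz' : ctr (formVec f₂ v) (((h⁻¹ : G) : Big) *ᵥ z) = 0 := by rw [hinv, hctr, hz, mulVec_zero]
    rw [gl_mul_mulVec, gl_mul_mulVec, h2 _ hz', mulVec_add, gl_mulVec_inv]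
    dsimp only
    rw [hinv, hctr, hval, kron_mulVec_tens, one_mulVec, mulVec_mulVec, mulVec_mulVec]

theorem coeff_invariant (hmul : ∀ {A C : A1}, AllHas f₂ M A → AllHas f₂ M C → AllHas f₂ M (A * C))
    (hleft : ∀ g g' : A1, g * g' = 1 → g.det = 1 → (∀ x y, f₁ (g *ᵥ x) (g *ᵥ y) = f₁ x y) →
      ∃ h ∈ M, (h : Big) = g ⊗ₖ (1 : Matrix (Fin k) (Fin k) F)) :
    InvariantAlgebra.Invariant f₁ (coeff S D hmul) := by
  intro g g' hgg' hdet hiso A hA
  obtain ⟨h, hh, hval⟩ := hleft g g' hgg' hdet hiso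
  exact allHas_conj S D hgg' hh hval hA

end Cfsg.Agent.Lib.TensorFormMax.Algebra
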