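import Cfsg.Agent.Lib.TensorMax.Lemmas

/-!
Sesquilinear forms on two factors and an overgroup of the stabiliser of their tensor product: the vocabulary.
-/

set_option autoImplicit false

namespace Cfsg.Agent.Lib.TensorFormMax.Basic

open Matrix Kronecker
open Cfsg.Agent.Lib.Subspaces.Transvection Cfsg.Agent.Lib.Subspaces.FormVec
  Cfsg.Agent.Lib.TensorMax.Block Cfsg.Agent.Lib.TensorMax.Lemmas

variable {F : Type*} [Field F]

/-- A non-degenerate reflexive sesquilinear form. -/
structure SForm {n : ℕ} (σ : F →+* F) (ε : F) (f : (Fin n → F) → (Fin n → F) → F) : Prop where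
  invol : ∀ a, σ (σ a) = a
  lin : IsLinearLeft f
  swap : ∀ x y, f y x = ε * σ (f x y)
  nondeg : ∀ v, v ≠ 0 → ∃ x, f x v ≠ 0

namespace SForm

variable {n : ℕ} {σ : F →+* F} {ε : F} {f : (Fin n → F) → (Fin n → F) → F} (hf : SForm σ ε f)
include hf

theorem add_right (x v w : Fin n → F) : f x (v + w) = f x v + f x w := by
  rw [hf.swap, hf.lin.add_left, map_add, mul_add, ← hf.swap, ← hf.swap]

theorem smul_right (c : F) (x v : Fin n → F) : f x (c • v) = σ c * f x v := by
  rw [hf.swap, hf.lin.smul_left, map_mul, hf.swap v x]; ring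

theorem zero_right (x : Fin n → F) : f x 0 = 0 := by
  rw [hf.swap, form_zero_left hf.lin, map_zero, mul_zero]

theorem sub_right (x v w : Fin n → F) : f x (v - w) = f x v - f x w := by
  rw [eq_sub_iff_add_eq, ← hf.add_right, sub_add_cancel]

theorem sub_left (x v w : Fin n → F) : f (x - v) w = f x w - f v w := form_sub_left hf.lin _ _ _

theorem eq_zero_comm {x y : Fin n → F} (h : f x y = 0) : f y x = 0 := by
  rw [hf.swap, h, map_zero, mul_zero]

theorem dot (v x : Fin n → F) : formVec f v ⬝ᵥ x = f x v := formVec_dot hf.lin v x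

theorem eq_of_left {x y : Fin n → F} (h : ∀ u, f x u = f y u) : x = y := by
  by_contra hne
  obtain ⟨u, hu⟩ := hf.nondeg _ (sub_ne_zero.2 hne)
  exact hu (hf.eq_zero_comm (by rw [hf.sub_left, h, sub_self]))

theorem exists_one {v : Fin n → F} (hv : v ≠ 0) : ∃ y, f y v = 1 := by
  obtain ⟨x, hx⟩ := hf.nondeg v hv
  exact ⟨(f x v)⁻¹ • x, by rw [hf.lin.smul_left, inv_mul_cancel₀ hx]⟩

theorem formVec_ne {v : Fin n → F} (hv : v ≠ 0) : formVec f v ≠ 0 := fun e => by
  obtain ⟨y, hy⟩ := hf.exists_one hv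
  rw [← hf.dot, e, zero_dotProduct] at hy
  exact zero_ne_one hy

end SForm

/-- Enough isotropic vectors. -/
structure IsoRich {k : ℕ} (f : (Fin k → F) → (Fin k → F) → F) : Prop where
  orth : ∀ (l : ℕ) (s : Fin l → Fin k → F), l + 2 ≤ k → ∃ v, v ≠ 0 ∧ f v v = 0 ∧ ∀ i, f v (s i) = 0
  avoid : ∀ v w, v ≠ 0 → f v v = 0 → (∀ s, f s s = 0 → f s v = 0 → f s w = 0) →
    w ∈ Submodule.span F {v}

variable {m k : ℕ}

local notation "V1" => Fin m → F
local notation "V2" => Fin k → F
local notation "Big" => Matrix (Fin m × Fin k) (Fin m × Fin k) F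
local notation "A1" => Matrix (Fin m) (Fin m) F
local notation "G" => GL (Fin m × Fin k) F

theorem tens_add_left (a b : V1) (w : V2) : tens (a + b) w = tens a w + tens b w := by
  ext p; simp [tens, add_mul]

theorem tens_sub_left (a b : V1) (w : V2) : tens (a - b) w = tens a w - tens b w := by
  ext p; simp [tens, sub_mul]

theorem tens_smul_left (c : F) (a : V1) (w : V2) : tens (c • a) w = c • tens a w := by
  ext p; simp [tens, mul_assoc]

theorem tens_add_right (a : V1) (v w : V2) : tens a (v + w) = tens a v + tens a w := by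
  ext p; simp [tens, mul_add]

theorem tens_smul_right (c : F) (a : V1) (w : V2) : tens a (c • w) = c • tens a w := by
  ext p; simp [tens]; ring

theorem tens_zero_left (w : V2) : tens (0 : V1) w = 0 := by ext p; simp [tens]

theorem tens_zero_right (a : V1) : tens a (0 : V2) = 0 := by ext p; simp [tens]

theorem tens_injective {v : V2} (hv : v ≠ 0) : Function.Injective fun a : V1 => tens a v := by
  intro a b h
  obtain ⟨c, hc⟩ := Function.ne_iff.1 hv
  funext i
  exact mul_right_cancel₀ hc (congrFun h (i, c))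

theorem ctr_add (φ : V2) (x y : Fin m × Fin k → F) : ctr φ (x + y) = ctr φ x + ctr φ y := by
  ext i; simp [ctr, mul_add, Finset.sum_add_distrib]

theorem ctr_sub (φ : V2) (x y : Fin m × Fin k → F) : ctr φ (x - y) = ctr φ x - ctr φ y := by
  ext i; simp [ctr, mul_sub, Finset.sum_sub_distrib]

theorem ctr_smul (φ : V2) (c : F) (x : Fin m × Fin k → F) : ctr φ (c • x) = c • ctr φ x := by
  ext i; simp [ctr, Finset.mul_sum, mul_left_comm]

/-- The slice of a tensor at a coordinate of the first factor. -/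
def slice (z : Fin m × Fin k → F) (i : Fin m) : Fin k → F := fun a => z (i, a)

theorem ctr_eq_dot (φ : V2) (z : Fin m × Fin k → F) (i : Fin m) : ctr φ z i = φ ⬝ᵥ slice z i := rfl

theorem sum_tens_slice (z : Fin m × Fin k → F) : ∑ i, tens (Pi.single i 1) (slice z i) = z := by
  ext ⟨j, a⟩
  simp [Finset.sum_apply, tens, slice, Pi.single_apply]

theorem scalar_el_mulVec (c : F) (v φ : V2) (z : Fin m × Fin k → F) :
    el (c • (1 : A1)) v φ *ᵥ z = tens (c • ctr φ z) v := by
  rw [el_mulVec, smul_mulVec, one_mulVec]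

/-- An overgroup of the tensor product stabiliser in a group of isometries. -/
structure Setting (σ : F →+* F) (ε : F) (f₁ : (Fin m → F) → (Fin m → F) → F)
    (f₂ : (Fin k → F) → (Fin k → F) → F) (B : (Fin m × Fin k → F) → (Fin m × Fin k → F) → F)
    (M : Subgroup (GL (Fin m × Fin k) F)) : Prop where
  h1 : SForm σ ε f₁
  h2 : SForm σ (-1) f₂
  rich : IsoRich f₂
  lin : IsLinearLeft B
  addR : ∀ x y z, B x (y + z) = B x y + B x z
  Bswap : ∀ x y, B y x = -ε * σ (B x y)
  hB : ∀ z u w, B z (tens u w) = f₁ (ctr (formVec f₂ w) z) u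
  iso : ∀ g ∈ M, ∀ x y, B ((g : Big) *ᵥ x) ((g : Big) *ᵥ y) = B x y
  root : ∀ (v : Fin k → F) (c : F), f₂ v v = 0 → σ c = c → InM M (el (c • (1 : A1)) v (formVec f₂ v))
  hm : 2 ≤ m
  hk : 4 ≤ k

/-- The pointwise stabiliser of a block in the unipotent radical of its stabiliser lies in the
tensor product stabiliser. -/
def NoRadical (f₂ : (Fin k → F) → (Fin k → F) → F) (M : Subgroup (GL (Fin m × Fin k) F)) : Prop :=
  ∀ v : Fin k → F, v ≠ 0 → f₂ v v = 0 → ∀ x ∈ M,
    (∀ u : V1, (x : Big) *ᵥ tens u v = tens u v) →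
    (∀ z, ctr (formVec f₂ v) z = 0 → ∃ a : V1, (x : Big) *ᵥ z - z = tens a v) →
    x ∈ Cfsg.Geo.kroneckerSubgroup m k F

/-- `g` carries the block of `v` onto a block of an isotropic vector. -/
def Blk (f₂ : (Fin k → F) → (Fin k → F) → F) (g : GL (Fin m × Fin k) F) (v : Fin k → F) : Prop :=
  ∃ (c : F) (v' : Fin k → F), v' ≠ 0 ∧ f₂ v' v' = 0 ∧ c ≠ 0 ∧
    (g : Big) * el (1 : A1) v (formVec f₂ v) = el (c • (1 : A1)) v' (formVec f₂ v') * (g : Big)

namespace Setting

variable {σ : F →+* F} {ε : F} {f₁ : (Fin m → F) → (Fin m → F) → F}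
  {f₂ : (Fin k → F) → (Fin k → F) → F} {B : (Fin m × Fin k → F) → (Fin m × Fin k → F) → F}
  {M : Subgroup (GL (Fin m × Fin k) F)} (S : Setting σ ε f₁ f₂ B M)
include S

theorem B_tens (u u' : V1) (w w' : V2) : B (tens u w) (tens u' w') = f₂ w w' * f₁ u u' := by
  rw [S.hB, ctr_tens, S.h2.dot, S.h1.lin.smul_left]

theorem ctr_form_tens (u : V1) (w x : V2) : ctr (formVec f₂ x) (tens u w) = f₂ w x • u := by
  rw [ctr_tens, S.h2.dot]

theorem exists_pair : ∃ a b : V1, f₁ a b ≠ 0 := by
  have := S.hm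
  have hne : (Pi.single ⟨0, by omega⟩ 1 : V1) ≠ 0 := by simp
  obtain ⟨x, hx⟩ := S.h1.nondeg _ hne
  exact ⟨x, _, hx⟩

theorem root_one {v : V2} (h : f₂ v v = 0) :
    InM M (el (1 : A1) v (formVec f₂ v)) := by
  have := S.root v 1 h (map_one σ)
  rwa [one_smul] at this

theorem exists_second {v : V2} (hv : v ≠ 0) (h : f₂ v v = 0) {T : Submodule F V2}
    (hT : Module.finrank F T + 2 ≤ k) : ∃ s, f₂ s s = 0 ∧ f₂ s v = 0 ∧ s ∉ T := by
  by_contra hc
  push Not at hc
  -- everything orthogonal to `T` would lie on the line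
  let b := Module.finBasis F T
  let A : V2 →ₗ[F] (Fin (Module.finrank F T) → F) :=
    { toFun := fun w i => f₂ w (b i : V2)
      map_add' := fun x y => funext fun i => S.h2.lin.add_left _ _ _
      map_smul' := fun c x => funext fun i => S.h2.lin.smul_left _ _ _ }
  have hle : LinearMap.ker A ≤ Submodule.span F {v} := by
    intro w hw
    refine S.rich.avoid v w hv h fun s hs hsv => ?_
    obtain ⟨x, hx⟩ : ∃ x : T, (x : V2) = s := ⟨⟨s, hc s hs hsv⟩, rfl⟩
    rw [← hx, ← b.sum_repr x]
    push_cast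
    apply S.h2.eq_zero_comm
    let L : V2 →+ F := AddMonoidHom.mk' (f₂ w) fun a c => S.h2.add_right w a c
    show L (∑ i, ((b.repr x i • b i : T) : V2)) = 0
    rw [map_sum]
    refine Finset.sum_eq_zero fun i _ => ?_
    show f₂ w (b.repr x i • (b i : V2)) = 0
    rw [S.h2.smul_right, show f₂ w (b i : V2) = 0 from congrFun (LinearMap.mem_ker.1 hw) i, mul_zero]
  have h1 := Submodule.finrank_mono hle
  rw [finrank_span_singleton hv] at h1
  have h2 := LinearMap.finrank_range_add_finrank_ker A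
  have h3 := Submodule.finrank_le (LinearMap.range A)
  rw [Module.finrank_fintype_fun_eq_card, Fintype.card_fin] at h2 h3
  omega

end Setting

end Cfsg.Agent.Lib.TensorFormMax.Basic
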