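import Cfsg.Agent.Lib.TensorFormMax.RootKron

/-!
An element carrying one isotropic block onto another lies in the tensor product stabiliser, when the group
meets the unipotent radicals of the block stabilisers inside it.
-/

set_option autoImplicit false

namespace Cfsg.Agent.Lib.TensorFormMax.BlkKron

open Matrix Kronecker
open Cfsg.Agent.Lib.Subspaces.Transvection Cfsg.Agent.Lib.Subspaces.FormVec
  Cfsg.Agent.Lib.TensorMax.Block Cfsg.Agent.Lib.TensorMax.Lemmas Cfsg.Agent.Lib.TensorFormMax.Basic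
  Cfsg.Agent.Lib.TensorFormMax.RootKron

variable {F : Type*} [Field F] {m k : ℕ} {σ : F →+* F} {ε : F}
  {f₁ : (Fin m → F) → (Fin m → F) → F} {f₂ : (Fin k → F) → (Fin k → F) → F}
  {B : (Fin m × Fin k → F) → (Fin m × Fin k → F) → F} {M : Subgroup (GL (Fin m × Fin k) F)}

local notation "V1" => Fin m → F
local notation "V2" => Fin k → F
local notation "Big" => Matrix (Fin m × Fin k) (Fin m × Fin k) F
local notation "A1" => Matrix (Fin m) (Fin m) F
local notation "G" => GL (Fin m × Fin k) F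

theorem Blk.smul (S : Setting σ ε f₁ f₂ B M) {g : G} {v : V2} (h : Blk f₂ g v) {a : F} (ha : a ≠ 0) :
    Blk f₂ g (a • v) := by
  obtain ⟨c, v', hv', hvv', hc, h⟩ := h
  refine ⟨a * σ a * c, v', hv', hvv', mul_ne_zero (mul_ne_zero ha (by simpa using ha)) hc, ?_⟩
  have e : formVec f₂ (a • v) = σ a • formVec f₂ v := by
    funext d
    simp only [Pi.smul_apply, smul_eq_mul, formVec, S.h2.smul_right]
  have e2 : ∀ (b : F) (A : A1) (w φ : V2), el (b • A) w φ = b • el A w φ := fun b A w φ => el_smul b A w φ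
  rw [e, el_vec_smul, el_ax_smul, smul_smul, e2, Matrix.mul_smul, h, ← Matrix.smul_mul, ← e2, smul_smul,
    mul_comm (σ a) a]

/-- The radical element attached to two orthogonal isotropic vectors. -/
theorem exists_eichler (S : Setting σ ε f₁ f₂ B M) {v s : V2} (hv : f₂ v v = 0) (hs : f₂ s s = 0)
    (hsv : f₂ s v = 0) : ∃ e ∈ M, ∀ z, (e : Big) *ᵥ z = z + tens (ctr (formVec f₂ s) z) v +
      tens (ctr (formVec f₂ v) z) s := by
  have hvs : f₂ v s = 0 := S.h2.eq_zero_comm hsv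
  have hadd : formVec f₂ (v + s) = formVec f₂ v + formVec f₂ s := funext fun d => by
    simp only [Pi.add_apply, formVec, S.h2.add_right]
  have hiso : f₂ (v + s) (v + s) = 0 := by
    rw [S.h2.lin.add_left, S.h2.add_right, S.h2.add_right, hv, hs, hvs, hsv]; ring
  have h1 := S.root_one hiso
  have h2 := S.root v (-1) hv (by rw [map_neg, map_one])
  have h3 := S.root s (-1) hs (by rw [map_neg, map_one])
  have hz : ∀ {a b : V2} (A A' : A1), f₂ b a = 0 → el A a (formVec f₂ a) * el A' b (formVec f₂ b) = 0 :=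
    fun {a b} A A' h => by rw [el_mul, S.h2.dot, h, zero_smul]
  have h12 := h1.add h2 (hz _ _ (by rw [S.h2.add_right, hv, hvs, add_zero]))
  obtain ⟨e, he, hval⟩ := h12.add h3 (by
    rw [add_mul, hz _ _ (show f₂ s (v + s) = 0 by rw [S.h2.add_right, hsv, hs, add_zero]),
      hz _ _ hsv, add_zero])
  refine ⟨e, he, fun z => ?_⟩
  rw [hval, add_mulVec, one_mulVec, add_mulVec, add_mulVec, scalar_el_mulVec, scalar_el_mulVec, el_mulVec,
    one_mulVec, add_assoc z, hadd]
  congr 1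
  ext ⟨i, a⟩
  simp only [tens, ctr, Pi.add_apply, Pi.smul_apply, smul_eq_mul, add_mul, Finset.sum_add_distrib]
  ring

/-- Blocks go to blocks along orthogonality. -/
theorem blk_orth (S : Setting σ ε f₁ f₂ B M) (hmk : Sep m k σ ε) (hNR : NoRadical f₂ M) {g : G} (hg : g ∈ M)
    {v : V2} (hv : v ≠ 0) (hvv : f₂ v v = 0) (hB : Blk f₂ g v) {z : V2} (hzz : f₂ z z = 0)
    (hzv : f₂ z v = 0) (hzn : z ∉ Submodule.span F {v}) : Blk f₂ g z := by
  classical
  obtain ⟨c, v', hv', hvv', hc, h⟩ := hB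
  obtain ⟨hσc, C, ⟨hCi, hCs⟩, hgB, hgc, hsim⟩ := Blk.extract S hg hv hv' hc h
  have hm := S.hm
  have hz0 : z ≠ 0 := fun e => hzn (by rw [e]; exact Submodule.zero_mem _)
  -- preimages
  have hginv : ∀ u, ((g⁻¹ : G) : Big) *ᵥ tens (C u) v' = tens u v := fun u => by
    rw [← hgB, gl_inv_mulVec]
  have hperp : ∀ x, ctr (formVec f₂ v) x = 0 ↔ ctr (formVec f₂ v') ((g : Big) *ᵥ x) = 0 := fun x => by
    rw [← hCi.eq_iff (a := ctr (formVec f₂ v) x) (b := 0), map_zero, hgc, smul_eq_zero, or_iff_right hc]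
  -- the functional attached to an isotropic vector orthogonal to `v`
  have hψ : ∀ s, f₂ s s = 0 → f₂ s v = 0 → ∃ ψ : V2, ∀ y, ctr (formVec f₂ v) y = 0 →
      C (ctr (formVec f₂ s) y) = ctr ψ ((g : Big) *ᵥ y) := by
    intro s hs hsv
    obtain ⟨e, he, heval⟩ := exists_eichler S hvv hs hsv
    set x : G := g * e * g⁻¹ with hxdef
    have hxM : x ∈ M := M.mul_mem (M.mul_mem hg he) (M.inv_mem hg)
    have hxg : ∀ y, (x : Big) *ᵥ ((g : Big) *ᵥ y) = (g : Big) *ᵥ ((e : Big) *ᵥ y) := fun y => by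
      rw [hxdef, gl_mul_mulVec, gl_inv_mulVec, gl_mul_mulVec]
    have hxfix : ∀ u, (x : Big) *ᵥ tens u v' = tens u v' := fun u => by
      obtain ⟨u, rfl⟩ := hCs u
      rw [← hgB, hxg, heval, S.ctr_form_tens, S.ctr_form_tens, hvv, S.h2.eq_zero_comm hsv, zero_smul,
        tens_zero_left, tens_zero_left, add_zero, add_zero]
    have hxperp : ∀ y, ctr (formVec f₂ v) y = 0 →
        (x : Big) *ᵥ ((g : Big) *ᵥ y) - (g : Big) *ᵥ y = tens (C (ctr (formVec f₂ s) y)) v' := fun y hy => by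
      rw [hxg, heval, hy, tens_zero_left, add_zero, mulVec_add, add_sub_cancel_left, hgB]
    obtain ⟨a, b, hab⟩ := hNR v' hv' hvv' x hxM hxfix fun w hw => by
      obtain ⟨y, rfl⟩ : ∃ y, (g : Big) *ᵥ y = w := ⟨_, gl_mulVec_inv g w⟩
      exact ⟨_, hxperp y ((hperp y).2 hw)⟩
    obtain ⟨η, hη⟩ := exists_dot_eq_one hv'
    set bv : V2 := (b : Matrix (Fin k) (Fin k) F) *ᵥ v'
    have hsc : ∀ u, (η ⬝ᵥ bv) • ((a : A1) *ᵥ u) = u := fun u => by
      have := hxfix u
      rw [hab, kron_mulVec_tens] at this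
      have := congrArg (ctr η) this
      rwa [ctr_tens, ctr_tens, hη, one_smul] at this
    set μ := η ⬝ᵥ bv
    have hμ : μ ≠ 0 := fun e => by
      have := hsc (Pi.single ⟨0, by omega⟩ 1)
      rw [e, zero_smul] at this
      simpa using congrFun this ⟨0, by omega⟩
    set N : Matrix (Fin k) (Fin k) F := μ⁻¹ • (b : Matrix (Fin k) (Fin k) F) - 1
    have hxN : ∀ (u : V1) (w : V2), (x : Big) *ᵥ tens u w - tens u w = tens u (N *ᵥ w) := fun u w => by
      rw [hab, kron_mulVec_tens, sub_mulVec, one_mulVec, smul_mulVec,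
        show (a : A1) *ᵥ u = μ⁻¹ • u by rw [eq_inv_smul_iff₀ hμ]; exact hsc u]
      ext p
      simp only [tens, Pi.smul_apply, smul_eq_mul, Pi.sub_apply]
      ring
    refine ⟨η ᵥ* N, fun y hy => ?_⟩
    have h1 := congrArg (ctr η) (hxperp y hy)
    rw [ctr_tens, hη, one_smul] at h1
    rw [← h1]
    set w := (g : Big) *ᵥ y
    conv_lhs => rw [← sum_tens_slice w, mulVec_sum, ← Finset.sum_sub_distrib]
    simp only [hxN]
    funext i
    rw [ctr_eq_dot, ctr_eq_dot, show slice (∑ j, tens (Pi.single j 1 : V1) (N *ᵥ slice w j)) i = N *ᵥ slice w i by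
      funext d
      simp [slice, Finset.sum_apply, tens, Pi.single_apply], dotProduct_mulVec]
  -- the image of the block of `z`
  have hD0 : ∀ u, ctr (formVec f₂ v) (tens u z) = 0 := fun u => by rw [S.ctr_form_tens, hzv, zero_smul]
  set i0 : Fin m := ⟨0, by omega⟩
  obtain ⟨u0, hu0⟩ := hCs (Pi.single i0 1)
  set z' : V2 := slice ((g : Big) *ᵥ tens u0 z) i0 with hz'def
  have hslice : ∀ u i, f₂ (slice ((g : Big) *ᵥ tens u z) i) v' = 0 := fun u i => by
    rw [← S.h2.dot, ← ctr_eq_dot, (hperp _).1 (hD0 u)]; rfl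
  have hz'v : f₂ z' v' = 0 := hslice u0 i0
  have hkill : ∀ w, f₂ w v' = 0 → (∀ s, f₂ s s = 0 → f₂ s v = 0 → ∀ ψ : V2,
      (∀ y, ctr (formVec f₂ v) y = 0 → C (ctr (formVec f₂ s) y) = ctr ψ ((g : Big) *ᵥ y)) → ψ ⬝ᵥ w = 0) →
      w ∈ Submodule.span F {v'} := by
    intro w hw hk
    set x := ((g⁻¹ : G) : Big) *ᵥ tens (Pi.single i0 1 : V1) w with hxdef
    have hgx : (g : Big) *ᵥ x = tens (Pi.single i0 1) w := gl_mulVec_inv g _
    have hx0 : ctr (formVec f₂ v) x = 0 := by rw [hperp, hgx, S.ctr_form_tens, hw, zero_smul]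
    have hsl : ∀ i, slice x i ∈ Submodule.span F {v} := fun i => by
      refine S.rich.avoid v _ hv hvv fun s hs hsv => S.h2.eq_zero_comm ?_
      obtain ⟨ψ, hψs⟩ := hψ s hs hsv
      have e := hψs x hx0
      rw [hgx, ctr_tens, hk s hs hsv ψ hψs, zero_smul, ← map_zero C] at e
      rw [← S.h2.dot, ← ctr_eq_dot, hCi e]; rfl
    choose α hα using fun i => Submodule.mem_span_singleton.1 (hsl i)
    have hx : x = tens α v := by
      ext ⟨i, d⟩
      exact (congrFun (hα i) d).symm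
    rw [hx, hgB] at hgx
    refine Submodule.mem_span_singleton.2 ⟨C α i0, funext fun d => ?_⟩
    have := congrFun hgx (i0, d)
    simpa [tens] using this
  have hstep : ∀ u i, slice ((g : Big) *ᵥ tens u z) i - C u i • z' ∈ Submodule.span F {v'} := by
    intro u i
    refine hkill _ ?_ fun s hs hsv ψ hψs => ?_
    · rw [S.h2.sub_left, S.h2.lin.smul_left, hslice, hz'v, mul_zero, sub_zero]
    · have e : ∀ u i, ψ ⬝ᵥ slice ((g : Big) *ᵥ tens u z) i = f₂ z s * C u i := fun u i => by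
        have := congrFun (hψs _ (hD0 u)) i
        rw [S.ctr_form_tens, map_smul] at this
        exact this.symm
      rw [dotProduct_sub, dotProduct_smul, e, e, hu0, Pi.single_eq_same, mul_one, smul_eq_mul, mul_comm,
        sub_self]
  choose D hD using fun u i => Submodule.mem_span_singleton.1 (hstep u i)
  have hgz : ∀ u, (g : Big) *ᵥ tens u z = tens (C u) z' + tens (D u) v' := fun u => by
    ext ⟨i, d⟩
    have e : D u i * v' d = ((g : Big) *ᵥ tens u z) (i, d) - C u i * z' d := congrFun (hD u i) d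
    simp only [Pi.add_apply, tens]
    linear_combination -e
  have hz'n : z' ∉ Submodule.span F {v'} := by
    intro hmem
    obtain ⟨t, ht⟩ := Submodule.mem_span_singleton.1 hmem
    set e : V1 := Pi.single i0 1
    obtain ⟨a, ha⟩ := hCs (t • C e + D e)
    have h1 : (g : Big) *ᵥ tens e z = (g : Big) *ᵥ tens a v := by
      rw [hgz, hgB, ha, tens_add_left, ← ht, tens_smul_right, tens_smul_left]
    have h2 : tens e z = tens a v := gl_mulVec_injective g h1
    refine hzn (Submodule.mem_span_singleton.2 ⟨a i0, funext fun d => ?_⟩)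
    have := congrFun h2 (i0, d)
    simp [tens, e] at this
    simpa using this.symm
  have hz'0 : z' ≠ 0 := fun e => hz'n (by rw [e]; exact Submodule.zero_mem _)
  have hv'z : f₂ v' z' = 0 := S.h2.eq_zero_comm hz'v
  have hz'z' : f₂ z' z' = 0 := by
    obtain ⟨p, q, hpq⟩ := S.exists_pair
    obtain ⟨p, rfl⟩ := hCs p
    obtain ⟨q, rfl⟩ := hCs q
    have := S.iso g hg (tens p z) (tens q z)
    rw [hgz, hgz, S.B_tens, hzz, zero_mul, S.lin.add_left] at this
    rw [S.addR, S.addR, S.B_tens, S.B_tens, S.B_tens, S.B_tens, hz'v, hvv', hv'z] at this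
    simp only [zero_mul, add_zero] at this
    exact (mul_eq_zero.1 this).resolve_right hpq
  -- the conjugate root element is a root element times a radical element
  have hctrz : ∀ x, ctr (formVec f₂ v) x = 0 →
      C (ctr (formVec f₂ z) x) = c • ctr (formVec f₂ z') ((g : Big) *ᵥ x) := fun x hx => by
    refine S.h1.eq_of_left fun u => ?_
    obtain ⟨u, rfl⟩ := hCs u
    rw [hsim, S.h1.lin.smul_left, ← S.hB x u z, ← S.iso g hg, hgz, S.addR, S.hB, S.hB, (hperp x).1 hx,
      form_zero_left S.h1.lin, add_zero]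
  obtain ⟨T0, hT0, hT0v⟩ := S.root_one hzz
  obtain ⟨R, hR, hRv⟩ := S.root z' c hz'z' hσc
  set T : G := g * T0 * g⁻¹ with hTdef
  have hTM : T ∈ M := M.mul_mem (M.mul_mem hg hT0) (M.inv_mem hg)
  have hTg : ∀ x, (T : Big) *ᵥ ((g : Big) *ᵥ x) =
      (g : Big) *ᵥ (x + tens (ctr (formVec f₂ z) x) z) := fun x => by
    rw [hTdef, gl_mul_mulVec, gl_inv_mulVec, gl_mul_mulVec, hT0v, add_mulVec, one_mulVec, el_mulVec, one_mulVec]
  have hRapp : ∀ y, (R : Big) *ᵥ y = y + tens (c • ctr (formVec f₂ z') y) z' := fun y => by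
    rw [hRv, add_mulVec, one_mulVec, scalar_el_mulVec]
  have hRv' : ∀ u, (R : Big) *ᵥ tens u v' = tens u v' := fun u => by
    rw [hRapp, S.ctr_form_tens, hv'z, zero_smul, smul_zero, tens_zero_left, add_zero]
  have hfix : ∀ u, ((R⁻¹ * T : G) : Big) *ᵥ tens u v' = tens u v' := fun u => by
    obtain ⟨u, rfl⟩ := hCs u
    rw [gl_mul_mulVec, ← hgB, hTg, S.ctr_form_tens, S.h2.eq_zero_comm hzv, zero_smul, tens_zero_left, add_zero,
      hgB]
    exact gl_mulVec_injective R (show (R : Big) *ᵥ _ = (R : Big) *ᵥ _ by rw [gl_mulVec_inv, hRv'])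
  have hperpfix : ∀ y, ctr (formVec f₂ v') y = 0 →
      ∃ a, ((R⁻¹ * T : G) : Big) *ᵥ y - y = tens a v' := fun y hy => by
    obtain ⟨x, rfl⟩ : ∃ x, (g : Big) *ᵥ x = y := ⟨_, gl_mulVec_inv g y⟩
    have hx := (hperp x).2 hy
    refine ⟨D (ctr (formVec f₂ z) x), ?_⟩
    rw [gl_mul_mulVec, hTg, mulVec_add, hgz, hctrz x hx, sub_eq_iff_eq_add']
    refine gl_mulVec_injective R (show (R : Big) *ᵥ _ = (R : Big) *ᵥ _ from ?_)
    rw [gl_mulVec_inv, mulVec_add, hRapp, hRv', add_assoc]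
  have hk := hNR v' hv' hvv' _ (M.mul_mem (M.inv_mem hR) hTM) hfix hperpfix
  have hTk : T ∈ Cfsg.Geo.kroneckerSubgroup m k F := by
    have := Subgroup.mul_mem _ (root_mem_kron S hz'z' hRv) hk
    rwa [mul_inv_cancel_left] at this
  refine blk_of_kron S hmk hTM hz0 hzz hTk ?_
  rw [hTdef, ← Units.val_mul, inv_mul_cancel_right, Units.val_mul, hT0v]

theorem blk_all (S : Setting σ ε f₁ f₂ B M) (hmk : Sep m k σ ε) (hNR : NoRadical f₂ M) {g : G} (hg : g ∈ M)
    {v : V2} (hv : v ≠ 0) (hvv : f₂ v v = 0) (hB : Blk f₂ g v) {z : V2} (hz : z ≠ 0) (hzz : f₂ z z = 0) :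
    Blk f₂ g z := by
  by_cases hzv : z ∈ Submodule.span F {v}
  · obtain ⟨a, rfl⟩ := Submodule.mem_span_singleton.1 hzv
    exact Blk.smul S hB fun e => hz (by rw [e, zero_smul])
  by_cases hd : f₂ z v = 0
  · exact blk_orth S hmk hNR hg hv hvv hB hzz hd hzv
  obtain ⟨s, hs, hss, hso⟩ := S.rich.orth 2 ![v, z] (by have := S.hk; omega)
  have hsv : f₂ s v = 0 := hso 0
  have hsz : f₂ s z = 0 := hso 1
  have h1 : s ∉ Submodule.span F {v} := fun e => by
    obtain ⟨a, rfl⟩ := Submodule.mem_span_singleton.1 e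
    have ha : a ≠ 0 := fun e => hs (by rw [e, zero_smul])
    rw [S.h2.lin.smul_left] at hsz
    exact hd (S.h2.eq_zero_comm ((mul_eq_zero.1 hsz).resolve_left ha))
  have h2 : z ∉ Submodule.span F {s} := fun e => by
    obtain ⟨a, rfl⟩ := Submodule.mem_span_singleton.1 e
    rw [S.h2.lin.smul_left, hsv, mul_zero] at hd
    exact hd rfl
  exact blk_orth S hmk hNR hg hs hss (blk_orth S hmk hNR hg hv hvv hB hss hsv h1) hzz
    (S.h2.eq_zero_comm hsz) h2

/-- The isotropic vectors span. -/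
theorem span_isotropic [Finite F] (S : Setting σ ε f₁ f₂ B M) :
    Submodule.span F {v : V2 | f₂ v v = 0} = ⊤ := by
  by_contra hne
  obtain ⟨x, -, hx⟩ := SetLike.exists_of_lt (lt_top_iff_ne_top.2 hne)
  obtain ⟨φ, hφ, hφx⟩ := exists_functional hx
  obtain ⟨w, hw⟩ := formVec_surjective S.h2.lin (fun a b c => S.h2.add_right a b c)
    (fun a ha => ⟨S.h2.nondeg a ha, by
      obtain ⟨y, hy⟩ := S.h2.nondeg a ha
      exact ⟨y, fun e => hy (S.h2.eq_zero_comm e)⟩⟩) φ
  have hiso : ∀ s, f₂ s s = 0 → f₂ s w = 0 := fun s hs => by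
    rw [← S.h2.dot, hw]
    exact hφ s (Submodule.subset_span hs)
  have hk := S.hk
  obtain ⟨v, hv, hvv, -⟩ := S.rich.orth 0 ![] (by omega)
  obtain ⟨s, hs, hsv, hsn⟩ := S.exists_second hv hvv (T := Submodule.span F {v})
    (by rw [finrank_span_singleton hv]; omega)
  have hs0 : s ≠ 0 := fun e => hsn (by rw [e]; exact Submodule.zero_mem _)
  obtain ⟨a, ha⟩ := Submodule.mem_span_singleton.1 (S.rich.avoid v w hv hvv fun t ht _ => hiso t ht)
  obtain ⟨b, hb⟩ := Submodule.mem_span_singleton.1 (S.rich.avoid s w hs0 hs fun t ht _ => hiso t ht)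
  have hw0 : w = 0 := by
    by_cases hb0 : b = 0
    · rw [← hb, hb0, zero_smul]
    exfalso
    refine hsn (Submodule.mem_span_singleton.2 ⟨b⁻¹ * a, ?_⟩)
    rw [← smul_smul, ha, ← hb, inv_smul_smul₀ hb0]
  rw [← hw, hw0, S.h2.dot, S.h2.zero_right] at hφx
  exact zero_ne_one hφx

/-- An element carrying one isotropic block onto another lies in the stabiliser. -/
theorem mem_of_blk [Finite F] (S : Setting σ ε f₁ f₂ B M) (hmk : Sep m k σ ε) (hNR : NoRadical f₂ M) {g : G}
    (hg : g ∈ M) {v : V2} (hv : v ≠ 0) (hvv : f₂ v v = 0) (hB : Blk f₂ g v) :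
    g ∈ Cfsg.Geo.kroneckerSubgroup m k F := by
  classical
  have hm := S.hm
  have hall : ∀ z, z ≠ 0 → f₂ z z = 0 → ∃ (C : V1 →ₗ[F] V1) (z' : V2), Function.Bijective C ∧ z' ≠ 0 ∧
      ∀ u, (g : Big) *ᵥ tens u z = tens (C u) z' := fun z hz hzz => by
    obtain ⟨c, z', hz', -, hc, h⟩ := blk_all S hmk hNR hg hv hvv hB hz hzz
    obtain ⟨-, C, hC, hgC, -, -⟩ := Blk.extract S hg hz hz' hc h
    exact ⟨C, z', hC, hz', hgC⟩
  obtain ⟨C, v', hC, hv', hgv⟩ := hall v hv hvv
  let Col : Submodule F V2 :=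
    { carrier := {w | ∃ w' : V2, ∀ u, (g : Big) *ᵥ tens u w = tens (C u) w'}
      zero_mem' := ⟨0, fun u => by rw [tens_zero_right, mulVec_zero, tens_zero_right]⟩
      add_mem' := fun {a b} ⟨a', ha⟩ ⟨b', hb⟩ => ⟨a' + b', fun u => by
        rw [tens_add_right, mulVec_add, ha, hb, tens_add_right]⟩
      smul_mem' := fun d a ⟨a', ha⟩ => ⟨d • a', fun u => by
        rw [tens_smul_right, mulVec_smul, ha, tens_smul_right]⟩ }
  have hcolorth : ∀ a s, a ∈ Col → a ≠ 0 → f₂ a a = 0 → f₂ s s = 0 → f₂ s a = 0 →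
      s ∉ Submodule.span F {a} → s ∈ Col := by
    rintro a s ⟨a', ha⟩ ha0 haa hs hsa hsn
    have hs0 : s ≠ 0 := fun e => hsn (by rw [e]; exact Submodule.zero_mem _)
    have hsum : a + s ≠ 0 := fun e => hsn (Submodule.mem_span_singleton.2 ⟨-1, by
      rw [neg_one_smul, neg_eq_of_add_eq_zero_right e]⟩)
    obtain ⟨Cs, s', hCs, hs', hgs⟩ := hall s hs0 hs
    obtain ⟨Cp, w, -, -, hgp⟩ := hall (a + s) hsum (by
      rw [S.h2.lin.add_left, S.h2.add_right, S.h2.add_right, haa, hs, hsa, S.h2.eq_zero_comm hsa]; ring)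
    have hsum' : ∀ u, tens (C u) a' + tens (Cs u) s' = tens (Cp u) w := fun u => by
      rw [← ha, ← hgs, ← mulVec_add, ← tens_add_right, hgp]
    have hi0 : (Pi.single ⟨0, by omega⟩ 1 : V1) ≠ 0 := by simp
    have hindep : a' ∉ Submodule.span F {s'} := by
      intro e
      obtain ⟨t, ht⟩ := Submodule.mem_span_singleton.1 e
      set u : V1 := Pi.single ⟨0, by omega⟩ 1
      obtain ⟨u', hu'⟩ := hCs.2 (t • C u)
      have h2 : tens u a = tens u' s := gl_mulVec_injective g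
        (show (g : Big) *ᵥ tens u a = (g : Big) *ᵥ tens u' s by
          rw [ha, hgs, hu', ← ht, tens_smul_right, tens_smul_left])
      obtain ⟨i, hi⟩ := Function.ne_iff.1 hi0
      have hai : a = ((u i)⁻¹ * u' i) • s := funext fun d => by
        have e1 : u i * a d = u' i * s d := congrFun h2 (i, d)
        rw [Pi.smul_apply, smul_eq_mul, mul_assoc, ← e1, inv_mul_cancel_left₀ hi]
      have ht0 : (u i)⁻¹ * u' i ≠ 0 := fun e0 => ha0 (by rw [hai, e0, zero_smul])
      exact hsn (Submodule.mem_span_singleton.2 ⟨((u i)⁻¹ * u' i)⁻¹, by rw [hai, inv_smul_smul₀ ht0]⟩)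
    have hindep' : s' ∉ Submodule.span F {a'} := fun e => by
      obtain ⟨t, ht⟩ := Submodule.mem_span_singleton.1 e
      have ht0 : t ≠ 0 := fun e0 => hs' (by rw [← ht, e0, zero_smul])
      exact hindep (Submodule.mem_span_singleton.2 ⟨t⁻¹, by rw [← ht, inv_smul_smul₀ ht0]⟩)
    obtain ⟨η, hη, hηa⟩ := exists_functional hindep
    obtain ⟨η', hη', hηs⟩ := exists_functional hindep'
    have h1 : ∀ u, C u = (η ⬝ᵥ w) • Cp u := fun u => by
      have := congrArg (ctr η) (hsum' u)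
      rwa [ctr_add, ctr_tens, ctr_tens, ctr_tens, hηa, hη s' (Submodule.mem_span_singleton_self s'), zero_smul,
        add_zero, one_smul] at this
    have h2 : ∀ u, Cs u = (η' ⬝ᵥ w) • Cp u := fun u => by
      have := congrArg (ctr η') (hsum' u)
      rwa [ctr_add, ctr_tens, ctr_tens, ctr_tens, hη' a' (Submodule.mem_span_singleton_self a'), hηs, zero_smul,
        zero_add, one_smul] at this
    have hne : η ⬝ᵥ w ≠ 0 := fun e => hi0 (hC.1 (by rw [h1, e, zero_smul, map_zero]))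
    refine ⟨((η' ⬝ᵥ w) * (η ⬝ᵥ w)⁻¹) • s', fun u => ?_⟩
    rw [hgs, h2, h1, tens_smul_right, tens_smul_left, tens_smul_left, smul_smul, mul_assoc,
      inv_mul_cancel₀ hne, mul_one]
  have hvC : v ∈ Col := ⟨v', hgv⟩
  have hisoC : ∀ z, f₂ z z = 0 → z ∈ Col := by
    intro z hzz
    by_cases hzv : z ∈ Submodule.span F {v}
    · obtain ⟨a, rfl⟩ := Submodule.mem_span_singleton.1 hzv
      exact Col.smul_mem a hvC
    by_cases hd : f₂ z v = 0
    · exact hcolorth v z hvC hv hvv hzz hd hzv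
    obtain ⟨s, hs, hss, hso⟩ := S.rich.orth 2 ![v, z] (by have := S.hk; omega)
    have hsv : f₂ s v = 0 := hso 0
    have hsz : f₂ s z = 0 := hso 1
    have h1 : s ∉ Submodule.span F {v} := fun e => by
      obtain ⟨a, rfl⟩ := Submodule.mem_span_singleton.1 e
      have ha : a ≠ 0 := fun e => hs (by rw [e, zero_smul])
      rw [S.h2.lin.smul_left] at hsz
      exact hd (S.h2.eq_zero_comm ((mul_eq_zero.1 hsz).resolve_left ha))
    have h2 : z ∉ Submodule.span F {s} := fun e => by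
      obtain ⟨a, rfl⟩ := Submodule.mem_span_singleton.1 e
      rw [S.h2.lin.smul_left, hsv, mul_zero] at hd
      exact hd rfl
    exact hcolorth s z (hcolorth v s hvC hv hvv hss hsv h1) hs hss hzz (S.h2.eq_zero_comm hsz) h2
  have htop : Col = ⊤ := eq_top_iff.2 (span_isotropic S ▸ Submodule.span_le.2 hisoC)
  choose N hN using fun w : V2 => (htop ▸ Submodule.mem_top : w ∈ Col)
  set Nm : Matrix (Fin k) (Fin k) F := Matrix.of fun d e => N (Pi.single e 1) d
  set Cm : A1 := LinearMap.toMatrix' C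
  have hgN : (g : Big) = Cm ⊗ₖ Nm := by
    refine Matrix.ext fun p q => ?_
    obtain ⟨i, d⟩ := p
    obtain ⟨j, e⟩ := q
    have := congrFun (hN (Pi.single e 1) (Pi.single j 1)) (i, d)
    rw [show tens (Pi.single j (1 : F)) (Pi.single e 1) = Pi.single (j, e) 1 by
      ext ⟨a, b⟩; simp only [tens, Pi.single_apply, Prod.mk.injEq]; split_ifs <;> simp_all,
      mulVec_single_one] at this
    rw [kroneckerMap_apply, show Cm i j = C (Pi.single j 1) i by simp [Cm, LinearMap.toMatrix'_apply]]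
    exact this
  have := S.hk
  have hd := GeneralLinearGroup.det_ne_zero g
  rw [hgN, det_kronecker, Fintype.card_fin, Fintype.card_fin] at hd
  refine ⟨GeneralLinearGroup.mkOfDetNeZero Cm fun e => hd ?_,
    GeneralLinearGroup.mkOfDetNeZero Nm fun e => hd ?_, hgN⟩
  · rw [e, zero_pow (by omega), zero_mul]
  · rw [e, zero_pow (by omega), mul_zero]

end Cfsg.Agent.Lib.TensorFormMax.BlkKron
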