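import Mathlib.GroupTheory.Sylow
import Mathlib.GroupTheory.Nilpotent

/-!
An element of order `p` whose conjugates in a subgroup only reach that subgroup through it forces every
element of order `p` to be conjugate into the subgroup.
-/

set_option autoImplicit false

namespace Cfsg.Agent.Lib.TensorFormMax.SylowArg

variable {G : Type*} [Group G]

/-- In the subgroup generated by `t` and `s`, a conjugate of `s` lies in `H`. -/
theorem exists_conj_mem [Finite G] {p : ℕ} [Fact p.Prime] (H : Subgroup G) {t s : G}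
    (ht : t ^ p = 1) (hs : s ^ p = 1) (htH : t ∈ H)
    (hstep : ∀ x ∈ Subgroup.closure ({t, s} : Set G), x * t * x⁻¹ ∈ H → x ∈ H) :
    ∃ c ∈ Subgroup.closure ({t, s} : Set G), c⁻¹ * s * c ∈ H := by
  set K := Subgroup.closure ({t, s} : Set G)
  let t' : K := ⟨t, Subgroup.subset_closure (by simp)⟩
  let s' : K := ⟨s, Subgroup.subset_closure (by simp)⟩
  have hp : ∀ a : K, a ^ p = 1 → IsPGroup p (Subgroup.zpowers a) := fun a ha => by
    rintro ⟨b, hb⟩
    obtain ⟨i, rfl⟩ := Subgroup.mem_zpowers_iff.1 hb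
    refine ⟨1, Subtype.ext ?_⟩
    simp only [pow_one, SubgroupClass.coe_pow, OneMemClass.coe_one]
    rw [← zpow_natCast, ← zpow_mul, mul_comm, zpow_mul, zpow_natCast, ha, one_zpow]
  obtain ⟨P, hP⟩ := (hp t' (Subtype.ext (by simpa using ht))).exists_le_sylow
  obtain ⟨Q, hQ⟩ := (hp s' (Subtype.ext (by simpa using hs))).exists_le_sylow
  have htP : t' ∈ P := hP (Subgroup.mem_zpowers t')
  -- the Sylow subgroup lies in `H`
  have hPH : ∀ x ∈ P, ((x : K) : G) ∈ H := by
    haveI : Group.IsNilpotent (P : Subgroup K) := P.isPGroup'.isNilpotent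
    set P0 : Subgroup (P : Subgroup K) := H.comap (K.subtype.comp (P : Subgroup K).subtype)
    by_contra hc
    push Not at hc
    obtain ⟨x, hxP, hxH⟩ := hc
    have hlt : P0 < ⊤ := lt_top_iff_ne_top.2 fun e =>
      hxH (show (⟨x, hxP⟩ : (P : Subgroup K)) ∈ P0 from e ▸ Subgroup.mem_top _)
    obtain ⟨y, hy, hyn⟩ := SetLike.exists_of_lt (normalizerCondition_of_isNilpotent P0 hlt)
    exact hyn (hstep _ (y : K).2
      ((Subgroup.mem_normalizer_iff.1 hy ⟨t', htP⟩).1 (show ((t' : K) : G) ∈ H from htH)))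
  obtain ⟨c, hc⟩ := MulAction.exists_smul_eq K P Q
  refine ⟨c, c.2, hPH (c⁻¹ * s' * c) ?_⟩
  have hsQ : s' ∈ (c • P : Sylow p K) := hc ▸ hQ (Subgroup.mem_zpowers s')
  rw [← SetLike.mem_coe, Sylow.coe_smul, Set.mem_smul_set] at hsQ
  obtain ⟨a, ha, he⟩ := hsQ
  have e : c⁻¹ * s' * c = a := by
    rw [← he, MulAut.smul_def, MulAut.conj_apply]
    group
  rw [e]
  exact ha

end Cfsg.Agent.Lib.TensorFormMax.SylowArg
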