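import Cfsg.Agent.Lib.TensorFormMax.BlkKron
import Cfsg.Agent.Lib.TensorFormMax.SylowArg

/-!
When the group meets the radicals inside the tensor product stabiliser, it lies in the stabiliser: a root
element moved out of the stabiliser is conjugate back into it by a Sylow argument.
-/

set_option autoImplicit false

namespace Cfsg.Agent.Lib.TensorFormMax.Rigid

open Matrix Kronecker
open Cfsg.Agent.Lib.Subspaces.Transvection Cfsg.Agent.Lib.Subspaces.FormVec
  Cfsg.Agent.Lib.TensorMax.Block Cfsg.Agent.Lib.TensorMax.Lemmas Cfsg.Agent.Lib.TensorFormMax.Basic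
  Cfsg.Agent.Lib.TensorFormMax.RootKron Cfsg.Agent.Lib.TensorFormMax.BlkKron

variable {F : Type*} [Field F] {m k : ℕ} {σ : F →+* F} {ε : F}
  {f₁ : (Fin m → F) → (Fin m → F) → F} {f₂ : (Fin k → F) → (Fin k → F) → F}
  {B : (Fin m × Fin k → F) → (Fin m × Fin k → F) → F} {M : Subgroup (GL (Fin m × Fin k) F)}

local notation "V1" => Fin m → F
local notation "V2" => Fin k → F
local notation "Big" => Matrix (Fin m × Fin k) (Fin m × Fin k) F
local notation "A1" => Matrix (Fin m) (Fin m) F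
local notation "G" => GL (Fin m × Fin k) F

theorem pow_eq_one {p : ℕ} [CharP F p] {x : G} {X : Big} (hx : (x : Big) = 1 + X) (hXX : X * X = 0) :
    x ^ p = 1 := by
  have key : ∀ n : ℕ, ((x ^ n : G) : Big) = 1 + (n : F) • X := by
    intro n
    induction n with
    | zero => simp
    | succ n ih =>
      rw [pow_succ, Units.val_mul, ih, hx, add_mul, one_mul, Matrix.smul_mul, mul_add, hXX, mul_one, add_zero,
        Nat.cast_succ, add_smul, one_smul]
      abel
  refine Units.ext ?_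
  rw [key, CharP.cast_eq_zero, zero_smul, add_zero, Units.val_one]

/-- The block of `v` as a linear map, moved by `g`. -/
def blockMap (g : GL (Fin m × Fin k) F) (v : Fin k → F) : (Fin m → F) →ₗ[F] (Fin m × Fin k → F) where
  toFun := fun u => (g : Big) *ᵥ tens u v
  map_add' := fun p q => by rw [tens_add_left, mulVec_add]
  map_smul' := fun d p => by rw [RingHom.id_apply, tens_smul_left, mulVec_smul]

variable [Finite F] (S : Setting σ ε f₁ f₂ B M) (hmk : Sep m k σ ε) (hNR : NoRadical f₂ M)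
include S hmk hNR

theorem key {g : G} (hg : g ∈ M) {v : V2} (hv : v ≠ 0) (hvv : f₂ v v = 0) {v0 : V2} (hv0 : v0 ≠ 0)
    (hv00 : f₂ v0 v0 = 0) :
    ∃ v1 : V2, v1 ≠ 0 ∧ f₂ v1 v1 = 0 ∧
      (∀ a, ∃ a' b, tens a v1 = (g : Big) *ᵥ tens a' v + tens b v0) ∧
      ∀ a', ctr (formVec f₂ v0) ((g : Big) *ᵥ tens a' v) = 0 →
        ∃ a, (g : Big) *ᵥ tens a' v = tens a v1 := by
  obtain ⟨T0, hT0, hT0v⟩ := S.root_one hvv
  obtain ⟨R0, hR0, hR0v⟩ := S.root_one hv00
  set T : G := g * T0 * g⁻¹ with hTdef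
  obtain ⟨p, hp⟩ := CharP.exists F
  haveI : Fact p.Prime :=
    ⟨(CharP.char_is_prime_or_zero F p).resolve_right (CharP.char_ne_zero_of_finite F p)⟩
  have hsq : ∀ {w : V2}, f₂ w w = 0 → el (1 : A1) w (formVec f₂ w) * el (1 : A1) w (formVec f₂ w) = 0 :=
    fun {w} h => by rw [el_mul, S.h2.dot, h, zero_smul]
  have hRp : R0 ^ p = 1 := pow_eq_one hR0v (hsq hv00)
  have hTp : T ^ p = 1 := by
    rw [hTdef, conj_pow, pow_eq_one hT0v (hsq hvv), mul_one, mul_inv_cancel]
  have hsub : Subgroup.closure ({R0, T} : Set G) ≤ M := by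
    rw [Subgroup.closure_le]
    rintro x (rfl | rfl)
    · exact hR0
    · exact M.mul_mem (M.mul_mem hg hT0) (M.inv_mem hg)
  have hstep : ∀ x ∈ Subgroup.closure ({R0, T} : Set G),
      x * R0 * x⁻¹ ∈ Cfsg.Geo.kroneckerSubgroup m k F → x ∈ Cfsg.Geo.kroneckerSubgroup m k F := by
    intro x hx hxk
    refine mem_of_blk S hmk hNR (hsub hx) hv0 hv00 ?_
    refine blk_of_kron S hmk (M.mul_mem (M.mul_mem (hsub hx) hR0) (M.inv_mem (hsub hx))) hv0 hv00 hxk ?_
    rw [← Units.val_mul, inv_mul_cancel_right, Units.val_mul, hR0v]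
  obtain ⟨c, hc, hck⟩ := SylowArg.exists_conj_mem _ hRp hTp (root_mem_kron S hv00 (c := 1)
    (by rw [one_smul]; exact hR0v)) hstep
  have hcM : c ∈ M := hsub hc
  have hgM : c⁻¹ * g ∈ M := M.mul_mem (M.inv_mem hcM) hg
  have hblk : Blk f₂ (c⁻¹ * g) v := by
    refine blk_of_kron S hmk
      (M.mul_mem (M.mul_mem (M.inv_mem hcM) (hsub (Subgroup.subset_closure (by simp)))) hcM) hv hvv hck ?_
    rw [← Units.val_mul, show c⁻¹ * T * c * (c⁻¹ * g) = c⁻¹ * g * T0 by rw [hTdef]; group,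
      Units.val_mul, hT0v]
  obtain ⟨d, v1, hv1, hv11, hd, h⟩ := hblk
  obtain ⟨-, C, ⟨hCi, hCs⟩, hgC, -, -⟩ := Blk.extract S hgM hv hv1 hd h
  have hcg : ∀ a, (c : Big) *ᵥ tens (C a) v1 = (g : Big) *ᵥ tens a v := fun a => by
    rw [← hgC, ← gl_mul_mulVec, mul_inv_cancel_left]
  set U := LinearMap.range (blockMap g v) ⊔ LinearMap.range (blockMap (1 : G) v0)
  have hTapp : ∀ z, (T : Big) *ᵥ z = z + (g : Big) *ᵥ tens (ctr (formVec f₂ v) (((g⁻¹ : G) : Big) *ᵥ z)) v := by
    intro z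
    rw [hTdef, gl_mul_mulVec, gl_mul_mulVec, hT0v, add_mulVec, one_mulVec, el_mulVec, one_mulVec, mulVec_add,
      gl_mulVec_inv]
  have hRapp : ∀ z, (R0 : Big) *ᵥ z = z + tens (ctr (formVec f₂ v0) z) v0 := fun z => by
    rw [hR0v, add_mulVec, one_mulVec, el_mulVec, one_mulVec]
  have hprop : ∀ x ∈ Subgroup.closure ({R0, T} : Set G),
      (∀ z, (x : Big) *ᵥ z - z ∈ U) ∧
        ∀ z, (R0 : Big) *ᵥ z = z → (T : Big) *ᵥ z = z → (x : Big) *ᵥ z = z := by
    intro x hx
    induction hx using Subgroup.closure_induction with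
    | mem x hx =>
      rcases hx with rfl | rfl
      · refine ⟨fun z => ?_, fun z h1 _ => h1⟩
        rw [hRapp, add_sub_cancel_left]
        exact Submodule.mem_sup_right ⟨_, by show ((1 : G) : Big) *ᵥ _ = _; rw [Units.val_one, one_mulVec]⟩
      · refine ⟨fun z => ?_, fun z _ h2 => h2⟩
        rw [hTapp, add_sub_cancel_left]
        exact Submodule.mem_sup_left ⟨_, rfl⟩
    | one => exact ⟨fun z => by simp, fun z _ _ => by simp⟩
    | mul x y _ _ hx hy =>
      refine ⟨fun z => ?_, fun z h1 h2 => by rw [gl_mul_mulVec, hy.2 z h1 h2, hx.2 z h1 h2]⟩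
      rw [gl_mul_mulVec, ← sub_add_sub_cancel _ ((y : Big) *ᵥ z) z]
      exact U.add_mem (hx.1 _) (hy.1 z)
    | inv x _ hx =>
      refine ⟨fun z => ?_, fun z h1 h2 => ?_⟩
      · have := U.neg_mem (hx.1 (((x⁻¹ : G) : Big) *ᵥ z))
        rwa [gl_mulVec_inv, neg_sub] at this
      · conv_lhs => rw [← hx.2 z h1 h2]
        rw [gl_inv_mulVec]
  obtain ⟨hcU, hcfix⟩ := hprop c hc
  refine ⟨v1, hv1, hv11, fun a => ?_, fun a' ha' => ?_⟩
  · obtain ⟨a0, rfl⟩ := hCs a
    have := hcU (tens (C a0) v1)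
    rw [hcg] at this
    obtain ⟨_, ⟨a2, rfl⟩, _, ⟨b, rfl⟩, he⟩ := Submodule.mem_sup.1 this
    refine ⟨a0 - a2, -b, ?_⟩
    have e1 : blockMap (1 : G) v0 b = tens b v0 := by
      show ((1 : G) : Big) *ᵥ _ = _; rw [Units.val_one, one_mulVec]
    rw [e1] at he
    have e2 : (g : Big) *ᵥ tens a2 v + tens b v0 = (g : Big) *ᵥ tens a0 v - tens (C a0) v1 := he
    rw [tens_sub_left, mulVec_sub, ← neg_one_smul F b, tens_smul_left, neg_one_smul]
    linear_combination (norm := module) e2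
  · set w := (g : Big) *ᵥ tens a' v with hw
    have h1 : (R0 : Big) *ᵥ w = w := by rw [hRapp, ha', tens_zero_left, add_zero]
    have h2 : (T : Big) *ᵥ w = w := by
      rw [hTapp, hw, gl_inv_mulVec, S.ctr_form_tens, hvv, zero_smul, tens_zero_left, mulVec_zero, add_zero]
    refine ⟨C a', gl_mulVec_injective c (show (c : Big) *ᵥ w = (c : Big) *ᵥ tens (C a') v1 from ?_)⟩
    rw [hcfix w h1 h2, hcg]

/-- A block whose image contains an isotropic pure tensor. -/
theorem mem_of_pure {g : G} (hg : g ∈ M) {v : V2} (hv : v ≠ 0) (hvv : f₂ v v = 0) {a0 u : V1}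
    (hu : u ≠ 0) {v' : V2} (hv' : v' ≠ 0) (hvv' : f₂ v' v' = 0)
    (h : (g : Big) *ᵥ tens a0 v = tens u v') : g ∈ Cfsg.Geo.kroneckerSubgroup m k F := by
  have hk := S.hk
  obtain ⟨v0, hv00, hv0v', hv0n⟩ := S.exists_second hv' hvv' (T := Submodule.span F {v'})
    (by rw [finrank_span_singleton hv']; omega)
  obtain ⟨v0', hv00', hv0v'', hv0n'⟩ := S.exists_second hv' hvv'
    (T := Submodule.span F {v'} ⊔ Submodule.span F {v0}) (by
      have h1 : Module.finrank F (Submodule.span F {v'}) ≤ 1 := (finrank_span_le_card _).trans (by simp)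
      have h2 : Module.finrank F (Submodule.span F {v0}) ≤ 1 := (finrank_span_le_card _).trans (by simp)
      have := Submodule.finrank_add_le_finrank_add_finrank (Submodule.span F {v'}) (Submodule.span F {v0})
      omega)
  have hpair : ∀ w : V2, f₂ w w = 0 → f₂ w v' = 0 → w ∉ Submodule.span F {v'} →
      ∀ a', ∃ a b, (g : Big) *ᵥ tens a' v = tens a v' + tens b w := by
    intro w hw hwv' hwn
    have hw0 : w ≠ 0 := fun e => hwn (by rw [e]; exact Submodule.zero_mem _)
    obtain ⟨v1, hv1, -, h1, h2⟩ := key S hmk hNR hg hv hvv hw0 hw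
    obtain ⟨a1, ha1⟩ := h2 a0 (by rw [h, S.ctr_form_tens, S.h2.eq_zero_comm hwv', zero_smul])
    rw [h] at ha1
    -- the centre is `v'`
    obtain ⟨t, ht, hv1t⟩ : ∃ t : F, t ≠ 0 ∧ v' = t • v1 := by
      obtain ⟨i, hi⟩ := Function.ne_iff.1 hu
      have e : v' = ((u i)⁻¹ * a1 i) • v1 := funext fun d => by
        have e1 : u i * v' d = a1 i * v1 d := congrFun ha1 (i, d)
        rw [Pi.smul_apply, smul_eq_mul, mul_assoc, ← e1, inv_mul_cancel_left₀ hi]
      exact ⟨_, fun e0 => hv' (by rw [e, e0, zero_smul]), e⟩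
    obtain ⟨η, hη, hη1⟩ := exists_functional (show v' ∉ Submodule.span F {w} from fun e => by
      obtain ⟨s, hs⟩ := Submodule.mem_span_singleton.1 e
      have hs0 : s ≠ 0 := fun e0 => hv' (by rw [← hs, e0, zero_smul])
      exact hwn (Submodule.mem_span_singleton.2 ⟨s⁻¹, by rw [← hs, inv_smul_smul₀ hs0]⟩))
    let S0 : Submodule F V1 :=
      { carrier := {a' | ∃ a b, (g : Big) *ᵥ tens a' v = tens a v' + tens b w}
        zero_mem' := ⟨0, 0, by rw [tens_zero_left, mulVec_zero, tens_zero_left, tens_zero_left, add_zero]⟩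
        add_mem' := by
          rintro p q ⟨a, b, hp⟩ ⟨a2, b2, hq⟩
          refine ⟨a + a2, b + b2, ?_⟩
          rw [tens_add_left, mulVec_add, hp, hq, tens_add_left, tens_add_left]; abel
        smul_mem' := by
          rintro s p ⟨a, b, hp⟩
          refine ⟨s • a, s • b, ?_⟩
          rw [tens_smul_left, mulVec_smul, hp, smul_add, tens_smul_left, tens_smul_left] }
    let Φ : S0 →ₗ[F] V1 :=
      { toFun := fun a' => ctr η ((g : Big) *ᵥ tens (a' : V1) v)
        map_add' := fun p q => by rw [Submodule.coe_add, tens_add_left, mulVec_add, ctr_add]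
        map_smul' := fun s p => by
          rw [RingHom.id_apply, Submodule.coe_smul, tens_smul_left, mulVec_smul, ctr_smul] }
    have hsurj : Function.Surjective Φ := by
      intro a
      obtain ⟨a', b, hb⟩ := h1 (t • a)
      rw [tens_smul_left, ← tens_smul_right, ← hv1t] at hb
      have e : (g : Big) *ᵥ tens a' v = tens a v' + tens (-b) w := by
        rw [← neg_one_smul F b, tens_smul_left, neg_one_smul, hb]; abel
      refine ⟨⟨a', _, _, e⟩, ?_⟩
      show ctr η ((g : Big) *ᵥ tens a' v) = a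
      rw [e, ctr_add, ctr_tens, ctr_tens, hη1, hη w (Submodule.mem_span_singleton_self w), one_smul, zero_smul,
        add_zero]
    have htop : S0 = ⊤ := Submodule.eq_top_of_finrank_eq (by
      have h3 := LinearMap.finrank_le_finrank_of_surjective hsurj
      have h4 := Submodule.finrank_le S0
      omega)
    exact fun a' => (htop ▸ Submodule.mem_top : a' ∈ S0)
  have hv0' : v0 ∉ Submodule.span F {v'} ⊔ Submodule.span F {v0'} := fun e => by
    obtain ⟨x, hx, y, hy, hxy⟩ := Submodule.mem_sup.1 e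
    obtain ⟨s, rfl⟩ := Submodule.mem_span_singleton.1 hy
    rcases eq_or_ne s 0 with rfl | hs
    · rw [zero_smul, add_zero] at hxy; exact hv0n (hxy ▸ hx)
    · refine hv0n' ?_
      have : v0' = s⁻¹ • (v0 - x) := by rw [← hxy, add_sub_cancel_left, inv_smul_smul₀ hs]
      rw [this]
      exact Submodule.smul_mem _ _ (Submodule.sub_mem _
        (Submodule.mem_sup_right (Submodule.mem_span_singleton_self v0)) (Submodule.mem_sup_left hx))
  have hv0'n : v0' ∉ Submodule.span F {v'} := fun e => hv0n' (Submodule.mem_sup_left e)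
  obtain ⟨η3, hη3, hη31⟩ := exists_functional hv0'
  have hblock : ∀ a', ∃ a, (g : Big) *ᵥ tens a' v = tens a v' := by
    intro a'
    obtain ⟨a, b, h1⟩ := hpair v0 hv00 hv0v' hv0n a'
    obtain ⟨a2, b2, h2⟩ := hpair v0' hv00' hv0v'' hv0'n a'
    refine ⟨a, ?_⟩
    have e := congrArg (ctr η3) (h1.symm.trans h2)
    rw [ctr_add, ctr_add, ctr_tens, ctr_tens, ctr_tens, ctr_tens, hη31,
      hη3 v' (Submodule.mem_sup_left (Submodule.mem_span_singleton_self v')),
      hη3 v0' (Submodule.mem_sup_right (Submodule.mem_span_singleton_self v0')), one_smul, zero_smul, zero_smul,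
      zero_smul, zero_add, add_zero] at e
    rw [h1, e, tens_zero_left, add_zero]
  choose A hA using hblock
  have hAsurj : Function.Surjective A := by
    let L : V1 →ₗ[F] V1 :=
      { toFun := A
        map_add' := fun p q => tens_injective hv' (show tens (A (p + q)) v' = tens (A p + A q) v' by
          rw [← hA, tens_add_left, mulVec_add, hA, hA, tens_add_left])
        map_smul' := fun s p => tens_injective hv' (show tens (A (s • p)) v' = tens (s • A p) v' by
          rw [← hA, tens_smul_left, mulVec_smul, hA, tens_smul_left]) }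
    exact LinearMap.surjective_of_injective (f := L) fun p q e =>
      tens_injective hv (gl_mulVec_injective g (show (g : Big) *ᵥ tens p v = (g : Big) *ᵥ tens q v by
        rw [hA, hA]; exact congrArg (fun x => tens x v') e))
  obtain ⟨T0, hT0, hT0v⟩ := S.root_one hvv
  set T : G := g * T0 * g⁻¹ with hTdef
  have hTM : T ∈ M := M.mul_mem (M.mul_mem hg hT0) (M.inv_mem hg)
  have hTapp : ∀ z, (T : Big) *ᵥ z = z + (g : Big) *ᵥ tens (ctr (formVec f₂ v) (((g⁻¹ : G) : Big) *ᵥ z)) v := by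
    intro z
    rw [hTdef, gl_mul_mulVec, gl_mul_mulVec, hT0v, add_mulVec, one_mulVec, el_mulVec, one_mulVec, mulVec_add,
      gl_mulVec_inv]
  have hTk : T ∈ Cfsg.Geo.kroneckerSubgroup m k F := by
    refine hNR v' hv' hvv' T hTM (fun a => ?_) fun z _ => ⟨A _, by rw [hTapp, add_sub_cancel_left, hA]⟩
    obtain ⟨a', rfl⟩ := hAsurj a
    rw [← hA, hTapp, gl_inv_mulVec, S.ctr_form_tens, hvv, zero_smul, tens_zero_left, mulVec_zero, add_zero]
  refine mem_of_blk S hmk hNR hg hv hvv (blk_of_kron S hmk hTM hv hvv hTk ?_)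
  rw [hTdef, ← Units.val_mul, inv_mul_cancel_right, Units.val_mul, hT0v]

/-- An element of a moved block orthogonal to an isotropic block. -/
theorem mem_of_orth {g : G} (hg : g ∈ M) {v : V2} (hv : v ≠ 0) (hvv : f₂ v v = 0) {v0 : V2} (hv0 : v0 ≠ 0)
    (hv00 : f₂ v0 v0 = 0) {a' : V1} (ha' : a' ≠ 0)
    (h : ∀ i, f₂ v0 (slice ((g : Big) *ᵥ tens a' v) i) = 0) : g ∈ Cfsg.Geo.kroneckerSubgroup m k F := by
  obtain ⟨v1, hv1, hv11, -, h2⟩ := key S hmk hNR hg hv hvv hv0 hv00
  obtain ⟨a, ha⟩ := h2 a' (funext fun i => by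
    rw [ctr_eq_dot, S.h2.dot]; exact S.h2.eq_zero_comm (h i))
  refine mem_of_pure S hmk hNR hg hv hvv (fun e => ha' ?_) hv1 hv11 ha
  refine tens_injective hv (gl_mulVec_injective g
    (show (g : Big) *ᵥ tens a' v = (g : Big) *ᵥ tens 0 v from ?_))
  rw [ha, e, tens_zero_left, tens_zero_left, mulVec_zero]

theorem rigid_of_lt (hlt : m + 2 ≤ k) : M ≤ Cfsg.Geo.kroneckerSubgroup m k F := by
  intro g hg
  have := S.hm
  obtain ⟨v, hv, hvv, -⟩ := S.rich.orth 0 ![] (by omega)
  obtain ⟨v0, hv0, hv00, h⟩ :=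
    S.rich.orth m (fun i => slice ((g : Big) *ᵥ tens (Pi.single ⟨0, by omega⟩ 1) v) i) hlt
  exact mem_of_orth S hmk hNR hg hv hvv hv0 hv00 (by simp) h

end Cfsg.Agent.Lib.TensorFormMax.Rigid
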