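import Cfsg.Agent.Lib.TensorFormMax.SympSide
import Cfsg.Agent.Lib.TensorFormMax.Rigid
import Cfsg.Agent.Lib.Subspaces.OrthSingular
import Cfsg.Agent.Lib.Subspaces.SympGen

/-!
Two alternating factors inside an orthogonal group: the overgroup lies in the tensor product stabiliser or
contains every Siegel transformation.
-/

set_option autoImplicit false

namespace Cfsg.Agent.Lib.TensorFormMax.OrthFull

open Matrix Kronecker
open Cfsg.Agent.Lib.Subspaces.Transvection Cfsg.Agent.Lib.Subspaces.FormVec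
  Cfsg.Agent.Lib.Subspaces.OrthForm Cfsg.Agent.Lib.Subspaces.OrthLines Cfsg.Agent.Lib.Subspaces.OrthSingular
  Cfsg.Agent.Lib.TensorMax.Block Cfsg.Agent.Lib.TensorMax.Lemmas Cfsg.Agent.Lib.TensorFormMax.Basic
  Cfsg.Agent.Lib.TensorFormMax.Radical Cfsg.Agent.Lib.TensorFormMax.Algebra

variable {F : Type*} [Field F] {m k : ℕ}

local notation "V1" => Fin m → F
local notation "V2" => Fin k → F
local notation "Vec" => Fin m × Fin k → F
local notation "Big" => Matrix (Fin m × Fin k) (Fin m × Fin k) F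
local notation "A1" => Matrix (Fin m) (Fin m) F
local notation "A2" => Matrix (Fin k) (Fin k) F
local notation "G" => GL (Fin m × Fin k) F

theorem ext_tens {X Y : Big} (h : ∀ (a : V1) (w : V2), X *ᵥ tens a w = Y *ᵥ tens a w) : X = Y := by
  refine Matrix.mulVec_injective (funext fun z => ?_)
  conv_lhs => rw [← sum_tens_slice z]
  conv_rhs => rw [← sum_tens_slice z]
  rw [mulVec_sum, mulVec_sum]
  exact Finset.sum_congr rfl fun i _ => h _ _

/-- The projection onto a hyperbolic plane. -/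
def hproj {n : ℕ} (f : (Fin n → F) → (Fin n → F) → F) (a b : Fin n → F) : Matrix (Fin n) (Fin n) F :=
  vecMulVec a (formVec f b) - vecMulVec b (formVec f a)

theorem hproj_mulVec {n : ℕ} {f : (Fin n → F) → (Fin n → F) → F} (hf : Cfsg.Geo.IsSymplecticForm f)
    (a b x : Fin n → F) : hproj f a b *ᵥ x = f x b • a - f x a • b := by
  rw [hproj, sub_mulVec, vecMulVec_mulVec, vecMulVec_mulVec, op_smul_eq_smul, op_smul_eq_smul,
    formVec_dot (isLinearLeft_of_bilinear hf.bilinear), formVec_dot (isLinearLeft_of_bilinear hf.bilinear)]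

/-- Additive properties of hyperbolic projections pass to the identity. -/
theorem one_of_hproj [Finite F] {n : ℕ} {f : (Fin n → F) → (Fin n → F) → F}
    (hf : Cfsg.Geo.IsSymplecticForm f) (P : Matrix (Fin n) (Fin n) F → Prop) (h0 : P 0)
    (hadd : ∀ p q, P p → P q → P (p + q)) (hp : ∀ a b, f a b = 1 → P (hproj f a b)) : P 1 := by
  have key : ∀ π : Matrix (Fin n) (Fin n) F, π * π = π → (∀ x y, f (π *ᵥ x) y = f x (π *ᵥ y)) → P π := by
    intro π
    induction h : Module.finrank F (LinearMap.range π.mulVecLin) using Nat.strong_induction_on generalizing π with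
    | _ r ih =>
      subst h
      intro hidem hadj
      by_cases hz : π = 0
      · rw [hz]; exact h0
      obtain ⟨x, hx⟩ : ∃ x, π *ᵥ x ≠ 0 := by
        by_contra hc
        push Not at hc
        exact hz (Matrix.mulVec_injective (funext fun x => by rw [hc x, zero_mulVec]))
      set a := π *ᵥ x
      have hπa : π *ᵥ a = a := by rw [mulVec_mulVec, hidem]
      obtain ⟨-, y, hy⟩ := hf.nondegenerate a hx
      set b := π *ᵥ ((f a y)⁻¹ • y)
      have hπb : π *ᵥ b = b := by rw [mulVec_mulVec, hidem]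
      have hab : f a b = 1 := by
        rw [← hadj, hπa, hf.bilinear.smul_right, inv_mul_cancel₀ hy]
      have hba : f b a = -1 := by rw [hf.skew, hab]
      set p := hproj f a b
      have hπp : π * p = p := Matrix.mulVec_injective (funext fun z => by
        rw [← mulVec_mulVec, hproj_mulVec hf, mulVec_sub, mulVec_smul, mulVec_smul, hπa, hπb])
      have hpπ : p * π = p := Matrix.mulVec_injective (funext fun z => by
        rw [← mulVec_mulVec, hproj_mulVec hf, hproj_mulVec hf, hadj, hadj, hπa, hπb])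
      have hpp : p * p = p := Matrix.mulVec_injective (funext fun z => by
        rw [← mulVec_mulVec, hproj_mulVec hf, hproj_mulVec hf]
        simp only [hf.bilinear.add_left, sub_eq_add_neg, ← neg_smul, hf.bilinear.smul_left, hf.alternating, hab, hba]
        module)
      have hpa : p *ᵥ a = a := by rw [hproj_mulVec hf, hab, hf.alternating, one_smul, zero_smul, sub_zero]
      have hidem' : (π - p) * (π - p) = π - p := by
        rw [sub_mul, mul_sub, mul_sub, hidem, hπp, hpπ, hpp]; abel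
      have hadj' : ∀ x y, f ((π - p) *ᵥ x) y = f x ((π - p) *ᵥ y) := fun u w => by
        have hl := isLinearLeft_of_bilinear hf.bilinear
        rw [sub_mulVec, sub_mulVec, form_sub_left hl, hproj_mulVec hf, hproj_mulVec hf, hadj, form_sub_left hl,
          (SympSide.sform hf).sub_right, (SympSide.sform hf).sub_right]
        simp only [hf.bilinear.smul_left, hf.bilinear.smul_right]
        rw [hf.skew a w, hf.skew b w]
        ring
      have hlt : Module.finrank F (LinearMap.range (π - p).mulVecLin) <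
          Module.finrank F (LinearMap.range π.mulVecLin) := by
        refine Submodule.finrank_lt_finrank_of_lt (lt_of_le_of_ne ?_ fun e => ?_)
        · rintro _ ⟨z, rfl⟩
          refine ⟨(π - p) *ᵥ z, ?_⟩
          show π *ᵥ ((π - p) *ᵥ z) = (π - p) *ᵥ z
          rw [mulVec_mulVec, mul_sub, hidem, hπp]
        · obtain ⟨z, hz⟩ : a ∈ LinearMap.range (π - p).mulVecLin := e ▸ ⟨x, rfl⟩
          have h1 : (π - p) *ᵥ a = a := by
            rw [← show (π - p) *ᵥ z = a from hz, mulVec_mulVec, hidem']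
          rw [sub_mulVec, hπa, hpa, sub_self] at h1
          exact hx h1.symm
      have := hadd _ _ (ih _ hlt _ rfl hidem' hadj') (hp a b hab)
      rwa [sub_add_cancel] at this
  exact key 1 (one_mul 1) fun x y => by rw [one_mulVec, one_mulVec]

/-- A quadratic form on a tensor product of two alternating spaces vanishing on the pure tensors. -/
structure Frame (Q : (Fin m × Fin k → F) → F) (f₁ : (Fin m → F) → (Fin m → F) → F)
    (f₂ : (Fin k → F) → (Fin k → F) → F) : Prop where
  hQ : Cfsg.Geo.IsNondegenerateQuadraticForm Q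
  h1 : Cfsg.Geo.IsSymplecticForm f₁
  h2 : Cfsg.Geo.IsSymplecticForm f₂
  hB : ∀ z u w, QuadraticMap.polar Q z (tens u w) = f₁ (ctr (formVec f₂ w) z) u
  pure : ∀ u w, Q (tens u w) = 0

/-- A group of isometries with the transvections of the second factor. -/
structure Core (Q : (Fin m × Fin k → F) → F) (f₁ : (Fin m → F) → (Fin m → F) → F)
    (f₂ : (Fin k → F) → (Fin k → F) → F) (M : Subgroup (GL (Fin m × Fin k) F)) : Prop
    extends Frame Q f₁ f₂ where
  isoM : ∀ g ∈ M, ∀ x, Q ((g : Matrix (Fin m × Fin k) (Fin m × Fin k) F) *ᵥ x) = Q x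
  root : ∀ (v : Fin k → F) (c : F),
    InM M (el (c • (1 : Matrix (Fin m) (Fin m) F)) v (formVec f₂ v))
  hm : 2 ≤ m
  hk : 4 ≤ k

/-- The data: an overgroup, a reference group with the Siegel transformations, and their common stabiliser. -/
structure Data (Q : (Fin m × Fin k → F) → F) (f₁ : (Fin m → F) → (Fin m → F) → F)
    (f₂ : (Fin k → F) → (Fin k → F) → F) (M N : Subgroup (GL (Fin m × Fin k) F)) : Prop
    extends Frame Q f₁ f₂ where
  isoM : ∀ g ∈ M, ∀ x, Q ((g : Matrix (Fin m × Fin k) (Fin m × Fin k) F) *ᵥ x) = Q x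
  hsieg : ∀ u w, Q u = 0 → QuadraticMap.polar Q w u = 0 → sieg Q u w ∈ N
  stab : ∀ g ∈ N, g ∈ Cfsg.Geo.kroneckerSubgroup m k F → g ∈ M
  hm : 2 ≤ m
  hk : 6 ≤ k
  hmk : m + 2 ≤ k

namespace Frame

variable [Finite F] {Q : (Fin m × Fin k → F) → F} {f₁ : (Fin m → F) → (Fin m → F) → F}
  {f₂ : (Fin k → F) → (Fin k → F) → F} {N : Subgroup (GL (Fin m × Fin k) F)} (D : Frame Q f₁ f₂)
include D

local notation "B" => QuadraticMap.polar Q

theorem B_tens (u u' : V1) (w w' : V2) : B (tens u w) (tens u' w') = f₂ w w' * f₁ u u' := by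
  rw [D.hB, ctr_tens, formVec_dot (isLinearLeft_of_bilinear D.h2.bilinear), D.h1.bilinear.smul_left]

theorem ctr_tens' (u : V1) (w x : V2) : ctr (formVec f₂ x) (tens u w) = f₂ w x • u := by
  rw [ctr_tens, formVec_dot (isLinearLeft_of_bilinear D.h2.bilinear)]

/-- A Siegel transformation at two pure tensors. -/
theorem siegPure {a b : V1} {v s : V2} (h : f₂ s v * f₁ b a = 0) (z : Vec) :
    (Cfsg.Agent.Lib.Subspaces.OrthForm.sieg Q (tens a v) (tens b s) : Big) *ᵥ z =
      z + (f₁ (ctr (formVec f₂ v) z) a) • tens b s - (f₁ (ctr (formVec f₂ s) z) b) • tens a v := by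
  rw [sieg_mulVec D.hQ (D.pure a v) (by rw [D.B_tens]; exact h), D.pure, D.hB, D.hB, zero_mul, sub_zero, neg_smul,
    ← sub_eq_add_neg]

variable (hsieg : ∀ u w, Q u = 0 → QuadraticMap.polar Q w u = 0 →
  Cfsg.Agent.Lib.Subspaces.OrthForm.sieg Q u w ∈ N)
include hsieg

theorem root_mem {v : V2} (c : F) (hv : f₂ v v = 0) : InM N (el (c • (1 : A1)) v (formVec f₂ v)) := by
  have key : InM N (el (c • (1 : A1)) v (formVec f₂ v)) := by
    refine one_of_hproj D.h1 (fun p => InM N (el (c • p) v (formVec f₂ v))) ?_ ?_ ?_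
    · rw [smul_zero, el_zero_left]; exact InM.zero
    · intro p q hp hq
      rw [smul_add, el_add]
      exact hp.add hq (by rw [el_mul, formVec_dot (isLinearLeft_of_bilinear D.h2.bilinear), hv, zero_smul])
    · intro a b _
      refine ⟨Cfsg.Agent.Lib.Subspaces.OrthForm.sieg Q (tens a v) (tens ((-c) • b) v), hsieg _ _ (D.pure a v) ?_, ext_tens fun p w => ?_⟩
      · rw [D.B_tens, hv, zero_mul]
      · rw [D.siegPure (by rw [hv, zero_mul]), add_mulVec, one_mulVec, el_mulVec, smul_mulVec, D.ctr_tens',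
          hproj_mulVec D.h1]
        simp only [D.h1.bilinear.smul_left, D.h1.bilinear.smul_right, tens_smul_left, tens_sub_left, mulVec_smul]
        module
  exact key

theorem left_mem (g g' : A1) (hgg : g * g' = 1) (hiso : ∀ x y, f₁ (g *ᵥ x) (g *ᵥ y) = f₁ x y) :
    ∃ h ∈ N, (h : Big) = g ⊗ₖ (1 : A2) := by
  let K : Subgroup (GL (Fin m) F) :=
    { carrier := {a | kronGL a (1 : GL (Fin k) F) ∈ N}
      one_mem' := by
        show kronGL 1 1 ∈ N
        have e : kronGL (1 : GL (Fin m) F) (1 : GL (Fin k) F) = 1 := Units.ext (by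
          show (1 : A1) ⊗ₖ (1 : A2) = 1; rw [one_kronecker_one])
        rw [e]; exact N.one_mem
      mul_mem' := fun {p q} hp hq => by
        show kronGL (p * q) 1 ∈ N
        have e : kronGL (p * q) (1 : GL (Fin k) F) = kronGL p 1 * kronGL q 1 := Units.ext (by
          show ((p * q : GL (Fin m) F) : A1) ⊗ₖ (1 : A2) = ((p : A1) ⊗ₖ (1 : A2)) * ((q : A1) ⊗ₖ (1 : A2))
          rw [← Matrix.mul_kronecker_mul, Units.val_mul, one_mul])
        rw [e]; exact N.mul_mem hp hq
      inv_mem' := fun {p} hp => by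
        show kronGL p⁻¹ 1 ∈ N
        have e : kronGL p⁻¹ (1 : GL (Fin k) F) = (kronGL p 1)⁻¹ := Units.ext (by
          show ((p⁻¹ : GL (Fin m) F) : A1) ⊗ₖ (1 : A2) = ((p⁻¹ : GL (Fin m) F) : A1) ⊗ₖ
            (((1 : GL (Fin k) F)⁻¹ : GL (Fin k) F) : A2)
          rw [inv_one, Units.val_one])
        rw [e]; exact N.inv_mem hp }
  have hK : ∀ (v : V1) (c : F), tv v (c • formVec f₁ v) ∈ K := by
    intro a c
    set X : A1 := c • vecMulVec a (formVec f₁ a)
    have hXX : X * X = 0 := by
      rw [Matrix.smul_mul, Matrix.mul_smul, vecMulVec_mul_vecMulVec,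
        formVec_dot (isLinearLeft_of_bilinear D.h1.bilinear), D.h1.alternating, zero_smul, vecMulVec_zero, smul_zero,
        smul_zero]
    have key : ∃ g ∈ N, (g : Big) = 1 + X ⊗ₖ (1 : A2) := by
      refine one_of_hproj D.h2 (fun p => InM N (X ⊗ₖ p)) ?_ ?_ ?_
      · rw [kronecker_zero]; exact InM.zero
      · intro p q hp hq
        rw [kronecker_add]
        exact hp.add hq (by rw [← Matrix.mul_kronecker_mul, hXX, zero_kronecker])
      · intro v y _
        refine ⟨Cfsg.Agent.Lib.Subspaces.OrthForm.sieg Q (tens a v) (tens ((-c) • a) y), hsieg _ _ (D.pure a v) ?_, ext_tens fun p w => ?_⟩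
        · rw [D.B_tens, D.h1.bilinear.smul_left, D.h1.alternating, mul_zero, mul_zero]
        · rw [D.siegPure (by rw [D.h1.bilinear.smul_left, D.h1.alternating, mul_zero, mul_zero]), add_mulVec,
            one_mulVec, kron_mulVec_tens, hproj_mulVec D.h2, smul_mulVec, vecMulVec_mulVec, op_smul_eq_smul,
            formVec_dot (isLinearLeft_of_bilinear D.h1.bilinear), D.ctr_tens', D.ctr_tens',
            sub_eq_add_neg (f₂ w y • v), ← neg_smul]
          simp only [D.h1.bilinear.smul_left, D.h1.bilinear.smul_right, tens_smul_left, tens_add_right,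
            tens_smul_right]
          module
    obtain ⟨g, hg, hval⟩ := key
    have h0 : (c • formVec f₁ a) ⬝ᵥ a = 0 := by
      rw [smul_dotProduct, formVec_dot (isLinearLeft_of_bilinear D.h1.bilinear), D.h1.alternating, smul_zero]
    have e : g = kronGL (tv a (c • formVec f₁ a)) 1 := Units.ext (by
      show (g : Big) = (tv a (c • formVec f₁ a) : A1) ⊗ₖ (1 : A2)
      rw [hval, coe_tv h0, vecMulVec_smul, add_kronecker, one_kronecker_one])
    show kronGL _ 1 ∈ N
    rw [← e]
    exact hg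
  let a : GL (Fin m) F := ⟨g, g', hgg, mul_eq_one_comm.1 hgg⟩
  exact ⟨kronGL a 1, Cfsg.Agent.Lib.Subspaces.SympGen.mem_of_isometry D.h1 (M := K) hK (g := a) hiso, rfl⟩

end Frame

namespace Data

variable [Finite F] {Q : (Fin m × Fin k → F) → F} {f₁ : (Fin m → F) → (Fin m → F) → F}
  {f₂ : (Fin k → F) → (Fin k → F) → F} {M N : Subgroup (GL (Fin m × Fin k) F)} (D : Data Q f₁ f₂ M N)
include D

theorem left_mem (g g' : A1) (hgg : g * g' = 1) (hiso : ∀ x y, f₁ (g *ᵥ x) (g *ᵥ y) = f₁ x y) :
    ∃ h ∈ M, (h : Big) = g ⊗ₖ (1 : A2) := by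
  obtain ⟨h, hh, hval⟩ := D.toFrame.left_mem D.hsieg g g' hgg hiso
  refine ⟨h, D.stab h hh ⟨⟨g, g', hgg, mul_eq_one_comm.1 hgg⟩, 1, ?_⟩, hval⟩
  rw [hval, Units.val_one]

theorem root_mem {v : V2} (c : F) (hv : f₂ v v = 0) : InM M (el (c • (1 : A1)) v (formVec f₂ v)) := by
  obtain ⟨g, hg, hval⟩ := D.toFrame.root_mem D.hsieg c hv
  refine ⟨g, D.stab g hg ?_, hval⟩
  have h : formVec f₂ v ⬝ᵥ (c • v) = 0 := by
    rw [dotProduct_smul, formVec_dot (isLinearLeft_of_bilinear D.h2.bilinear), hv, smul_zero]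
  refine ⟨1, tv (c • v) (formVec f₂ v), ?_⟩
  rw [hval, coe_tv h, Units.val_one, kronecker_add, one_kronecker_one, el, smul_kronecker, ← kronecker_smul,
    ← smul_vecMulVec]

theorem core : Core Q f₁ f₂ M where
  toFrame := D.toFrame
  isoM := D.isoM
  root v c := D.root_mem c (D.h2.alternating v)
  hm := D.hm
  hk := by have := D.hk; omega

end Data

namespace Core

variable [Finite F] {Q : (Fin m × Fin k → F) → F} {f₁ : (Fin m → F) → (Fin m → F) → F}
  {f₂ : (Fin k → F) → (Fin k → F) → F} {M : Subgroup (GL (Fin m × Fin k) F)} (D : Core Q f₁ f₂ M)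
include D

local notation "B" => QuadraticMap.polar Q

theorem setting {M' : Subgroup G} (hle : M ≤ M') (hiso : ∀ g ∈ M', ∀ x, Q ((g : Big) *ᵥ x) = Q x) :
    Setting (RingHom.id F) (-1) f₁ f₂ B M' where
  h1 := SympSide.sform D.h1
  h2 := SympSide.sform D.h2
  rich := SympSide.rich D.h2
  lin := bil D.hQ
  addR := D.hQ.polar_bilinear.add_right
  Bswap x y := by rw [RingHom.id_apply, neg_neg, one_mul, B_comm]
  hB := D.hB
  iso g hg := B_map (hiso g hg)
  root v c _ _ := by
    obtain ⟨g, hg, h⟩ := D.root v c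
    exact ⟨g, hle hg, h⟩
  hm := D.hm
  hk := D.hk

theorem allHas_all (hk6 : 6 ≤ k)
    (hleft : ∀ g g' : A1, g * g' = 1 → (∀ x y, f₁ (g *ᵥ x) (g *ᵥ y) = f₁ x y) →
      ∃ h ∈ M, (h : Big) = g ⊗ₖ (1 : A2))
    (hG : ¬ NoRadical f₂ M) (hex : 3 ≤ m ∨ ∃ c : F, c ≠ 0 ∧ c ≠ 1) (A : A1) :
    AllHas f₂ M A := by
  have S := D.setting le_rfl D.isoM
  have hD := (SympSide.duals D.h2).slides S
  have hmul : ∀ {A C : A1}, AllHas f₂ M A → AllHas f₂ M C → AllHas f₂ M (A * C) := fun hA hC =>
    allHas_mul_of_pairs S hD (SympSide.pairs D.h2 hk6) hA hC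
  set R := coeff S hD hmul
  have hinv := coeff_invariant S hD hmul fun g g' h _ hi => hleft g g' h hi
  obtain ⟨A0, hA0, hA0'⟩ := exists_nonscalar S hD hG
  have hm := D.hm
  have ha0 : ∃ a : V1, a ≠ 0 ∧ f₁ a a = 0 :=
    ⟨Pi.single ⟨0, by omega⟩ 1, by simp, D.h1.alternating _⟩
  have htop : R = ⊤ := by
    refine InvariantAlgebra.eq_top (SympSide.sform D.h1) hinv hm (fun a ha _ => SympSide.span_nonorth D.h1 ha) ha0
      ⟨1, one_ne_zero, by simp⟩ ?_ (SympSide.no_line D.h1 hm hex R hinv ⟨A0, hA0', hA0⟩)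
    rcases hex with h | ⟨c, hc, hc1⟩
    · exact Or.inl h
    · exact Or.inr ⟨1, c, one_ne_zero, hc, hc1.symm, by simp, by simp⟩
  exact (htop ▸ Algebra.mem_top : A ∈ R)

end Core

end Cfsg.Agent.Lib.TensorFormMax.OrthFull
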