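import Cfsg.Agent.Lib.TensorFormMax.OrthPure
import Cfsg.Agent.Lib.Forms.TensorFrame
import Cfsg.Agent.Lib.TensorMax.Main
import Cfsg.Agent.Lib.Symplectic.Order

/-!
The stabiliser of a tensor product of two alternating forms is maximal in the orthogonal group.
-/

set_option autoImplicit false

namespace Cfsg.Agent.Lib.TensorFormMax.OrthMain

open Matrix Kronecker
open Cfsg.Agent.Lib.Subspaces.Transvection Cfsg.Agent.Lib.Subspaces.FormVec
  Cfsg.Agent.Lib.Subspaces.OrthForm Cfsg.Agent.Lib.Subspaces.OmegaGL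
  Cfsg.Agent.Lib.TensorMax.Block Cfsg.Agent.Lib.TensorMax.Lemmas Cfsg.Agent.Lib.TensorFormMax.Basic
  Cfsg.Agent.Lib.Forms.TensorFrame

theorem maximal {F : Type*} [Field F] [Fintype F] {n : ℕ} (hn : 13 ≤ n) (Q : (Fin n → F) → F)
    (hQ : Cfsg.Geo.IsNondegenerateQuadraticForm Q) (n₁ n₂ : ℕ) (h12 : n₁ < n₂)
    (hex : ¬ (Fintype.card F = 2 ∧ n₁ = 2)) (e : Fin n ≃ Fin n₁ × Fin n₂) (P : GL (Fin n) F)
    (f₁ : (Fin n₁ → F) → (Fin n₁ → F) → F) (f₂ : (Fin n₂ → F) → (Fin n₂ → F) → F)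
    (hf₁ : Cfsg.Geo.IsSymplecticForm f₁) (hf₂ : Cfsg.Geo.IsSymplecticForm f₂)
    (hT : Cfsg.Geo.IsTensorFormStructure id (QuadraticMap.polar Q) f₁ f₂ e P)
    (hpure : ∀ (x₁ : Fin n₁ → F) (x₂ : Fin n₂ → F),
      Q (Matrix.mulVec (P : Matrix (Fin n) (Fin n) F) ((fun a : Fin n₁ × Fin n₂ => x₁ a.1 * x₂ a.2) ∘ e)) = 0) :
    Cfsg.Geo.IsMaximalIn (Cfsg.Geo.omegaGL Q)
      (Cfsg.Geo.tensorProductSubgroup n₁ n₂ e P ⊓ Cfsg.Geo.omegaGL Q) := by
  classical
  obtain ⟨c, hc, hBp⟩ := form_pure (f := QuadraticMap.polar Q) (σ := id) (fun _ _ => rfl)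
    (eq_formOfGram (isLinearLeft_of_bilinear hf₁.bilinear) hf₁.bilinear.add_right hf₁.bilinear.smul_right)
    (eq_formOfGram (isLinearLeft_of_bilinear hf₂.bilinear) hf₂.bilinear.add_right hf₂.bilinear.smul_right) hT
  set φ : GL (Fin n₁ × Fin n₂) F ≃* GL (Fin n) F :=
    (Cfsg.Geo.glReindex (F := F) e.symm).trans (MulAut.conj P) with hφ
  -- coordinates
  let T : (Fin n₁ × Fin n₂ → F) →ₗ[F] (Fin n → F) :=
    (Matrix.mulVecLin (P : Matrix (Fin n) (Fin n) F)).comp (LinearMap.funLeft F F e)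
  have hTapp : ∀ z, T z = (P : Matrix (Fin n) (Fin n) F) *ᵥ (z ∘ e) := fun z => rfl
  have hTinj : Function.Injective T := fun a b h => by
    have := gl_mulVec_injective P (show (P : Matrix (Fin n) (Fin n) F) *ᵥ (a ∘ e) = _ *ᵥ (b ∘ e) from h)
    funext p
    simpa using congrFun this (e.symm p)
  have hTsurj : Function.Surjective T := fun x =>
    ⟨(((P⁻¹ : GL (Fin n) F) : Matrix (Fin n) (Fin n) F) *ᵥ x) ∘ e.symm, by
      rw [hTapp]
      conv_rhs => rw [← gl_mulVec_inv P x]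
      congr 1
      funext i; simp⟩
  have hφT : ∀ g z, (φ g : Matrix (Fin n) (Fin n) F) *ᵥ T z =
      T ((g : Matrix (Fin n₁ × Fin n₂) (Fin n₁ × Fin n₂) F) *ᵥ z) := by
    intro g z
    rw [hTapp, hTapp]
    show ((P * Cfsg.Geo.glReindex e.symm g * P⁻¹ : GL (Fin n) F) : Matrix (Fin n) (Fin n) F) *ᵥ _ = _
    rw [gl_mul_mulVec, gl_mul_mulVec, gl_inv_mulVec]
    congr 1
    show (Matrix.reindexAlgEquiv F F e.symm) (g : Matrix (Fin n₁ × Fin n₂) (Fin n₁ × Fin n₂) F) *ᵥ _ = _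
    rw [Matrix.reindexAlgEquiv_apply, Matrix.reindex_apply, Equiv.symm_symm, Matrix.submatrix_mulVec_equiv]
    congr 1
    congr 1
    funext p; simp
  set Q' : (Fin n₁ × Fin n₂ → F) → F := fun z => c⁻¹ * Q (T z) with hQ'
  have hB' : ∀ x y, QuadraticMap.polar Q' x y = c⁻¹ * QuadraticMap.polar Q (T x) (T y) := fun x y => by
    simp only [QuadraticMap.polar, hQ', map_add]; ring
  have hb := hQ.polar_bilinear
  have hc' : c⁻¹ ≠ 0 := inv_ne_zero hc
  have hQn : Cfsg.Geo.IsNondegenerateQuadraticForm Q' := by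
    refine ⟨fun a z => ?_, ⟨fun x y v => ?_, fun a x v => ?_, fun v x y => ?_, fun a v x => ?_⟩, fun v hv => ?_⟩
    · rw [hQ']; dsimp only; rw [map_smul, hQ.smul]; ring
    · rw [hB', hB', hB', map_add, hb.add_left]; ring
    · rw [hB', hB', map_smul, hb.smul_left]; ring
    · rw [hB', hB', hB', map_add, hb.add_right]; ring
    · rw [hB', hB', map_smul, hb.smul_right]; ring
    · obtain ⟨⟨x, hx⟩, ⟨y, hy⟩⟩ := hQ.nondegenerate (T v) (fun h0 => hv (hTinj (by rw [h0, map_zero])))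
      obtain ⟨x, rfl⟩ := hTsurj x
      obtain ⟨y, rfl⟩ := hTsurj y
      exact ⟨⟨x, by rw [hB']; exact mul_ne_zero hc' hx⟩, ⟨y, by rw [hB']; exact mul_ne_zero hc' hy⟩⟩
  have hB0 : ∀ u w u' w', QuadraticMap.polar Q' (tens u w) (tens u' w') = f₁ u u' * f₂ w w' := by
    intro u w u' w'
    rw [hB']
    show c⁻¹ * QuadraticMap.polar Q (pure e P u w) (pure e P u' w') = _
    rw [hBp, inv_mul_cancel_left₀ hc]
  have hl1 := isLinearLeft_of_bilinear hf₁.bilinear
  have hl2 := isLinearLeft_of_bilinear hf₂.bilinear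
  have hBz : ∀ z u w, QuadraticMap.polar Q' z (tens u w) = f₁ (ctr (formVec f₂ w) z) u := by
    intro z u w
    let L : (Fin n₁ × Fin n₂ → F) →+ F := AddMonoidHom.mk' (fun x => QuadraticMap.polar Q' x (tens u w))
      fun x y => hQn.polar_bilinear.add_left x y _
    let R : (Fin n₁ → F) →+ F := AddMonoidHom.mk' (fun x => f₁ x u) fun x y => hf₁.bilinear.add_left x y u
    have hctr : ctr (formVec f₂ w) z = ∑ i, f₂ (slice z i) w • (Pi.single i 1 : Fin n₁ → F) := by
      funext i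
      simp [ctr_eq_dot, formVec_dot hl2, Pi.single_apply, Finset.sum_apply]
    conv_lhs => rw [← sum_tens_slice z]
    show L _ = R _
    rw [hctr, map_sum, map_sum]
    refine Finset.sum_congr rfl fun i _ => ?_
    show QuadraticMap.polar Q' _ _ = f₁ _ u
    rw [hB0, hf₁.bilinear.smul_left, mul_comm]
  have hn5 : 5 ≤ Fintype.card (Fin n) := by rw [Fintype.card_fin]; omega
  have hn1 : 2 ≤ n₁ := by
    have hcard : n = n₁ * n₂ := by simpa using Fintype.card_congr e
    by_contra hlt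
    rcases (show n₁ = 0 ∨ n₁ = 1 by omega) with rfl | rfl
    · omega
    · obtain ⟨⟨x, hx⟩, -⟩ := hf₁.nondegenerate (Pi.single 0 1) (by simp)
      refine hx ?_
      rw [show x = x 0 • (Pi.single 0 1 : Fin 1 → F) from funext fun i => by fin_cases i; simp,
        hf₁.bilinear.smul_left, hf₁.alternating, mul_zero]
  obtain ⟨d1, hd1⟩ : Even n₁ := by
    simpa using Cfsg.Agent.Lib.Symplectic.even_finrank (Cfsg.Agent.Lib.Subspaces.SympGen.toBilin_isSymp hf₁)
  obtain ⟨d2, hd2⟩ : Even n₂ := by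
    simpa using Cfsg.Agent.Lib.Symplectic.even_finrank (Cfsg.Agent.Lib.Subspaces.SympGen.toBilin_isSymp hf₂)
  have hcard : n = n₁ * n₂ := by simpa using Fintype.card_congr e
  have hk : 6 ≤ n₂ := by
    by_contra hlt
    have h4 : n₂ ≤ 4 := by omega
    have h2 : n₁ ≤ 2 := by omega
    have := Nat.mul_le_mul h2 h4
    omega
  set N : Subgroup (GL (Fin n₁ × Fin n₂) F) := (Cfsg.Geo.omegaGL Q).comap φ.toMonoidHom with hN
  have hTsieg : ∀ u w, Q' u = 0 → QuadraticMap.polar Q' w u = 0 →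
      φ (Cfsg.Agent.Lib.Subspaces.OrthForm.sieg Q' u w) =
        Cfsg.Agent.Lib.Subspaces.OrthForm.sieg Q (T u) (T (c⁻¹ • w)) := by
    intro u w hu hw
    have hu' : Q (T u) = 0 := (mul_eq_zero.1 hu).resolve_left hc'
    have hw' : QuadraticMap.polar Q (T (c⁻¹ • w)) (T u) = 0 := by
      rw [map_smul, hb.smul_left, ← hB', hw]
    refine gl_ext fun x => ?_
    obtain ⟨x, rfl⟩ := hTsurj x
    rw [hφT, sieg_mulVec hQn hu hw, sieg_mulVec hQ hu' hw', map_add, map_add, map_smul T, map_smul T,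
      map_smul T, hB', hB', hb.smul_right, hQ.smul]
    simp only [hQ']
    module
  have hmem : ∀ x, φ x ∈ Cfsg.Geo.tensorProductSubgroup n₁ n₂ e P ↔
      x ∈ Cfsg.Geo.kroneckerSubgroup n₁ n₂ F := by
    intro x
    constructor
    · rintro ⟨y, ⟨z, hz, rfl⟩, hy⟩
      have : φ z = φ x := hy
      rwa [← φ.injective this]
    · exact fun hx => ⟨_, ⟨x, hx, rfl⟩, rfl⟩
  have hsN : ∀ u w, Q' u = 0 → QuadraticMap.polar Q' w u = 0 →
      Cfsg.Agent.Lib.Subspaces.OrthForm.sieg Q' u w ∈ N := by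
    intro u w hu hw
    show φ _ ∈ Cfsg.Geo.omegaGL Q
    rw [hTsieg u w hu hw]
    exact sieg_mem_omega hQ hn5 ((mul_eq_zero.1 hu).resolve_left hc') (by rw [map_smul, hb.smul_left, ← hB', hw])
  have hQ'pure : ∀ u w, Q' (tens u w) = 0 := fun u w => by
    show c⁻¹ * Q _ = 0
    rw [show T (tens u w) = _ from hTapp _]
    show c⁻¹ * Q _ = 0
    rw [show ((P : Matrix (Fin n) (Fin n) F) *ᵥ (tens u w ∘ e)) = (P : Matrix (Fin n) (Fin n) F) *ᵥ
      ((fun a : Fin n₁ × Fin n₂ => u a.1 * w a.2) ∘ e) from rfl, hpure, mul_zero]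
  refine ⟨lt_of_le_of_ne inf_le_right fun heq => ?_, fun M hM hMle => ?_⟩
  · -- a Siegel transformation moving a pure tensor off the pure tensors
    let i0 : Fin n₁ := ⟨0, by omega⟩
    let j0 : Fin n₂ := ⟨0, by omega⟩
    set a : Fin n₁ → F := Pi.single i0 1 with ha
    set v : Fin n₂ → F := Pi.single j0 1 with hv
    have han : a ≠ 0 := by simp [ha]
    have hvn : v ≠ 0 := by simp [hv]
    obtain ⟨b0, hb0⟩ := (SympSide.sform hf₁).exists_one han
    obtain ⟨y, hy⟩ := (SympSide.sform hf₂).exists_one hvn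
    obtain ⟨s, hs, hsv⟩ := exists_common_zero_not_mem (Submodule.span F {v}) ![formVec f₂ v]
      (by rw [finrank_span_singleton hvn, Fintype.card_fin]; omega)
    have hsv0 : f₂ s v = 0 := by rw [← formVec_dot hl2]; exact hsv 0
    obtain ⟨z, hzs, hzs'⟩ := SympSide.dual hf₂ hs
    -- the tensor being moved
    have hB1 : QuadraticMap.polar Q' (tens b0 s) (tens a v) = 0 := by rw [hB0, hsv0, mul_zero]
    set g := Cfsg.Agent.Lib.Subspaces.OrthForm.sieg Q' (tens a v) (tens b0 s)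
    have hgk : g ∈ Cfsg.Geo.kroneckerSubgroup n₁ n₂ F := by
      have h1 : φ g ∈ Cfsg.Geo.omegaGL Q := hsN _ _ (hQ'pure a v) hB1
      rw [← heq] at h1
      exact (hmem g).1 h1.1
    obtain ⟨x, y', hxy⟩ := hgk
    -- image of `a ⊗ y` would be pure, but it is `a ⊗ (y + 0)` plus a second pure tensor
    have himg : ∀ (p : Fin n₁ → F) (q : Fin n₂ → F),
        (g : Matrix (Fin n₁ × Fin n₂) (Fin n₁ × Fin n₂) F) *ᵥ tens p q =
          tens p q + (f₂ q v * f₁ p a) • tens b0 s - (f₂ q s * f₁ p b0) • tens a v := fun p q => by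
      rw [sieg_mulVec hQn (hQ'pure a v) hB1, hQ'pure, hB0, hB0, zero_mul, sub_zero]
      module
    obtain ⟨η, hη, hηv⟩ := exists_functional hs
    -- `p ⊗ q` with `q = y`
    have h1 := himg b0 y
    rw [hxy, kron_mulVec_tens, hy, hb0, one_mul, one_smul, hf₁.alternating, mul_zero, zero_smul, sub_zero,
      ← tens_add_right] at h1
    have h2 := himg a y
    rw [hxy, kron_mulVec_tens, hf₁.alternating, mul_zero, zero_smul, add_zero] at h2
    have hfab : f₁ a b0 = -1 := by rw [hf₁.skew, hb0]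
    rw [hfab, mul_neg, mul_one, neg_smul, sub_neg_eq_add, ← tens_smul_right, ← tens_add_right] at h2
    -- both images share the second factor
    set q' := (y' : Matrix (Fin n₂) (Fin n₂) F) *ᵥ y
    obtain ⟨i1, hi1⟩ : ∃ i, b0 i ≠ 0 := Function.ne_iff.1 (fun e0 => by
      rw [show b0 = 0 from e0, form_zero_left hl1] at hb0; exact zero_ne_one hb0)
    have he1 : ∀ j, ((x : Matrix (Fin n₁) (Fin n₁) F) *ᵥ b0) i1 * q' j = b0 i1 * (y + s) j :=
      fun j => congrFun h1 (i1, j)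
    have he2 : ∀ j, ((x : Matrix (Fin n₁) (Fin n₁) F) *ᵥ a) i0 * q' j = a i0 * (y + f₂ y s • v) j :=
      fun j => congrFun h2 (i0, j)
    set α := ((x : Matrix (Fin n₁) (Fin n₁) F) *ᵥ b0) i1
    set β := ((x : Matrix (Fin n₁) (Fin n₁) F) *ᵥ a) i0
    have hai : a i0 = 1 := by simp [ha]
    have hcomb : (β * b0 i1) • (y + s) = α • (y + f₂ y s • v) := funext fun j => by
      have e1 := he1 j
      have e2 := he2 j
      rw [hai, one_mul] at e2
      simp only [Pi.smul_apply, smul_eq_mul] at *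
      linear_combination (-β) * e1 + α * e2
    have hyv : f₂ y v = 1 := hy
    have e3 := congrArg (fun t => f₂ t v) hcomb
    simp only [hf₂.bilinear.smul_left, hf₂.bilinear.add_left, hsv0, hf₂.alternating, hyv, mul_zero, add_zero,
      mul_one] at e3
    rw [e3] at hcomb
    have hα : α ≠ 0 := fun e0 => by
      have h0 : ∀ j, b0 i1 * (y + s) j = 0 := fun j => by rw [← he1 j, e0, zero_mul]
      have : y + s = 0 := funext fun j => (mul_eq_zero.1 (h0 j)).resolve_left hi1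
      have := congrArg (fun t => f₂ t v) this
      simp only [hf₂.bilinear.add_left, hyv, hsv0, add_zero, form_zero_left hl2] at this
      exact one_ne_zero this
    have hys := smul_right_injective (Fin n₂ → F) hα hcomb
    exact hs (Submodule.mem_span_singleton.2 ⟨f₂ y s, (add_left_cancel hys).symm⟩)
  · set M' := M.comap φ.toMonoidHom with hM'
    have hiso : ∀ g ∈ M', ∀ x, Q' ((g : Matrix (Fin n₁ × Fin n₂) (Fin n₁ × Fin n₂) F) *ᵥ x) = Q' x := by
      intro g hg x
      show c⁻¹ * Q _ = c⁻¹ * Q _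
      rw [← hφT, omega_isometry hQ (hMle (show φ g ∈ M from hg))]
    have D : OrthFull.Data Q' f₁ f₂ M' N :=
      { hQ := hQn, h1 := hf₁, h2 := hf₂, hB := hBz, pure := hQ'pure, isoM := hiso, hsieg := hsN
        stab := fun g hg hk => hM ⟨(hmem g).2 hk, hg⟩
        hm := hn1, hk := hk, hmk := by omega }
    have hexc : 3 ≤ n₁ ∨ ∃ t : F, t ≠ 0 ∧ t ≠ 1 := by
      by_cases h3 : 3 ≤ n₁
      · exact Or.inl h3
      right
      by_contra hct
      push Not at hct
      refine hex ⟨?_, by omega⟩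
      have : (Finset.univ : Finset F) = {0, 1} := by
        ext t
        simp only [Finset.mem_univ, Finset.mem_insert, Finset.mem_singleton, true_iff]
        exact (em (t = 0)).imp id (hct t)
      rw [← Finset.card_univ, this, Finset.card_pair zero_ne_one]
    rcases OrthPure.dichotomy D hexc with h | h
    · refine Or.inl (le_antisymm (fun x hx => ⟨?_, hMle hx⟩) hM)
      have := (hmem _).2 (h (show φ.symm x ∈ M' by
        show φ (φ.symm x) ∈ M; rwa [φ.apply_symm_apply]))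
      rwa [φ.apply_symm_apply] at this
    · refine Or.inr (le_antisymm hMle (omega_le hQ hn5 fun u w hu hw => ?_))
      obtain ⟨u, rfl⟩ := hTsurj u
      obtain ⟨w, rfl⟩ := hTsurj w
      have hu' : Q' u = 0 := by show c⁻¹ * Q _ = 0; rw [hu, mul_zero]
      have hw' : QuadraticMap.polar Q' (c • w) u = 0 := by
        rw [hB', map_smul, hb.smul_left, hw, mul_zero, mul_zero]
      have h1 : φ (Cfsg.Agent.Lib.Subspaces.OrthForm.sieg Q' u (c • w)) ∈ M := h u (c • w) hu' hw'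
      rwa [hTsieg u _ hu' hw', smul_smul, inv_mul_cancel₀ hc, one_smul] at h1

end Cfsg.Agent.Lib.TensorFormMax.OrthMain
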