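import Cfsg.Agent.Lib.TensorFormMax.OrthFull

/-!
Siegel transformations at pure tensors, and the dichotomy for two alternating factors.
-/

set_option autoImplicit false

namespace Cfsg.Agent.Lib.TensorFormMax.OrthPure

open Matrix Kronecker
open Cfsg.Agent.Lib.Subspaces.Transvection Cfsg.Agent.Lib.Subspaces.FormVec
  Cfsg.Agent.Lib.Subspaces.OrthForm Cfsg.Agent.Lib.Subspaces.OrthLines Cfsg.Agent.Lib.Subspaces.OrthSingular
  Cfsg.Agent.Lib.TensorMax.Block Cfsg.Agent.Lib.TensorMax.Lemmas Cfsg.Agent.Lib.TensorFormMax.Basic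
  Cfsg.Agent.Lib.TensorFormMax.Radical Cfsg.Agent.Lib.TensorFormMax.Algebra
  Cfsg.Agent.Lib.TensorFormMax.OrthFull

variable {F : Type*} [Field F] [Finite F] {m k : ℕ} {Q : (Fin m × Fin k → F) → F}
  {f₁ : (Fin m → F) → (Fin m → F) → F} {f₂ : (Fin k → F) → (Fin k → F) → F}
  {M N : Subgroup (GL (Fin m × Fin k) F)} (D : Core Q f₁ f₂ M)

local notation "V1" => Fin m → F
local notation "V2" => Fin k → F
local notation "Vec" => Fin m × Fin k → F
local notation "Big" => Matrix (Fin m × Fin k) (Fin m × Fin k) F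
local notation "A1" => Matrix (Fin m) (Fin m) F
local notation "G" => GL (Fin m × Fin k) F
local notation "B" => QuadraticMap.polar Q

/-- The alternating rank two coefficient. -/
def skew2 (f₁ : (Fin m → F) → (Fin m → F) → F) (x y : Fin m → F) : Matrix (Fin m) (Fin m) F :=
  vecMulVec x (formVec f₁ y) - vecMulVec y (formVec f₁ x)

include D

theorem adj_rank_one (x y : V1) :
    AdjPair f₁ (vecMulVec x (formVec f₁ y)) (-vecMulVec y (formVec f₁ x)) := by
  intro u u'
  have hl := isLinearLeft_of_bilinear D.h1.bilinear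
  rw [neg_mulVec, vecMulVec_mulVec, vecMulVec_mulVec, op_smul_eq_smul, op_smul_eq_smul, formVec_dot hl,
    formVec_dot hl, ← neg_smul, D.h1.bilinear.smul_left, D.h1.bilinear.smul_right, D.h1.skew x u']
  ring

variable (hall : ∀ A : Matrix (Fin m) (Fin m) F, AllHas f₂ M A)
include hall

/-- The elements with alternating coefficient. -/
theorem el_alternating {A : A1} (hA : ∀ c, f₁ c (A *ᵥ c) = 0) {v : V2} (hv : v ≠ 0) :
    InM M (el A v (formVec f₂ v)) := by
  have S := D.setting le_rfl D.isoM
  have hD := (SympSide.duals D.h2).slides S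
  have hl := isLinearLeft_of_bilinear D.h1.bilinear
  have hvv := D.h2.alternating v
  have hbase : ∀ x y, InM M (el (skew2 f₁ x y) v (formVec f₂ v)) := fun x y => by
    have h1 : AdjPair f₁ (1 : A1) 1 := fun u u' => by rw [one_mulVec, one_mulVec]
    have := el_all S hD (hall (vecMulVec x (formVec f₁ y))) (hall 1) (adj_rank_one D x y) h1 hv hvv
    rwa [mul_one, one_mul, ← sub_eq_add_neg] at this
  induction h : Module.finrank F (LinearMap.range A.mulVecLin) using Nat.strong_induction_on generalizing A with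
  | _ r ih =>
    subst h
    by_cases hz : A = 0
    · rw [hz, el_zero_left]; exact InM.zero
    obtain ⟨q, hq⟩ : ∃ q, A *ᵥ q ≠ 0 := by
      by_contra hc
      push Not at hc
      exact hz (Matrix.mulVec_injective (funext fun x => by rw [hc x, zero_mulVec]))
    obtain ⟨p0, hp0⟩ := (SympSide.sform D.h1).nondeg _ hq
    set p := (f₁ p0 (A *ᵥ q))⁻¹ • p0
    have hpq : f₁ p (A *ᵥ q) = 1 := by rw [D.h1.bilinear.smul_left, inv_mul_cancel₀ hp0]
    have hswap : ∀ c d, f₁ c (A *ᵥ d) = -f₁ d (A *ᵥ c) := fun c d => by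
      have := hA (c + d)
      rw [mulVec_add, D.h1.bilinear.add_left, D.h1.bilinear.add_right, D.h1.bilinear.add_right, hA, hA] at this
      linear_combination this
    set x := A *ᵥ p with hxdef
    set y := A *ᵥ q with hydef
    set A' := A - skew2 f₁ x y with hA'
    have hskew : ∀ d, skew2 f₁ x y *ᵥ d = f₁ d y • x - f₁ d x • y := fun d => by
      rw [skew2, sub_mulVec, vecMulVec_mulVec, vecMulVec_mulVec, op_smul_eq_smul, op_smul_eq_smul,
        formVec_dot hl, formVec_dot hl]
    have halt' : ∀ c, f₁ c (A' *ᵥ c) = 0 := fun c => by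
      rw [hA', sub_mulVec, hskew, (SympSide.sform D.h1).sub_right, (SympSide.sform D.h1).sub_right,
        D.h1.bilinear.smul_right, D.h1.bilinear.smul_right, hA]
      ring
    have hp' : A' *ᵥ p = 0 := by
      rw [hA', sub_mulVec, hskew, hpq, show f₁ p x = 0 from hA p, one_smul, zero_smul, sub_zero, sub_self]
    have hq' : A' *ᵥ q = 0 := by
      rw [hA', sub_mulVec, hskew, show f₁ q y = 0 from hA q, hswap q p, hpq, zero_smul, zero_sub, neg_one_smul,
        neg_neg, sub_self]
    have hker : ∀ r, A *ᵥ r = 0 → A' *ᵥ r = 0 := fun r hr => by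
      rw [hA', sub_mulVec, hskew, hr, hxdef, hydef, hswap r q, hswap r p, hr,
        (SympSide.sform D.h1).zero_right, (SympSide.sform D.h1).zero_right, neg_zero, zero_smul, zero_smul,
        sub_zero, sub_zero]
    have hlt : Module.finrank F (LinearMap.range A'.mulVecLin) < Module.finrank F (LinearMap.range A.mulVecLin) := by
      have h1 := LinearMap.finrank_range_add_finrank_ker A.mulVecLin
      have h2 := LinearMap.finrank_range_add_finrank_ker A'.mulVecLin
      have h3 : LinearMap.ker A.mulVecLin < LinearMap.ker A'.mulVecLin :=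
        lt_of_le_of_ne (fun r hr => hker r hr) fun e => hq (e.symm ▸ (hq' : q ∈ LinearMap.ker A'.mulVecLin) :
          q ∈ LinearMap.ker A.mulVecLin)
      have h4 := Submodule.finrank_lt_finrank_of_lt h3
      omega
    have := (ih _ hlt halt' rfl).add (hbase x y) (by
      rw [el_mul, formVec_dot (isLinearLeft_of_bilinear D.h2.bilinear), hvv, zero_smul])
    rwa [← el_add, hA', sub_add_cancel] at this

/-- Siegel transformations at two pure tensors along orthogonal vectors of the second factor. -/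
theorem sieg_perp (a b : V1) {v s : V2} (hv : v ≠ 0) (hsv : f₂ s v = 0) :
    Cfsg.Agent.Lib.Subspaces.OrthForm.sieg Q (tens a v) (tens b s) ∈ M := by
  have hl := isLinearLeft_of_bilinear D.h1.bilinear
  have hvv := D.h2.alternating v
  by_cases hs : s ∈ Submodule.span F {v}
  · obtain ⟨c, rfl⟩ := Submodule.mem_span_singleton.1 hs
    have halt : ∀ z, f₁ z (skew2 f₁ (c • b) a *ᵥ z) = 0 := fun z => by
      rw [skew2, sub_mulVec, vecMulVec_mulVec, vecMulVec_mulVec, op_smul_eq_smul, op_smul_eq_smul,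
        formVec_dot hl, formVec_dot hl, (SympSide.sform D.h1).sub_right, D.h1.bilinear.smul_right _ z (c • b),
        D.h1.bilinear.smul_right _ z a]
      ring
    obtain ⟨g, hg, hval⟩ := el_alternating D hall halt hv
    convert hg using 1
    refine Units.ext (ext_tens fun p w => ?_)
    rw [D.siegPure (by rw [D.h2.bilinear.smul_left, hvv, mul_zero, zero_mul]), hval, add_mulVec, one_mulVec,
      el_mulVec, skew2, sub_mulVec, vecMulVec_mulVec, vecMulVec_mulVec, op_smul_eq_smul, op_smul_eq_smul,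
      formVec_dot hl, formVec_dot hl, D.ctr_tens', D.ctr_tens']
    simp only [D.h1.bilinear.smul_left, D.h1.bilinear.smul_right, D.h2.bilinear.smul_right, tens_smul_left,
      tens_smul_right, tens_sub_left]
    module
  have hp : Pair f₂ v s := ⟨hv, hvv, D.h2.alternating s, hsv, hs⟩
  obtain ⟨x, hx, hfix, hact⟩ := hall (-vecMulVec a (formVec f₁ b)) v s hp
  set σg := Cfsg.Agent.Lib.Subspaces.OrthForm.sieg Q (tens a v) (tens b s)
  have hperp : B (tens b s) (tens a v) = 0 := by rw [D.B_tens, hsv, zero_mul]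
  let Iso : Subgroup G :=
    { carrier := {g | ∀ z, Q ((g : Big) *ᵥ z) = Q z}
      one_mem' := fun z => by rw [Units.val_one, one_mulVec]
      mul_mem' := fun {p q} hp hq z => by rw [gl_mul_mulVec, hp, hq]
      inv_mem' := fun {p} hp z => by
        conv_rhs => rw [← gl_mulVec_inv p z, hp] }
  have S' := D.setting (M' := Iso) (fun g hg => D.isoM g hg) fun g hg => hg
  have hσ : σg ∈ Iso := fun z => sieg_isometry D.hQ (D.pure a v) hperp z
  have hvs : f₂ v s = 0 := by rw [D.h2.skew, hsv, neg_zero]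
  have hr : ∀ z, ctr (formVec f₂ v) z = 0 → ((σg * x⁻¹ : G) : Big) *ᵥ z = z := by
    intro z hz
    have hfix' : ∀ u, (σg : Big) *ᵥ tens u v = tens u v := fun u => by
      rw [D.siegPure (by rw [hsv, zero_mul]), D.ctr_tens', D.ctr_tens', hvv, hvs, zero_smul,
        form_zero_left hl, form_zero_left hl, zero_smul, zero_smul, add_zero, sub_zero]
    rw [gl_mul_mulVec, Acts.inv S' hvv (show Acts f₂ v x _ from ⟨hfix, hact⟩) hz, mulVec_sub, hfix',
      D.siegPure (by rw [hsv, zero_mul]), hz, form_zero_left hl, zero_smul, add_zero, neg_mulVec, vecMulVec_mulVec,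
      op_smul_eq_smul, formVec_dot hl, ← neg_smul, tens_smul_left]
    module
  obtain ⟨A, hA⟩ := eq_el_of_fix S' ((SympSide.duals D.h2).slides S') hv hvv
    (Iso.mul_mem hσ (Iso.inv_mem (fun z => D.isoM x hx z))) hr
  obtain ⟨w, hw⟩ := (SympSide.sform D.h2).exists_one hv
  have halt : ∀ c, f₁ c (A *ᵥ c) = 0 := fun c => by
    have h1 : Q (((σg * x⁻¹ : G) : Big) *ᵥ tens c w) = Q (tens c w) :=
      Iso.mul_mem hσ (Iso.inv_mem (fun z => D.isoM x hx z)) (tens c w)
    rw [hA, add_mulVec, one_mulVec, el_mulVec, D.ctr_tens', hw, one_smul, Q_add (Q := Q), D.pure, D.pure, D.B_tens, hw,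
      one_mul, zero_add, zero_add] at h1
    exact h1
  obtain ⟨g, hg, hval⟩ := el_alternating D hall halt hv
  have : σg = g * x := by
    rw [← mul_inv_eq_iff_eq_mul]
    exact Units.ext (hA.trans hval.symm)
  rw [this]
  exact M.mul_mem hg hx

/-- All Siegel transformations at a pure tensor. -/
theorem full_pure (a : V1) (v : V2) : Full Q M (tens a v) := by
  rcases eq_or_ne v 0 with rfl | hv
  · refine ⟨D.pure a 0, fun w hw => ?_⟩
    have : Cfsg.Agent.Lib.Subspaces.OrthForm.sieg Q (tens a (0 : V2)) w = 1 := gl_ext fun x => by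
      rw [sieg_mulVec D.hQ (D.pure a 0) hw, tens_zero_right, zero_right D.hQ, zero_smul, smul_zero, add_zero,
        add_zero, Units.val_one, one_mulVec]
    rw [this]; exact M.one_mem
  have hF2 := SympSide.sform D.h2
  have hF1 := SympSide.sform D.h1
  have hb := D.hQ.polar_bilinear
  let W : AddSubgroup Vec :=
    { carrier := {w | B w (tens a v) = 0 ∧ Cfsg.Agent.Lib.Subspaces.OrthForm.sieg Q (tens a v) w ∈ M}
      zero_mem' := by
        refine ⟨by rw [← form_zero_left (bil D.hQ) (tens a v)], ?_⟩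
        have : Cfsg.Agent.Lib.Subspaces.OrthForm.sieg Q (tens a v) 0 = 1 := gl_ext fun x => by
          rw [sieg_mulVec D.hQ (D.pure a v) (form_zero_left (bil D.hQ) _), zero_right D.hQ,
            show Q 0 = 0 by rw [← zero_smul F (0 : Vec), D.hQ.smul]; ring, Units.val_one, one_mulVec]
          simp
        rw [this]; exact M.one_mem
      add_mem' := fun {p q} hp hq => ⟨by rw [hb.add_left, hp.1, hq.1, add_zero], by
        rw [sieg_add_right D.hQ (D.pure a v) hp.1 hq.1]
        exact M.mul_mem hp.2 hq.2⟩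
      neg_mem' := fun {p} hp => by
        have h0 : B (-p) (tens a v) = 0 := by rw [← neg_one_smul F p, hb.smul_left, hp.1, mul_zero]
        refine ⟨h0, ?_⟩
        have e := sieg_add_right D.hQ (D.pure a v) hp.1 h0
        rw [add_neg_cancel] at e
        have e0 : Cfsg.Agent.Lib.Subspaces.OrthForm.sieg Q (tens a v) 0 = 1 := gl_ext fun x => by
          rw [sieg_mulVec D.hQ (D.pure a v) (form_zero_left (bil D.hQ) _), zero_right D.hQ,
            show Q 0 = 0 by rw [← zero_smul F (0 : Vec), D.hQ.smul]; ring, Units.val_one, one_mulVec]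
          simp
        rw [e0] at e
        rw [eq_inv_of_mul_eq_one_right e.symm]
        exact M.inv_mem hp.2 }
  have hperp : ∀ (b : V1) (s : V2), f₂ s v = 0 → tens b s ∈ W := fun b s hs =>
    ⟨by rw [D.B_tens, hs, zero_mul], sieg_perp D hall a b hv hs⟩
  obtain ⟨y, hy⟩ := hF2.exists_one hv
  have hpart : ∀ b : V1, f₁ b a = 0 → tens b y ∈ W := by
    intro b hb0
    rcases eq_or_ne b 0 with rfl | hbn
    · rw [tens_zero_left]; exact W.zero_mem
    have hyn : y ≠ 0 := fun e => by rw [e, form_zero_left hF2.lin] at hy; exact zero_ne_one hy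
    obtain ⟨s', hs'0, hs'y⟩ := exists_common_zero_not_mem (⊥ : Submodule F V2)
      ![formVec f₂ v, formVec f₂ y] (by
        have := D.hk
        rw [finrank_bot, Fintype.card_fin]; omega)
    have hs'v : f₂ s' v = 0 := by rw [← hF2.dot]; exact hs'y 0
    have hs'y' : f₂ s' y = 0 := by rw [← hF2.dot]; exact hs'y 1
    have hs' : s' ∉ Submodule.span F {v} ⊔ Submodule.span F {y} := fun hmem => by
      obtain ⟨p, hp, r, hr, hpr⟩ := Submodule.mem_sup.1 hmem
      obtain ⟨α, rfl⟩ := Submodule.mem_span_singleton.1 hp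
      obtain ⟨β, rfl⟩ := Submodule.mem_span_singleton.1 hr
      have h1 : β = 0 := by
        rwa [← hpr, D.h2.bilinear.add_left, D.h2.bilinear.smul_left, D.h2.bilinear.smul_left, D.h2.alternating,
          hy, mul_zero, zero_add, mul_one] at hs'v
      have h2 : α = 0 := by
        rwa [← hpr, D.h2.bilinear.add_left, D.h2.bilinear.smul_left, D.h2.bilinear.smul_left, D.h2.alternating,
          D.h2.skew v y, hy, mul_zero, add_zero, mul_neg, mul_one, neg_eq_zero] at hs'y'
      exact hs'0 (by rw [← hpr, h1, h2, zero_smul, zero_smul, add_zero]; exact Submodule.zero_mem _)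
    obtain ⟨s, hs, hss'⟩ := SympSide.dual D.h2 hs'
    have hsv : f₂ s v = 0 := hs v (Submodule.mem_sup_left (Submodule.mem_span_singleton_self v))
    have hsy : f₂ s y = 0 := hs y (Submodule.mem_sup_right (Submodule.mem_span_singleton_self y))
    obtain ⟨e0, he0⟩ := hF1.nondeg b hbn
    set e := (f₁ e0 b)⁻¹ • e0
    have heb : f₁ b e = -1 := by rw [D.h1.skew, D.h1.bilinear.smul_left, inv_mul_cancel₀ he0]
    set h := Cfsg.Agent.Lib.Subspaces.OrthForm.sieg Q (tens b y) (tens e s')
    have hh : h ∈ M := sieg_perp D hall b e hyn hs'y'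
    have hperp' : B (tens e s') (tens b y) = 0 := by rw [D.B_tens, hs'y', zero_mul]
    have hiso : ∀ z, Q ((h : Big) *ᵥ z) = Q z := fun z => sieg_isometry D.hQ (D.pure b y) hperp' z
    have hu : (h : Big) *ᵥ tens a v = tens a v := by
      rw [D.siegPure (by rw [hs'y', zero_mul]), D.ctr_tens', D.ctr_tens', hF2.eq_zero_comm hs'v, zero_smul,
        form_zero_left hF1.lin, zero_smul, sub_zero, D.h1.bilinear.smul_left, hF1.eq_zero_comm hb0, mul_zero,
        zero_smul, add_zero]
    have hw : (h : Big) *ᵥ tens b s = tens b s + tens b y := by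
      rw [D.siegPure (by rw [hs'y', zero_mul]), D.ctr_tens', D.ctr_tens', hsy, zero_smul,
        form_zero_left hF1.lin, zero_smul, add_zero, hss', one_smul, heb, neg_one_smul, sub_neg_eq_add]
    have hmem := hperp b s hsv
    have hmem2 : tens b s + tens b y ∈ W := by
      refine ⟨?_, ?_⟩
      · rw [← hw]
        conv_lhs => rw [← hu]
        rw [B_map hiso]
        exact hmem.1
      · have := M.mul_mem (M.mul_mem hh hmem.2) (M.inv_mem hh)
        rw [conj_sieg D.hQ hiso (D.pure a v) hmem.1, hu, hw] at this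
        exact this
    have := W.sub_mem hmem2 hmem
    rwa [add_sub_cancel_left] at this
  refine ⟨D.pure a v, fun z hz => ?_⟩
  suffices z ∈ W from this.2
  set d := ctr (formVec f₂ v) z with hd
  have hda : f₁ d a = 0 := by rw [← hz, D.hB]
  rw [← sub_add_cancel z (tens d y)]
  refine W.add_mem ?_ (hpart d hda)
  rw [← sum_tens_slice (z - tens d y)]
  refine sum_mem fun i _ => hperp _ _ ?_
  rw [← hF2.dot, ← ctr_eq_dot, ctr_sub, D.ctr_tens', hy, one_smul, hd, sub_self]
  rfl

/-- All Siegel transformations. -/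
theorem full_all : ∀ u w, Q u = 0 → B w u = 0 → Cfsg.Agent.Lib.Subspaces.OrthForm.sieg Q u w ∈ M := by
  intro u w hu hwu
  have hfull := full_pure D hall
  suffices hsing : Full Q M u from hsing.2 w hwu
  rcases eq_or_ne u 0 with rfl | hun
  · rw [← tens_zero_left (m := m) (0 : V2)]
    exact hfull _ _
  have hF1 := SympSide.sform D.h1
  have hF2 := SympSide.sform D.h2
  -- a pure tensor not orthogonal to `u`
  obtain ⟨a, v, hav⟩ : ∃ (a : V1) (v : V2), B u (tens a v) ≠ 0 := by
    by_contra hc
    push Not at hc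
    obtain ⟨⟨x, hx⟩, -⟩ := D.hQ.nondegenerate u hun
    refine hx ?_
    rw [B_comm, ← sum_tens_slice x]
    let L : Vec →+ F := AddMonoidHom.mk' (fun z => B u z) fun p q => D.hQ.polar_bilinear.add_right u p q
    show L (∑ i, tens (Pi.single i 1 : V1) (slice x i)) = 0
    rw [map_sum]
    exact Finset.sum_eq_zero fun i _ => hc _ _
  set a' := (B u (tens a v))⁻¹ • a
  have hua : B u (tens a' v) = 1 := by
    rw [tens_smul_left, D.hQ.polar_bilinear.smul_right, inv_mul_cancel₀ hav]
  have ha' : a' ≠ 0 := fun e => by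
    rw [e, tens_zero_left, zero_right D.hQ] at hua
    exact zero_ne_one hua
  have hv : v ≠ 0 := fun e => by
    rw [e, tens_zero_right, zero_right D.hQ] at hua
    exact zero_ne_one hua
  obtain ⟨p, hp⟩ := hF1.exists_one ha'
  obtain ⟨q, hq⟩ := hF2.exists_one hv
  exact full_move D.hQ (hfull a' v) (hfull p q) hu (by rw [D.B_tens, hp, hq, one_mul]) hua

omit hall in
/-- The overgroup lies in the tensor product stabiliser or contains every Siegel transformation. -/
theorem dichotomy_core (hk6 : 6 ≤ k) (hmk : m + 2 ≤ k)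
    (hleft : ∀ g g' : A1, g * g' = 1 → (∀ x y, f₁ (g *ᵥ x) (g *ᵥ y) = f₁ x y) →
      ∃ h ∈ M, (h : Big) = g ⊗ₖ (1 : Matrix (Fin k) (Fin k) F))
    (hex : 3 ≤ m ∨ ∃ c : F, c ≠ 0 ∧ c ≠ 1) :
    M ≤ Cfsg.Geo.kroneckerSubgroup m k F ∨
      ∀ u w, Q u = 0 → B w u = 0 → Cfsg.Agent.Lib.Subspaces.OrthForm.sieg Q u w ∈ M := by
  have S := D.setting le_rfl D.isoM
  by_cases hG : NoRadical f₂ M
  · exact Or.inl (Rigid.rigid_of_lt S (Or.inl (by omega)) hG hmk)
  exact Or.inr (full_all D (D.allHas_all hk6 hleft hG hex))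

omit D hall in
/-- The overgroup lies in the tensor product stabiliser or contains every Siegel transformation. -/
theorem dichotomy (D : Data Q f₁ f₂ M N) (hex : 3 ≤ m ∨ ∃ c : F, c ≠ 0 ∧ c ≠ 1) :
    M ≤ Cfsg.Geo.kroneckerSubgroup m k F ∨
      ∀ u w, Q u = 0 → B w u = 0 → Cfsg.Agent.Lib.Subspaces.OrthForm.sieg Q u w ∈ M :=
  dichotomy_core D.core D.hk D.hmk D.left_mem hex

end Cfsg.Agent.Lib.TensorFormMax.OrthPure
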