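import Cfsg.Agent.Lib.TensorFormMax.BlkKron

/-!
The radical of the stabiliser of a block inside an overgroup: elements `x` fixing the block pointwise and
moving its orthogonal into the block, and their coefficient matrices.
-/

set_option autoImplicit false

namespace Cfsg.Agent.Lib.TensorFormMax.Radical

open Matrix Kronecker
open Cfsg.Agent.Lib.Subspaces.Transvection Cfsg.Agent.Lib.Subspaces.FormVec
  Cfsg.Agent.Lib.TensorMax.Block Cfsg.Agent.Lib.TensorMax.Lemmas Cfsg.Agent.Lib.TensorFormMax.Basic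

variable {F : Type*} [Field F] {m k : ℕ} {σ : F →+* F} {ε : F}
  {f₁ : (Fin m → F) → (Fin m → F) → F} {f₂ : (Fin k → F) → (Fin k → F) → F}
  {B : (Fin m × Fin k → F) → (Fin m × Fin k → F) → F} {M : Subgroup (GL (Fin m × Fin k) F)}

local notation "V1" => Fin m → F
local notation "V2" => Fin k → F
local notation "Big" => Matrix (Fin m × Fin k) (Fin m × Fin k) F
local notation "A1" => Matrix (Fin m) (Fin m) F
local notation "G" => GL (Fin m × Fin k) F

/-- The radical element `x` of `v` acts on the orthogonal of the block by `L`. -/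
def Acts (f₂ : (Fin k → F) → (Fin k → F) → F) (v : Fin k → F) (x : GL (Fin m × Fin k) F)
    (L : (Fin m × Fin k → F) → (Fin m → F)) : Prop :=
  (∀ u : V1, (x : Big) *ᵥ tens u v = tens u v) ∧
    ∀ z, ctr (formVec f₂ v) z = 0 → (x : Big) *ᵥ z = z + tens (L z) v

/-- The group has a radical element of `v` with coefficient `A` along `s`. -/
def Has (f₂ : (Fin k → F) → (Fin k → F) → F) (M : Subgroup (GL (Fin m × Fin k) F)) (v : Fin k → F)
    (A : Matrix (Fin m) (Fin m) F) (s : Fin k → F) : Prop :=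
  ∃ x ∈ M, Acts f₂ v x fun z => A *ᵥ ctr (formVec f₂ s) z

/-- An orthogonal pair of isotropic vectors. -/
structure Pair (f₂ : (Fin k → F) → (Fin k → F) → F) (v s : Fin k → F) : Prop where
  ne : v ≠ 0
  left : f₂ v v = 0
  right : f₂ s s = 0
  orth : f₂ s v = 0
  indep : s ∉ Submodule.span F {v}

/-- The adjoint relation for the form of the first factor. -/
def AdjPair (f₁ : (Fin m → F) → (Fin m → F) → F) (A A' : Matrix (Fin m) (Fin m) F) : Prop :=
  ∀ u u', f₁ (A *ᵥ u) u' = f₁ u (A' *ᵥ u')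

variable (S : Setting σ ε f₁ f₂ B M)
include S

theorem exists_adj [Finite F] (A : A1) : ∃ A', AdjPair f₁ A A' := by
  have hsurj := formVec_surjective S.h1.lin (fun a b c => S.h1.add_right a b c)
    (fun a ha => ⟨S.h1.nondeg a ha, by
      obtain ⟨y, hy⟩ := S.h1.nondeg a ha
      exact ⟨y, fun e => hy (S.h1.eq_zero_comm e)⟩⟩)
  choose T hT using fun u' : V1 => hsurj (formVec f₁ u' ᵥ* A)
  have hTd : ∀ u u', f₁ (A *ᵥ u) u' = f₁ u (T u') := fun u u' => by
    rw [← S.h1.dot (T u'), hT, ← dotProduct_mulVec, S.h1.dot]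
  have hext : ∀ a b : V1, (∀ u, f₁ u a = f₁ u b) → a = b := fun a b h =>
    S.h1.eq_of_left fun u => by rw [S.h1.swap u a, S.h1.swap u b, h]
  let L : V1 →ₗ[F] V1 :=
    { toFun := T
      map_add' := fun a b => hext _ _ fun u => by rw [← hTd, S.h1.add_right, S.h1.add_right, hTd, hTd]
      map_smul' := fun c a => hext _ _ fun u => by
        rw [RingHom.id_apply, ← hTd, S.h1.smul_right, S.h1.smul_right, hTd] }
  exact ⟨LinearMap.toMatrix' L, fun u u' => by rw [hTd, LinearMap.toMatrix'_mulVec]; rfl⟩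

theorem adj_smul_one (c : F) : AdjPair f₁ (c • (1 : A1)) (σ c • 1) := fun u u' => by
  rw [smul_mulVec, smul_mulVec, one_mulVec, one_mulVec, S.h1.lin.smul_left, S.h1.smul_right, S.h1.invol]

theorem B_sub_left (x y z : Fin m × Fin k → F) : B (x - y) z = B x z - B y z := form_sub_left S.lin x y z

theorem B_orth {z : Fin m × Fin k → F} {v : V2} (hz : ctr (formVec f₂ v) z = 0) (u : V1) :
    B z (tens u v) = 0 := by
  rw [S.hB, hz, form_zero_left S.h1.lin]

/-- An element fixing a block pointwise preserves its orthogonal. -/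
theorem ctr_fix {y : G} (hy : y ∈ M) {v : V2} (hfix : ∀ u, (y : Big) *ᵥ tens u v = tens u v)
    (z : Fin m × Fin k → F) : ctr (formVec f₂ v) ((y : Big) *ᵥ z) = ctr (formVec f₂ v) z := by
  refine S.h1.eq_of_left fun u => ?_
  rw [← S.hB, ← S.hB]
  conv_lhs => rw [← hfix u, S.iso y hy]

theorem inv_fix {y : G} {v : V2} (hfix : ∀ u, (y : Big) *ᵥ tens u v = tens u v) (u : V1) :
    ((y⁻¹ : G) : Big) *ᵥ tens u v = tens u v := by
  conv_lhs => rw [← hfix u, gl_inv_mulVec]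

theorem Acts.eq_of {v : V2} (hv : v ≠ 0) {x : G} {L : (Fin m × Fin k → F) → V1} (h : Acts f₂ v x L)
    {z : Fin m × Fin k → F} (hz : ctr (formVec f₂ v) z = 0) {a : V1}
    (ha : (x : Big) *ᵥ z = z + tens a v) : L z = a := by
  rw [h.2 z hz] at ha
  exact tens_injective hv (add_left_cancel ha)

theorem Acts.inv {v : V2} (hvv : f₂ v v = 0) {x : G} {L : (Fin m × Fin k → F) → V1} (h : Acts f₂ v x L)
    {z : Fin m × Fin k → F} (hz : ctr (formVec f₂ v) z = 0) :
    ((x⁻¹ : G) : Big) *ᵥ z = z - tens (L z) v := by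
  refine gl_mulVec_injective x (show (x : Big) *ᵥ _ = (x : Big) *ᵥ _ from ?_)
  rw [gl_mulVec_inv, mulVec_sub, h.1, h.2 z hz, add_sub_cancel_right]

theorem Acts.sub {v : V2} (hv : v ≠ 0) {x : G} {L : (Fin m × Fin k → F) → V1} (h : Acts f₂ v x L)
    {z z' : Fin m × Fin k → F} (hz : ctr (formVec f₂ v) z = 0) (hz' : ctr (formVec f₂ v) z' = 0) :
    L (z - z') = L z - L z' := by
  refine Acts.eq_of S hv h (by rw [ctr_sub, hz, hz', sub_zero]) ?_
  rw [mulVec_sub, h.2 z hz, h.2 z' hz', tens_sub_left]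
  abel

/-- The commutator with an element fixing the block. -/
theorem qcomm {v : V2} (hv : v ≠ 0) (hvv : f₂ v v = 0) {x : G} (hx : x ∈ M)
    {L : (Fin m × Fin k → F) → V1} (h : Acts f₂ v x L) {y : G} (hy : y ∈ M)
    (hfix : ∀ u, (y : Big) *ᵥ tens u v = tens u v) :
    x * y * x⁻¹ * y⁻¹ ∈ M ∧
      Acts f₂ v (x * y * x⁻¹ * y⁻¹) fun z => L (z - ((y⁻¹ : G) : Big) *ᵥ z) := by
  refine ⟨M.mul_mem (M.mul_mem (M.mul_mem hx hy) (M.inv_mem hx)) (M.inv_mem hy), fun u => ?_, fun z hz => ?_⟩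
  · rw [gl_mul_mulVec, inv_fix S hfix, gl_mul_mulVec]
    conv_lhs => rw [← h.1 u, gl_inv_mulVec]
    rw [gl_mul_mulVec, hfix, h.1]
  · have hz1 : ctr (formVec f₂ v) (((y⁻¹ : G) : Big) *ᵥ z) = 0 := by
      rw [ctr_fix S (M.inv_mem hy) (inv_fix S hfix), hz]
    rw [gl_mul_mulVec, gl_mul_mulVec, Acts.inv S hvv h hz1, gl_mul_mulVec, mulVec_sub, gl_mulVec_inv, hfix,
      mulVec_sub, h.2 z hz, h.1]
    dsimp only
    rw [Acts.sub S hv h hz hz1, tens_sub_left]
    abel

theorem Has.congr {v s : V2} {A : A1} (h : Has f₂ M v A s) {A' : A1} {s' : V2}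
    (e : ∀ z, ctr (formVec f₂ v) z = 0 → A' *ᵥ ctr (formVec f₂ s') z = A *ᵥ ctr (formVec f₂ s) z) :
    Has f₂ M v A' s' := by
  obtain ⟨x, hx, h1, h2⟩ := h
  exact ⟨x, hx, h1, fun z hz => by rw [h2 z hz]; dsimp only; rw [e z hz]⟩

theorem formVec_smul (c : F) (s : V2) : formVec f₂ (c • s) = σ c • formVec f₂ s := funext fun d => by
  simp only [Pi.smul_apply, smul_eq_mul, formVec, S.h2.smul_right]

theorem ctr_smul_vec (c : F) (s : V2) (z : Fin m × Fin k → F) :
    ctr (formVec f₂ (c • s)) z = σ c • ctr (formVec f₂ s) z := by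
  rw [formVec_smul S]
  ext i
  simp [ctr, Finset.mul_sum, mul_assoc]

theorem Has.of_smul {v s : V2} {A : A1} {c : F} (h : Has f₂ M v A (c • s)) : Has f₂ M v (σ c • A) s :=
  Has.congr S h fun z _ => by rw [ctr_smul_vec S, mulVec_smul, smul_mulVec]

theorem Has.add {v s : V2} {A A' : A1} (h : Has f₂ M v A s) (h' : Has f₂ M v A' s) : Has f₂ M v (A + A') s := by
  obtain ⟨x, hx, h1, h2⟩ := h
  obtain ⟨x', hx', h1', h2'⟩ := h'
  refine ⟨x * x', M.mul_mem hx hx', fun u => by rw [gl_mul_mulVec, h1', h1], fun z hz => ?_⟩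
  rw [gl_mul_mulVec, h2' z hz, mulVec_add, h2 z hz, h1]
  dsimp only
  rw [add_mulVec, tens_add_left]
  abel

/-- Commuting with a root element of an orthogonal vector. -/
theorem qroot {v t : V2} (hv : v ≠ 0) (hvv : f₂ v v = 0) (htt : f₂ t t = 0) (htv : f₂ t v = 0) {x : G}
    (hx : x ∈ M) {L : (Fin m × Fin k → F) → V1} (h : Acts f₂ v x L) {A : A1}
    (hA : ∀ a, L (tens a t) = A *ᵥ a) : Has f₂ M v A t := by
  obtain ⟨R, hR, hRv⟩ := S.root_one htt
  have hfix : ∀ u, (R : Big) *ᵥ tens u v = tens u v := fun u => by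
    rw [hRv, add_mulVec, one_mulVec, el_mulVec, one_mulVec, S.ctr_form_tens, S.h2.eq_zero_comm htv, zero_smul,
      tens_zero_left, add_zero]
  obtain ⟨hM, h1, h2⟩ := qcomm S hv hvv hx h hR hfix
  refine ⟨_, hM, h1, fun z hz => ?_⟩
  rw [h2 z hz]
  congr 2
  dsimp only
  rw [← hA]
  congr 1
  have e : ((R⁻¹ : G) : Big) = 1 - el (1 : A1) t (formVec f₂ t) :=
    inv_val hRv (by rw [el_mul, S.h2.dot, htt, zero_smul])
  rw [e, sub_mulVec, one_mulVec, sub_sub_cancel, el_mulVec, one_mulVec]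

/-- Sliding the second vector. -/
theorem Has.slide {v s t : V2} {A : A1} (hv : v ≠ 0) (hvv : f₂ v v = 0) (htt : f₂ t t = 0) (htv : f₂ t v = 0)
    (h : Has f₂ M v A s) : Has f₂ M v (f₂ t s • A) t := by
  obtain ⟨x, hx, hA⟩ := h
  refine qroot S hv hvv htt htv hx hA fun a => ?_
  show A *ᵥ ctr _ _ = _
  rw [S.ctr_form_tens, mulVec_smul, smul_mulVec]

/-- Multiplying by the coefficient of a root-like element of an orthogonal vector. -/
theorem Has.mul_el {v s t : V2} {A D : A1} (hv : v ≠ 0) (hvv : f₂ v v = 0) (htt : f₂ t t = 0)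
    (htv : f₂ t v = 0) (hts : f₂ t s = 1) (h : Has f₂ M v A s) (hD : InM M (el D t (formVec f₂ t))) :
    Has f₂ M v (A * D) t := by
  obtain ⟨x, hx, hA⟩ := h
  obtain ⟨y, hy, hyv⟩ := hD
  have hfix : ∀ u, (y : Big) *ᵥ tens u v = tens u v := fun u => by
    rw [hyv, add_mulVec, one_mulVec, el_mulVec, S.ctr_form_tens, S.h2.eq_zero_comm htv, zero_smul, mulVec_zero,
      tens_zero_left, add_zero]
  obtain ⟨hM, h1, h2⟩ := qcomm S hv hvv hx hA hy hfix
  refine ⟨_, hM, h1, fun z hz => ?_⟩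
  rw [h2 z hz]
  congr 2
  dsimp only
  have e : ((y⁻¹ : G) : Big) = 1 - el D t (formVec f₂ t) :=
    inv_val hyv (by rw [el_mul, S.h2.dot, htt, zero_smul])
  rw [e, sub_mulVec, one_mulVec, sub_sub_cancel, el_mulVec, S.ctr_form_tens, hts, one_smul, ← mulVec_mulVec]

/-- Multiplying along a second pair. -/
theorem Has.mul_pair {v s t w r : V2} {A A' : A1} (hv : v ≠ 0) (hvv : f₂ v v = 0) (ht : t ≠ 0) (htt : f₂ t t = 0)
    (hrr : f₂ r r = 0) (htv : f₂ t v = 0) (hwv : f₂ w v = 0) (hrv : f₂ r v = 0) (hrt : f₂ r t = 0)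
    (hrw : f₂ r w = 1) (hts : f₂ t s = 1) (h : Has f₂ M v A s) (h' : Has f₂ M t A' w) :
    Has f₂ M v (A * A') r := by
  obtain ⟨x, hx, hA⟩ := h
  obtain ⟨y, hy, hB⟩ := h'
  have hfix : ∀ u, (y : Big) *ᵥ tens u v = tens u v := fun u => by
    rw [hB.2 _ (by rw [S.ctr_form_tens, S.h2.eq_zero_comm htv, zero_smul])]
    dsimp only
    rw [S.ctr_form_tens, S.h2.eq_zero_comm hwv, zero_smul, mulVec_zero, tens_zero_left, add_zero]
  obtain ⟨hM, hact⟩ := qcomm S hv hvv hx hA hy hfix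
  refine qroot S hv hvv hrr hrv hM hact fun a => ?_
  show A *ᵥ ctr _ (_ - _) = _
  have hrt' : ctr (formVec f₂ t) (tens a r) = 0 := by rw [S.ctr_form_tens, hrt, zero_smul]
  rw [Acts.inv S htt hB hrt', sub_sub_cancel, S.ctr_form_tens, hts, one_smul, S.ctr_form_tens, hrw, one_smul,
    mulVec_mulVec]

/-- Moving both vectors by an element acting on the second factor. -/
theorem Has.move {v s : V2} {A : A1} (h : Has f₂ M v A s) {g : G} (hg : g ∈ M) {v' s' : V2}
    (hgv : ∀ a, (g : Big) *ᵥ tens a v = tens a v') (hgs : ∀ a, (g : Big) *ᵥ tens a s = tens a s') :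
    Has f₂ M v' A s' := by
  obtain ⟨x, hx, h1, h2⟩ := h
  have hctr : ∀ {w w' : V2}, (∀ a, (g : Big) *ᵥ tens a w = tens a w') → ∀ y,
      ctr (formVec f₂ w') ((g : Big) *ᵥ y) = ctr (formVec f₂ w) y := fun {w w'} hw y => by
    refine S.h1.eq_of_left fun u => ?_
    rw [← S.hB, ← S.hB, ← hw, S.iso g hg]
  refine ⟨g * x * g⁻¹, M.mul_mem (M.mul_mem hg hx) (M.inv_mem hg), fun u => ?_, fun z hz => ?_⟩
  · rw [gl_mul_mulVec, gl_mul_mulVec, ← hgv, gl_inv_mulVec, h1]
  · obtain ⟨y, rfl⟩ : ∃ y, (g : Big) *ᵥ y = z := ⟨_, gl_mulVec_inv g z⟩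
    rw [hctr hgv] at hz
    rw [gl_mul_mulVec, gl_mul_mulVec, gl_inv_mulVec, h2 y hz, mulVec_add, hgv]
    dsimp only
    rw [hctr hgs]

/-- The orthogonal of the orthogonal of a block. -/
theorem mem_block [Finite F] {v : V2} (hv : v ≠ 0) (hvv : f₂ v v = 0) {d : Fin m × Fin k → F}
    (h : ∀ z, ctr (formVec f₂ v) z = 0 → B z d = 0) : ∃ a, d = tens a v := by
  have hsl : ∀ i, slice d i ∈ Submodule.span F {v} := fun i => by
    refine S.rich.avoid v _ hv hvv fun s hs hsv => S.h2.eq_zero_comm ?_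
    have e : ctr (formVec f₂ s) d = 0 := by
      refine S.h1.eq_of_left fun u => ?_
      rw [form_zero_left S.h1.lin, ← S.hB, S.Bswap, h _ (by rw [S.ctr_form_tens, hsv, zero_smul]), map_zero,
        mul_zero]
    rw [← S.h2.dot, ← ctr_eq_dot, e]
    rfl
  choose a ha using fun i => Submodule.mem_span_singleton.1 (hsl i)
  exact ⟨a, funext fun p => (congrFun (ha p.1) p.2).symm⟩

theorem ctr_v_delta {v : V2} {x : G} (hx : x ∈ M) (hfix : ∀ u, (x : Big) *ᵥ tens u v = tens u v)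
    (q : Fin m × Fin k → F) : ctr (formVec f₂ v) ((x : Big) *ᵥ q - q) = 0 := by
  rw [ctr_sub, ctr_fix S hx hfix, sub_self]

/-- The contraction of the displacement of a vector off the orthogonal of the block. -/
theorem ctr_delta {v s t w : V2} {x : G} (hx : x ∈ M) {A A' : A1} (hAA' : AdjPair f₁ A A')
    (h : Acts f₂ v x fun z => A *ᵥ ctr (formVec f₂ s) z) (htv : f₂ t v = 0) (hwv : f₂ w v = 1) (a : V1) :
    ctr (formVec f₂ t) ((x : Big) *ᵥ tens a w - tens a w) = f₂ s t • (A' *ᵥ a) := by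
  refine S.h1.eq_of_left fun u => ?_
  set q := tens a w
  have hz : ctr (formVec f₂ v) (tens u t) = 0 := by rw [S.ctr_form_tens, htv, zero_smul]
  have h1 := S.iso x hx q (tens u t)
  rw [h.2 _ hz] at h1
  dsimp only at h1
  rw [S.ctr_form_tens, mulVec_smul, S.addR] at h1
  have hBq : B ((x : Big) *ᵥ q) (tens (f₂ t s • (A *ᵥ u)) v) = f₁ a (f₂ t s • (A *ᵥ u)) := by
    rw [S.hB, ctr_fix S hx h.1, S.ctr_form_tens, hwv, one_smul]
  rw [hBq] at h1
  have hadj : f₁ a (A *ᵥ u) = f₁ (A' *ᵥ a) u := by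
    rw [S.h1.swap (A *ᵥ u) a, hAA', ← S.h1.swap]
  rw [← S.hB, B_sub_left S, S.h1.lin.smul_left, ← hadj, S.h2.swap t s]
  rw [S.h1.smul_right] at h1
  linear_combination h1

/-- The commutator of two radical elements. -/
theorem el_of_comm [Finite F] {v s t : V2} {A A' C C' : A1} (hv : v ≠ 0) (hvv : f₂ v v = 0) (hsv : f₂ s v = 0)
    (htv : f₂ t v = 0) (hts : f₂ t s = 1) (hAA : AdjPair f₁ A A') (hCC : AdjPair f₁ C C')
    (h : Has f₂ M v A s) (h' : Has f₂ M v C t) :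
    InM M (el (A * C' + C * A') v (formVec f₂ v)) := by
  obtain ⟨x, hx, hA⟩ := h
  obtain ⟨y, hy, hC⟩ := h'
  obtain ⟨hM, h1, h2⟩ := qcomm S hv hvv hx hA hy hC.1
  set x'' := x * y * x⁻¹ * y⁻¹
  obtain ⟨w, hw⟩ := S.h2.exists_one hv
  have hperp : ∀ z, ctr (formVec f₂ v) z = 0 → (x'' : Big) *ᵥ z = z := by
    intro z hz
    rw [h2 z hz]
    have e : z - ((y⁻¹ : G) : Big) *ᵥ z = tens (C *ᵥ ctr (formVec f₂ t) z) v := by
      rw [Acts.inv S hvv hC hz, sub_sub_cancel]
    show z + tens (A *ᵥ ctr _ _) v = z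
    rw [e, S.ctr_form_tens, S.h2.eq_zero_comm hsv, zero_smul, mulVec_zero, tens_zero_left, add_zero]
  have hq : ∀ a, (x'' : Big) *ᵥ tens a w = tens a w + tens ((A * C' + C * A') *ᵥ a) v := by
    intro a
    set q := tens a w
    set dx := (x : Big) *ᵥ q - q with hdx
    set dy := (y : Big) *ᵥ q - q with hdy
    have hdx0 := ctr_v_delta S hx hA.1 q
    have hdy0 := ctr_v_delta S hy hC.1 q
    have e1 : (x : Big) *ᵥ ((y : Big) *ᵥ q) = q + dx + dy + tens (A *ᵥ ctr (formVec f₂ s) dy) v := by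
      rw [show (y : Big) *ᵥ q = q + dy by rw [hdy, add_sub_cancel], mulVec_add, hA.2 dy hdy0,
        show (x : Big) *ᵥ q = q + dx by rw [hdx, add_sub_cancel]]
      abel
    have e2 : (y : Big) *ᵥ ((x : Big) *ᵥ q) = q + dy + dx + tens (C *ᵥ ctr (formVec f₂ t) dx) v := by
      rw [show (x : Big) *ᵥ q = q + dx by rw [hdx, add_sub_cancel], mulVec_add, hC.2 dx hdx0,
        show (y : Big) *ᵥ q = q + dy by rw [hdy, add_sub_cancel]]
      abel
    have e3 : (x'' : Big) *ᵥ ((y : Big) *ᵥ ((x : Big) *ᵥ q)) = (x : Big) *ᵥ ((y : Big) *ᵥ q) := by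
      rw [← gl_mul_mulVec, ← gl_mul_mulVec, ← gl_mul_mulVec]
      congr 2
      show x * y * x⁻¹ * y⁻¹ * y * x = x * y
      group
    have hrest : ctr (formVec f₂ v) (dy + dx + tens (C *ᵥ ctr (formVec f₂ t) dx) v) = 0 := by
      rw [ctr_add, ctr_add, hdx0, hdy0, S.ctr_form_tens, hvv, zero_smul, add_zero, add_zero]
    rw [e1, e2, add_assoc q, add_assoc q, mulVec_add, hperp _ hrest] at e3
    have hs : ctr (formVec f₂ s) dy = C' *ᵥ a := by
      rw [hdy, ctr_delta S hy hCC hC hsv hw, hts, one_smul]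
    have ht : ctr (formVec f₂ t) dx = -(A' *ᵥ a) := by
      rw [hdx, ctr_delta S hx hAA hA htv hw, S.h2.swap t s, hts, map_one, mul_one, neg_one_smul]
    rw [hs, ht, mulVec_neg, mulVec_mulVec, mulVec_mulVec] at e3
    rw [add_mulVec, tens_add_left]
    have e4 : tens (-((C * A') *ᵥ a)) v = -tens ((C * A') *ᵥ a) v := by
      rw [← neg_one_smul F, tens_smul_left, neg_one_smul]
    rw [e4] at e3
    linear_combination (norm := module) e3
  refine ⟨x'', hM, Matrix.mulVec_injective (funext fun z => ?_)⟩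
  rw [add_mulVec, one_mulVec, el_mulVec]
  set c := ctr (formVec f₂ v) z
  have hz0 : ctr (formVec f₂ v) (z - tens c w) = 0 := by
    rw [ctr_sub, S.ctr_form_tens, hw, one_smul, sub_self]
  conv_lhs => rw [← sub_add_cancel z (tens c w), mulVec_add, hperp _ hz0, hq]
  abel

end Cfsg.Agent.Lib.TensorFormMax.Radical
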