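import Cfsg.Agent.Lib.TensorFormMax.Basic

/-!
A conjugate of a block root element which lies in the tensor product stabiliser is a block root element.
-/

set_option autoImplicit false

namespace Cfsg.Agent.Lib.TensorFormMax.RootKron

open Matrix Kronecker
open Cfsg.Agent.Lib.Subspaces.Transvection Cfsg.Agent.Lib.Subspaces.FormVec
  Cfsg.Agent.Lib.TensorMax.Block Cfsg.Agent.Lib.TensorMax.Lemmas Cfsg.Agent.Lib.TensorFormMax.Basic

variable {F : Type*} [Field F] {m k : ℕ} {σ : F →+* F} {ε : F}
  {f₁ : (Fin m → F) → (Fin m → F) → F} {f₂ : (Fin k → F) → (Fin k → F) → F}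
  {B : (Fin m × Fin k → F) → (Fin m × Fin k → F) → F} {M : Subgroup (GL (Fin m × Fin k) F)}

local notation "V1" => Fin m → F
local notation "V2" => Fin k → F
local notation "Big" => Matrix (Fin m × Fin k) (Fin m × Fin k) F
local notation "A1" => Matrix (Fin m) (Fin m) F
local notation "G" => GL (Fin m × Fin k) F

theorem root_mem_kron (S : Setting σ ε f₁ f₂ B M) {R : G} {c : F} {v : V2} (hv : f₂ v v = 0)
    (hR : (R : Big) = 1 + el (c • (1 : A1)) v (formVec f₂ v)) : R ∈ Cfsg.Geo.kroneckerSubgroup m k F := by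
  have h : formVec f₂ v ⬝ᵥ (c • v) = 0 := by rw [dotProduct_smul, S.h2.dot, hv, smul_zero]
  refine ⟨1, tv (c • v) (formVec f₂ v), ?_⟩
  rw [hR, coe_tv h, Units.val_one, kronecker_add, one_kronecker_one, el, smul_kronecker, ← kronecker_smul,
    ← smul_vecMulVec]

/-- What a block map gives. -/
theorem Blk.extract (S : Setting σ ε f₁ f₂ B M) {g : G} (hg : g ∈ M) {v : V2} (hv : v ≠ 0)
    {c : F} {v' : V2} (hv' : v' ≠ 0) (hc : c ≠ 0)
    (h : (g : Big) * el (1 : A1) v (formVec f₂ v) = el (c • (1 : A1)) v' (formVec f₂ v') * (g : Big)) :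
    σ c = c ∧ ∃ C : V1 →ₗ[F] V1, Function.Bijective C ∧
      (∀ a, (g : Big) *ᵥ tens a v = tens (C a) v') ∧
      (∀ x, C (ctr (formVec f₂ v) x) = c • ctr (formVec f₂ v') ((g : Big) *ᵥ x)) ∧
      ∀ a b, f₁ (C a) (C b) = c * f₁ a b := by
  obtain ⟨y, hy⟩ := S.h2.exists_one hv
  have key : ∀ x, (g : Big) *ᵥ tens (ctr (formVec f₂ v) x) v =
      tens (c • ctr (formVec f₂ v') ((g : Big) *ᵥ x)) v' := fun x => by
    have := congrArg (fun Z => Z *ᵥ x) h
    simp only [← mulVec_mulVec, el_mulVec, smul_mulVec, one_mulVec] at this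
    exact this
  let C : V1 →ₗ[F] V1 :=
    { toFun := fun a => c • ctr (formVec f₂ v') ((g : Big) *ᵥ tens a y)
      map_add' := fun a b => by rw [tens_add_left, mulVec_add, ctr_add, smul_add]
      map_smul' := fun d a => by rw [RingHom.id_apply, tens_smul_left, mulVec_smul, ctr_smul, smul_comm] }
  have hC : ∀ a, (g : Big) *ᵥ tens a v = tens (C a) v' := fun a => by
    conv_lhs => rw [show a = ctr (formVec f₂ v) (tens a y) by rw [S.ctr_form_tens, hy, one_smul]]
    rw [key]
    rfl
  have hinj : Function.Injective C := fun a b e =>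
    tens_injective hv (gl_mulVec_injective g (show (g : Big) *ᵥ tens a v = (g : Big) *ᵥ tens b v by
      rw [hC, hC, e]))
  have hctr : ∀ x, C (ctr (formVec f₂ v) x) = c • ctr (formVec f₂ v') ((g : Big) *ᵥ x) := fun x =>
    tens_injective hv' (show tens (C (ctr (formVec f₂ v) x)) v' = tens (c • ctr (formVec f₂ v') _) v' by
      rw [← hC, key])
  have hsim : ∀ a b, f₁ (C a) (C b) = c * f₁ a b := fun a b => by
    show f₁ (c • ctr (formVec f₂ v') ((g : Big) *ᵥ tens a y)) (C b) = _
    rw [S.h1.lin.smul_left, ← S.hB, ← hC, S.iso g hg, S.B_tens, hy, one_mul]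
  refine ⟨?_, C, ⟨hinj, LinearMap.surjective_of_injective hinj⟩, hC, hctr, hsim⟩
  obtain ⟨a, b, hab⟩ := S.exists_pair
  have h1 := S.h1.swap (C b) (C a)
  rw [hsim, hsim, map_mul] at h1
  have h2 : c * f₁ a b = σ c * f₁ a b := by
    rw [h1, S.h1.swap b a]; ring
  exact (mul_right_cancel₀ hab h2).symm

theorem el_one_ne_zero (S : Setting σ ε f₁ f₂ B M) {v : V2} (hv : v ≠ 0) :
    el (1 : A1) v (formVec f₂ v) ≠ 0 := by
  have := S.hm
  refine el_ne_zero (by omega) hv (S.h2.formVec_ne hv) fun e => ?_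
  have := congrFun (congrFun e ⟨0, by omega⟩) ⟨0, by omega⟩
  simp at this

/-- The first factor is smaller, or it is symmetric of the same dimension in odd characteristic. -/
def Sep (m k : ℕ) (σ : F →+* F) (ε : F) : Prop :=
  m < k ∨ m = k ∧ ε = 1 ∧ (∀ a, σ a = a) ∧ (2 : F) ≠ 0

/-- A conjugate of a root element in the tensor product stabiliser is a root element. -/
theorem blk_of_kron (S : Setting σ ε f₁ f₂ B M) (hmk : Sep m k σ ε) {g x : G} (hx : x ∈ M) {v : V2}
    (hv : v ≠ 0) (hvv : f₂ v v = 0)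
    (hxk : x ∈ Cfsg.Geo.kroneckerSubgroup m k F)
    (h : (x : Big) * (g : Big) = (g : Big) * (1 + el (1 : A1) v (formVec f₂ v))) : Blk f₂ g v := by
  have hm := S.hm
  obtain ⟨a, b, hab⟩ := hxk
  set X : Big := (x : Big) - 1 with hXdef
  have hX : X * (g : Big) = (g : Big) * el (1 : A1) v (formVec f₂ v) := by
    rw [hXdef, sub_mul, h, mul_add, mul_one, Matrix.one_mul, add_sub_cancel_left]
  let L : V1 →ₗ[F] (Fin m × Fin k → F) :=
    { toFun := fun u => (g : Big) *ᵥ tens u v
      map_add' := fun p q => by rw [tens_add_left, mulVec_add]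
      map_smul' := fun d p => by rw [RingHom.id_apply, tens_smul_left, mulVec_smul] }
  have hXim : ∀ z, X *ᵥ z ∈ LinearMap.range L := fun z => by
    refine ⟨ctr (formVec f₂ v) (((g⁻¹ : G) : Big) *ᵥ z), ?_⟩
    show (g : Big) *ᵥ tens _ v = X *ᵥ z
    conv_rhs => rw [← gl_mulVec_inv g z, mulVec_mulVec _ X, hX, ← mulVec_mulVec, el_mulVec, one_mulVec]
  have hL : Module.finrank F (LinearMap.range L) ≤ m :=
    (LinearMap.finrank_range_le L).trans (by rw [Module.finrank_fin_fun])
  -- the first factor is scalar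
  obtain ⟨μ, hμ⟩ : ∃ μ : F, (a : A1) = μ • 1 := by
    by_contra hc
    push Not at hc
    obtain ⟨u, hu⟩ := Cfsg.Agent.Lib.TensorMax.FullAlgebra.exists_not_eigen hc
    let R : V2 →ₗ[F] (Fin m × Fin k → F) :=
      { toFun := fun w => X *ᵥ tens u w
        map_add' := fun p q => by rw [tens_add_right, mulVec_add]
        map_smul' := fun d p => by rw [RingHom.id_apply, tens_smul_right, mulVec_smul] }
    have hinj : Function.Injective R := by
      rw [injective_iff_map_eq_zero]
      intro w hw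
      have hw' : tens ((a : A1) *ᵥ u) ((b : Matrix (Fin k) (Fin k) F) *ᵥ w) = tens u w := by
        rw [← kron_mulVec_tens, ← hab]
        have e : X *ᵥ tens u w = 0 := hw
        rwa [hXdef, sub_mulVec, one_mulVec, sub_eq_zero] at e
      obtain ⟨χ, hχ, hχa⟩ := exists_functional hu
      funext d
      show w d = 0
      have e : ∀ i, ((a : A1) *ᵥ u) i * ((b : Matrix (Fin k) (Fin k) F) *ᵥ w) d = u i * w d :=
        fun i => congrFun hw' (i, d)
      have e2 : (χ ⬝ᵥ (a : A1) *ᵥ u) * ((b : Matrix (Fin k) (Fin k) F) *ᵥ w) d = (χ ⬝ᵥ u) * w d := by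
        simp only [dotProduct, Finset.sum_mul, mul_assoc, e]
      rw [hχa, hχ u (Submodule.mem_span_singleton_self u), one_mul, zero_mul] at e2
      obtain ⟨i, hi⟩ := Function.ne_iff.1 (show u ≠ 0 from fun e0 => hu (by simp [e0]))
      have := e i
      rw [e2, mul_zero] at this
      exact (mul_eq_zero.1 this.symm).resolve_left hi
    have h1 := Submodule.finrank_mono (show LinearMap.range R ≤ LinearMap.range L by
      rintro _ ⟨w, rfl⟩; exact hXim _)
    rw [LinearMap.finrank_range_of_inj hinj, Module.finrank_fin_fun] at h1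
    rcases hmk with hlt | ⟨hmk', hε, hσ, h2⟩
    · omega
    -- equal dimensions: the range is all of the moved block and the second factor is scalar
    have hX2 : X * X = 0 := by
      have e1 : X * X * (g : Big) = 0 := by
        rw [Matrix.mul_assoc, hX, ← Matrix.mul_assoc, hX, Matrix.mul_assoc, el_mul, S.h2.dot, hvv,
          zero_smul, Matrix.mul_zero]
      calc X * X = X * X * ((g : Big) * ((g⁻¹ : G) : Big)) := by
            rw [← Units.val_mul, mul_inv_cancel, Units.val_one, Matrix.mul_one]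
        _ = 0 := by rw [← Matrix.mul_assoc, e1, Matrix.zero_mul]
    have hxx : ∀ (p : V1) (w : V2), tens ((a : A1) *ᵥ ((a : A1) *ᵥ p))
        ((b : Matrix (Fin k) (Fin k) F) *ᵥ ((b : Matrix (Fin k) (Fin k) F) *ᵥ w)) -
          (2 : F) • tens ((a : A1) *ᵥ p) ((b : Matrix (Fin k) (Fin k) F) *ᵥ w) + tens p w = 0 := fun p w => by
      have e : (X * X) *ᵥ tens p w = 0 := by rw [hX2, zero_mulVec]
      rw [← e, ← mulVec_mulVec, hXdef, hab, sub_mulVec, sub_mulVec, one_mulVec, one_mulVec, mulVec_sub,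
        kron_mulVec_tens, kron_mulVec_tens]
      module
    obtain ⟨i, hi⟩ := Function.ne_iff.1 (show u ≠ 0 from fun e0 => hu (by simp [e0]))
    obtain ⟨χ, hχ, hχa⟩ := exists_functional hu
    set α := χ ⬝ᵥ (a : A1) *ᵥ ((a : A1) *ᵥ u)
    have hb : ∀ w, α • ((b : Matrix (Fin k) (Fin k) F) *ᵥ ((b : Matrix (Fin k) (Fin k) F) *ᵥ w)) =
        (2 : F) • ((b : Matrix (Fin k) (Fin k) F) *ᵥ w) := fun w => funext fun d => by
      have e : ∀ i, ((a : A1) *ᵥ ((a : A1) *ᵥ u)) i *
          ((b : Matrix (Fin k) (Fin k) F) *ᵥ ((b : Matrix (Fin k) (Fin k) F) *ᵥ w)) d =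
          2 * (((a : A1) *ᵥ u) i * ((b : Matrix (Fin k) (Fin k) F) *ᵥ w) d) - u i * w d := fun i => by
        have := congrFun (hxx u w) (i, d)
        simp only [Pi.add_apply, Pi.sub_apply, Pi.smul_apply, Pi.zero_apply, tens, smul_eq_mul] at this
        linear_combination this
      have e2 : α * ((b : Matrix (Fin k) (Fin k) F) *ᵥ ((b : Matrix (Fin k) (Fin k) F) *ᵥ w)) d =
          2 * ((χ ⬝ᵥ (a : A1) *ᵥ u) * ((b : Matrix (Fin k) (Fin k) F) *ᵥ w) d) - (χ ⬝ᵥ u) * w d := by
        simp only [α, dotProduct, Finset.sum_mul, mul_assoc, e, mul_sub, Finset.sum_sub_distrib, Finset.mul_sum]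
        congr 1
        exact Finset.sum_congr rfl fun j _ => by ring
      rw [hχa, hχ u (Submodule.mem_span_singleton_self u), zero_mul, sub_zero, one_mul] at e2
      exact e2
    have hα : α ≠ 0 := fun e => by
      obtain ⟨p, q, hpq⟩ := S.exists_pair
      have h0 : ∀ w, (b : Matrix (Fin k) (Fin k) F) *ᵥ w = 0 := fun w => by
        have := hb w
        rw [e, zero_smul] at this
        exact (smul_eq_zero.1 this.symm).resolve_left h2
      have := hxx u (Pi.single ⟨0, by omega⟩ 1)
      rw [h0, h0, tens_zero_right, tens_zero_right, smul_zero, sub_zero, zero_add] at this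
      have := congrFun this (i, ⟨0, by omega⟩)
      simp [tens] at this
      exact hi this
    set β := α⁻¹ * 2 with hβ
    have hb1 : ∀ w, (b : Matrix (Fin k) (Fin k) F) *ᵥ w = β • w := fun w => by
      obtain ⟨w', rfl⟩ : ∃ w', (b : Matrix (Fin k) (Fin k) F) *ᵥ w' = w := ⟨_, gl_mulVec_inv b w⟩
      rw [hβ, ← smul_smul, ← hb, inv_smul_smul₀ hα]
    -- the first factor would be a transvection
    set A : A1 := β • (a : A1) - 1 with hA
    have hxA : ∀ (p : V1) w, X *ᵥ tens p w = tens (A *ᵥ p) w := fun p w => by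
      rw [hXdef, hab, sub_mulVec, one_mulVec, kron_mulVec_tens, hb1, hA, sub_mulVec, one_mulVec, smul_mulVec,
        tens_sub_left, tens_smul_left, tens_smul_right]
    have hA0 : A *ᵥ u ≠ 0 := fun e => hu (Submodule.mem_span_singleton.2 ⟨β⁻¹, by
      rw [hA, sub_mulVec, one_mulVec, smul_mulVec, sub_eq_zero] at e
      have hβ0 : β ≠ 0 := mul_ne_zero (inv_ne_zero hα) h2
      conv_lhs => rw [← e]
      rw [inv_smul_smul₀ hβ0]⟩)
    set a0 := A *ᵥ u
    have hRrk : LinearMap.range R = LinearMap.range L := Submodule.eq_of_le_of_finrank_le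
      (by rintro _ ⟨w, rfl⟩; exact hXim _)
      (by rw [LinearMap.finrank_range_of_inj hinj, Module.finrank_fin_fun]; omega)
    have hcol : ∀ p, A *ᵥ p ∈ Submodule.span F {a0} := fun p => by
      obtain ⟨w, hw⟩ : X *ᵥ tens p (Pi.single ⟨0, by omega⟩ 1) ∈ LinearMap.range R := hRrk ▸ hXim _
      have e : tens a0 w = tens (A *ᵥ p) (Pi.single ⟨0, by omega⟩ 1) := (hxA u w).symm.trans (hw.trans (hxA p _))
      refine Submodule.mem_span_singleton.2 ⟨w ⟨0, by omega⟩, funext fun j => ?_⟩
      have := congrFun e (j, ⟨0, by omega⟩)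
      simp only [tens, Pi.single_eq_same, mul_one] at this
      rw [Pi.smul_apply, smul_eq_mul, mul_comm, this]
    choose φ hφ using fun p => Submodule.mem_span_singleton.1 (hcol p)
    have hisoA : ∀ p q, φ p * f₁ a0 q + φ q * f₁ p a0 + φ p * φ q * f₁ a0 a0 = 0 := fun p q => by
      obtain ⟨v1, hv1⟩ := S.h2.exists_one hv
      have hx1 : ∀ p w, (x : Big) *ᵥ tens p w = tens (p + φ p • a0) w := fun p w => by
        rw [show (x : Big) = 1 + X by rw [hXdef, add_sub_cancel], add_mulVec, one_mulVec, hxA, tens_add_left, hφ]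
      have := S.iso x hx (tens p v1) (tens q v)
      rw [hx1, hx1, S.B_tens, S.B_tens, hv1, one_mul, one_mul, S.h1.lin.add_left, S.h1.add_right, S.h1.add_right,
        S.h1.lin.smul_left, S.h1.lin.smul_left, S.h1.smul_right, S.h1.smul_right, hσ] at this
      linear_combination this
    have hsw : ∀ p, f₁ p a0 = f₁ a0 p := fun p => by rw [S.h1.swap a0 p, hε, hσ, one_mul]
    have hφ0 : φ a0 = 0 := by
      have e : A *ᵥ a0 = 0 := by
        obtain ⟨v1, hv1⟩ := Function.ne_iff.1 hv
        have e1 : (X * X) *ᵥ tens u v = 0 := by rw [hX2, zero_mulVec]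
        rw [← mulVec_mulVec, hxA, hxA] at e1
        funext j
        have e2 := congrFun e1 (j, v1)
        simp only [tens, Pi.zero_apply, mul_eq_zero] at e2
        exact e2.resolve_right hv1
      rw [← hφ a0] at e
      exact (smul_eq_zero.1 e).resolve_right hA0
    have hφu : φ u = 1 := by
      have e : (φ u - 1) • a0 = 0 := by rw [sub_smul, hφ, one_smul, sub_self]
      exact sub_eq_zero.1 ((smul_eq_zero.1 e).resolve_right hA0)
    have h00 : f₁ a0 a0 = 0 := by
      have := hisoA u a0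
      rw [hφ0, hφu] at this
      linear_combination this
    have hprod : ∀ p, φ p * f₁ p a0 = 0 := fun p => by
      have := hisoA p p
      rw [← hsw, h00] at this
      exact (mul_eq_zero.1 (show (2 : F) * (φ p * f₁ p a0) = 0 by linear_combination this)).resolve_left h2
    obtain ⟨p, hp⟩ := S.h1.nondeg a0 hA0
    have hp0 : φ p = 0 := (mul_eq_zero.1 (hprod p)).resolve_right hp
    have hu0 : f₁ u a0 = 0 := by simpa [hφu] using hprod u
    have hsum : φ (p + u) = 1 := by
      have e : (φ (p + u) - 1) • a0 = 0 := by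
        rw [sub_smul, hφ, mulVec_add, ← hφ p, hp0, zero_smul, zero_add, one_smul]
        exact sub_self _
      exact sub_eq_zero.1 ((smul_eq_zero.1 e).resolve_right hA0)
    have := hprod (p + u)
    rw [hsum, S.h1.lin.add_left, hu0, add_zero, one_mul] at this
    exact hp this
  set N : Matrix (Fin k) (Fin k) F := μ • (b : Matrix (Fin k) (Fin k) F) - 1 with hN
  have hxN : X = (1 : A1) ⊗ₖ N := by
    rw [hXdef, hab, hμ, smul_kronecker, ← kronecker_smul, hN]
    ext ⟨i, c⟩ ⟨j, d⟩
    by_cases e : i = j <;> simp [kroneckerMap_apply, Matrix.one_apply, e, mul_sub]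
  have hXapp : ∀ (u : V1) w, X *ᵥ tens u w = tens u (N *ᵥ w) := fun u w => by
    rw [hxN, kron_mulVec_tens, one_mulVec]
  -- the second factor has rank one
  have hX0 : X ≠ 0 := fun e => by
    rw [e, Matrix.zero_mul] at hX
    have := gl_cancel g hX.symm
    rw [Matrix.mul_zero] at this
    exact el_one_ne_zero S hv this
  obtain ⟨w1, hw1⟩ : ∃ w1 : V2, N *ᵥ w1 ≠ 0 := by
    by_contra hc
    push Not at hc
    refine hX0 ?_
    rw [hxN, show N = 0 from Matrix.mulVec_injective (funext fun w => by rw [hc w, zero_mulVec]), kronecker_zero]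
  set v' : V2 := N *ᵥ w1
  have hrk : ∀ w, N *ᵥ w ∈ Submodule.span F {v'} := by
    intro w
    by_contra hw
    let R : (V1 × V1) →ₗ[F] (Fin m × Fin k → F) :=
      { toFun := fun p => X *ᵥ (tens p.1 w1 + tens p.2 w)
        map_add' := fun p q => by
          rw [← mulVec_add, Prod.fst_add, Prod.snd_add, tens_add_left, tens_add_left]; congr 1; abel
        map_smul' := fun d p => by
          rw [RingHom.id_apply, ← mulVec_smul, Prod.smul_fst, Prod.smul_snd, tens_smul_left, tens_smul_left,
            smul_add] }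
    have hinj : Function.Injective R := by
      rw [injective_iff_map_eq_zero]
      rintro ⟨p, q⟩ hp
      have hp' : tens p v' + tens q (N *ᵥ w) = 0 := by
        rw [← hXapp, ← hXapp, ← mulVec_add]; exact hp
      obtain ⟨η, hη, hη1⟩ := exists_functional hw
      have h1 := congrArg (ctr η) hp'
      rw [ctr_add, ctr_tens, ctr_tens, hη v' (Submodule.mem_span_singleton_self v'), hη1, zero_smul, one_smul,
        zero_add] at h1
      have hq : q = 0 := h1.trans (by ext i; simp [ctr])
      subst hq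
      rw [tens_zero_left, add_zero] at hp'
      have : p = 0 := tens_injective hw1 (show tens p v' = tens 0 v' by rw [hp', tens_zero_left])
      rw [this]; rfl
    have h1 := Submodule.finrank_mono (show LinearMap.range R ≤ LinearMap.range L by
      rintro _ ⟨p, rfl⟩; exact hXim _)
    rw [LinearMap.finrank_range_of_inj hinj, Module.finrank_prod, Module.finrank_fin_fun] at h1
    omega
  obtain ⟨η, hη⟩ := exists_dot_eq_one hw1
  set ψ : V2 := η ᵥ* N
  have hNψ : ∀ w, N *ᵥ w = (ψ ⬝ᵥ w) • v' := fun w => by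
    obtain ⟨t, ht⟩ := Submodule.mem_span_singleton.1 (hrk w)
    rw [← dotProduct_mulVec, ← ht, dotProduct_smul, hη, smul_eq_mul, mul_one]
  -- isometry
  obtain ⟨p, q, hpq⟩ := S.exists_pair
  have hiso : ∀ w w', f₂ (w + (ψ ⬝ᵥ w) • v') (w' + (ψ ⬝ᵥ w') • v') = f₂ w w' := by
    intro w w'
    have e : ∀ (u : V1) (w : V2), (x : Big) *ᵥ tens u w = tens u (w + (ψ ⬝ᵥ w) • v') := fun u w => by
      rw [show (x : Big) = 1 + X by rw [hXdef, add_sub_cancel], add_mulVec, one_mulVec, hXapp, hNψ,
        tens_add_right]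
    have := S.iso x hx (tens p w) (tens q w')
    rw [e, e, S.B_tens, S.B_tens] at this
    exact mul_right_cancel₀ hpq this
  have hψv : ψ ⬝ᵥ v' = 0 := by
    have h2 : X * X = 0 := by
      have e1 : X * X * (g : Big) = 0 := by
        rw [Matrix.mul_assoc, hX, ← Matrix.mul_assoc, hX, Matrix.mul_assoc, el_mul, S.h2.dot, hvv,
          zero_smul, Matrix.mul_zero]
      calc X * X = X * X * ((g : Big) * ((g⁻¹ : G) : Big)) := by
            rw [← Units.val_mul, mul_inv_cancel, Units.val_one, Matrix.mul_one]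
        _ = 0 := by rw [← Matrix.mul_assoc, e1, Matrix.zero_mul]
    have e : X *ᵥ X *ᵥ tens p w1 = 0 := by rw [mulVec_mulVec, h2, zero_mulVec]
    rw [hXapp, hXapp, show N *ᵥ (N *ᵥ w1) = N *ᵥ v' from rfl, hNψ, tens_smul_right, smul_eq_zero] at e
    refine e.resolve_right fun e' => ?_
    have hp : p ≠ 0 := fun e0 => hpq (by rw [e0, form_zero_left S.h1.lin])
    exact hp (tens_injective hw1 (show tens p v' = tens 0 v' by rw [e', tens_zero_left]))
  have hψ1 : ψ ⬝ᵥ w1 = 1 := by rw [← dotProduct_mulVec]; exact hη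
  have hv'v' : f₂ v' v' = 0 := by
    have h1 := hiso w1 v'
    rw [hψv, zero_smul, add_zero, S.h2.lin.add_left, hψ1, one_smul, add_eq_left] at h1
    exact h1
  have hexp : ∀ w w', (ψ ⬝ᵥ w) * f₂ v' w' + σ (ψ ⬝ᵥ w') * f₂ w v' = 0 := fun w w' => by
    have h1 := hiso w w'
    rw [S.h2.lin.add_left, S.h2.add_right, S.h2.add_right, S.h2.lin.smul_left, S.h2.lin.smul_left,
      S.h2.smul_right, S.h2.smul_right, hv'v', mul_zero, mul_zero, add_zero] at h1
    linear_combination h1
  obtain ⟨y, hy⟩ := S.h2.exists_one hw1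
  have hvy : f₂ v' y = -1 := by rw [S.h2.swap, hy, map_one, mul_one]
  set c : F := σ (ψ ⬝ᵥ y) with hcdef
  have hψc : ∀ w, ψ ⬝ᵥ w = c * f₂ w v' := fun w => by
    have := hexp w y
    rw [hvy] at this
    linear_combination -this
  have hψ : ψ = c • formVec f₂ v' := by
    funext d
    have := hψc (Pi.single d 1)
    rw [dotProduct_single, mul_one] at this
    rw [this, Pi.smul_apply, smul_eq_mul, ← S.h2.dot, dotProduct_single, mul_one]
  refine ⟨c, v', hw1, hv'v', fun e => ?_, ?_⟩
  · have := hψc w1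
    rw [hψ1, e, zero_mul] at this
    exact one_ne_zero this
  · rw [← hX, hxN]
    congr 1
    rw [el, show N = vecMulVec v' ψ from Matrix.mulVec_injective (funext fun w => by
      rw [hNψ, vecMulVec_mulVec, op_smul_eq_smul]), hψ, vecMulVec_smul, kronecker_smul, smul_kronecker]

end Cfsg.Agent.Lib.TensorFormMax.RootKron
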