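import Cfsg.Agent.Lib.TensorFormMax.Algebra

/-!
The geometry of alternating forms used by the tensor product argument.
-/

set_option autoImplicit false

namespace Cfsg.Agent.Lib.TensorFormMax.SympSide

open Matrix
open Cfsg.Agent.Lib.Subspaces.Transvection Cfsg.Agent.Lib.Subspaces.FormVec
  Cfsg.Agent.Lib.TensorFormMax.Basic Cfsg.Agent.Lib.TensorFormMax.Radical
  Cfsg.Agent.Lib.TensorFormMax.Algebra Cfsg.Agent.Lib.TensorFormMax.InvariantAlgebra

variable {F : Type*} [Field F] {n : ℕ} {f : (Fin n → F) → (Fin n → F) → F}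

local notation "Vec" => Fin n → F

/-- An alternating form as a sesquilinear form. -/
theorem sform (hf : Cfsg.Geo.IsSymplecticForm f) : SForm (RingHom.id F) (-1) f where
  invol _ := rfl
  lin := isLinearLeft_of_bilinear hf.bilinear
  swap x y := by rw [hf.skew y x, RingHom.id_apply, neg_one_mul]
  nondeg v hv := (hf.nondegenerate v hv).1

variable [Finite F] (hf : Cfsg.Geo.IsSymplecticForm f)
include hf

/-- A vector with prescribed products. -/
theorem dual {W : Submodule F Vec} {z : Vec} (hz : z ∉ W) : ∃ x, (∀ s ∈ W, f x s = 0) ∧ f x z = 1 := by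
  obtain ⟨φ, hφ, hφz⟩ := exists_functional hz
  obtain ⟨y, hy⟩ := formVec_surjective (sform hf).lin (fun a b c => (sform hf).add_right a b c) hf.nondegenerate φ
  refine ⟨(-1 : F) • y, fun s hs => ?_, ?_⟩
  · rw [hf.bilinear.smul_left, hf.skew, ← (sform hf).dot, hy, hφ s hs]; ring
  · rw [hf.bilinear.smul_left, hf.skew, ← (sform hf).dot, hy, hφz]; ring

omit [Finite F] in
theorem rich : IsoRich f where
  orth l s hl := by
    obtain ⟨v, hv, hvs⟩ := exists_common_zero_not_mem (⊥ : Submodule F Vec) (fun i => formVec f (s i))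
      (by rw [finrank_bot, Fintype.card_fin]; omega)
    exact ⟨v, by simpa using hv, hf.alternating v, fun i => by rw [← (sform hf).dot]; exact hvs i⟩
  avoid v w hv _ h := by
    obtain ⟨a, ha⟩ := exists_smul_of_ker_le ((sform hf).formVec_ne hv) (ψ := formVec f w) fun z hz => by
      rw [(sform hf).dot] at hz ⊢
      exact h z (hf.alternating z) hz
    refine Submodule.mem_span_singleton.2 ⟨a, (sform hf).eq_of_left fun u => ?_⟩
    have e : f u w = a * f u v := by
      rw [← (sform hf).dot, ha, smul_dotProduct, (sform hf).dot, smul_eq_mul]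
    rw [hf.skew _ u, hf.skew w u, hf.bilinear.smul_right, e]

theorem duals : Duals f where
  two v s h := by
    obtain ⟨x, hx, hxv⟩ := dual hf (W := Submodule.span F {s}) (z := v) fun e => by
      obtain ⟨c, hc⟩ := Submodule.mem_span_singleton.1 e
      have hc0 : c ≠ 0 := fun e0 => h.ne (by rw [← hc, e0, zero_smul])
      exact h.indep (Submodule.mem_span_singleton.2 ⟨c⁻¹, by rw [← hc, inv_smul_smul₀ hc0]⟩)
    exact ⟨x, hf.alternating x, hxv, hx s (Submodule.mem_span_singleton_self s)⟩
  three v s r hs hr hn := by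
    have hsn : s ∉ Submodule.span F {v} ⊔ Submodule.span F {r} := fun e => by
      obtain ⟨x, hx, y, hy, hxy⟩ := Submodule.mem_sup.1 e
      obtain ⟨c, rfl⟩ := Submodule.mem_span_singleton.1 hy
      have hc : c ≠ 0 := fun e0 => hs.indep (by rw [e0, zero_smul, add_zero] at hxy; exact hxy ▸ hx)
      refine hn ?_
      rw [show r = c⁻¹ • (s - x) by rw [← hxy, add_sub_cancel_left, inv_smul_smul₀ hc]]
      exact Submodule.smul_mem _ _ (Submodule.sub_mem _
        (Submodule.mem_sup_right (Submodule.mem_span_singleton_self s)) (Submodule.mem_sup_left hx))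
    obtain ⟨x, hx, hxs⟩ := dual hf hsn
    obtain ⟨y, hy, hyr⟩ := dual hf hn
    have hv1 := Submodule.mem_sup_left (T := Submodule.span F {r}) (Submodule.mem_span_singleton_self v)
    have hv2 := Submodule.mem_sup_left (T := Submodule.span F {s}) (Submodule.mem_span_singleton_self v)
    refine ⟨x - y, hf.alternating _, ?_, ?_, ?_⟩
    · rw [(sform hf).sub_left, hx v hv1, hy v hv2, sub_zero]
    · rw [(sform hf).sub_left, hxs, hy s (Submodule.mem_sup_right (Submodule.mem_span_singleton_self s)), sub_zero]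
    · rw [(sform hf).sub_right, hf.skew r x, hx r (Submodule.mem_sup_right (Submodule.mem_span_singleton_self r)),
        hf.skew r y, hyr]
      ring

/-- The data for products along pairs. -/
theorem pairs (hn : 6 ≤ n) (v r : Vec) (h : Pair f v r) :
    ∃ t w s, Pair f t w ∧ Pair f v s ∧ f t v = 0 ∧ f w v = 0 ∧ f r t = 0 ∧ f r w = 1 ∧ f t s = 1 := by
  have hF := sform hf
  obtain ⟨w0, hw0, hw0r⟩ := dual hf h.indep
  set w := (-1 : F) • w0
  have hwv : f w v = 0 := by
    rw [hf.bilinear.smul_left, hw0 v (Submodule.mem_span_singleton_self v), mul_zero]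
  have hrw : f r w = 1 := by rw [hf.skew, hf.bilinear.smul_left, hw0r]; ring
  obtain ⟨t, htn, ht⟩ := exists_common_zero_not_mem (Submodule.span F {v})
    ![formVec f v, formVec f r, formVec f w] (by rw [finrank_span_singleton h.ne, Fintype.card_fin]; omega)
  have htv : f t v = 0 := by rw [← hF.dot]; exact ht 0
  have htr : f t r = 0 := by rw [← hF.dot]; exact ht 1
  have htw : f t w = 0 := by rw [← hF.dot]; exact ht 2
  have ht0 : t ≠ 0 := fun e => htn (by rw [e]; exact Submodule.zero_mem _)
  obtain ⟨s0, hs0, hs0t⟩ := dual hf htn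
  refine ⟨t, w, (-1 : F) • s0, ⟨ht0, hf.alternating t, hf.alternating w, hF.eq_zero_comm htw, fun e => ?_⟩,
    ⟨h.ne, h.left, hf.alternating _, ?_, fun e => ?_⟩, htv, hwv, hF.eq_zero_comm htr, hrw, ?_⟩
  · obtain ⟨c, hc⟩ := Submodule.mem_span_singleton.1 e
    rw [← hc, hf.bilinear.smul_right, hF.eq_zero_comm htr, mul_zero] at hrw
    exact zero_ne_one hrw
  · rw [hf.bilinear.smul_left, hs0 v (Submodule.mem_span_singleton_self v), mul_zero]
  · obtain ⟨c, hc⟩ := Submodule.mem_span_singleton.1 e
    have e1 : f ((-1 : F) • s0) t = c * f v t := by rw [← hc, hf.bilinear.smul_left]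
    rw [hf.bilinear.smul_left, hs0t, hF.eq_zero_comm htv, mul_zero, mul_one] at e1
    exact neg_ne_zero.2 one_ne_zero e1
  · rw [hf.skew, hf.bilinear.smul_left, hs0t]; ring

omit [Finite F] in
theorem span_nonorth {a : Vec} (ha : a ≠ 0) : Submodule.span F {b | f b b = 0 ∧ f b a ≠ 0} = ⊤ := by
  refine eq_top_iff.2 fun z _ => ?_
  obtain ⟨b, hb⟩ := (sform hf).nondeg a ha
  by_cases hz : f z a = 0
  · have h1 : z + b ∈ Submodule.span F {b | f b b = 0 ∧ f b a ≠ 0} :=
      Submodule.subset_span ⟨hf.alternating _, by rw [hf.bilinear.add_left, hz, zero_add]; exact hb⟩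
    have := Submodule.sub_mem _ h1 (Submodule.subset_span ⟨hf.alternating b, hb⟩)
    rwa [add_sub_cancel_right] at this
  · exact Submodule.subset_span ⟨hf.alternating z, hz⟩

omit [Finite F] in
/-- A normalised subalgebra which is not scalar has no common eigenvector. -/
theorem no_line (hn : 2 ≤ n) (hex : 3 ≤ n ∨ ∃ c : F, c ≠ 0 ∧ c ≠ 1)
    (S : Subalgebra F (Matrix (Fin n) (Fin n) F)) (hinv : Invariant f S)
    (hns : ∃ A ∈ S, ∀ c : F, A ≠ c • 1) (w : Vec) (hw : w ≠ 0) :
    ¬ ∀ A ∈ S, A *ᵥ w ∈ Submodule.span F {w} := by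
  intro hline
  have hF := sform hf
  obtain ⟨A, hA, hAs⟩ := hns
  obtain ⟨χ, hχ⟩ := Submodule.mem_span_singleton.1 (hline A hA)
  have hmove : ∀ (x : Vec) (c : F), f w x ≠ 0 → c ≠ 0 → ∃ μ : F, A *ᵥ (w + c • x) = μ • (w + c • x) := by
    intro x c hx hc
    set d := c / f w x
    have hd : (-1 : F) * d + (RingHom.id F) d = 0 := by rw [RingHom.id_apply]; ring
    have e : tmat f x d *ᵥ w = w + c • x := by
      rw [tmat_mulVec hF, div_mul_cancel₀ _ hx]
    obtain ⟨μ, hμ⟩ := Submodule.mem_span_singleton.1 (hline _ (conj_tmat hF S hinv (hf.alternating x)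
      (show (-1 : F) * -d + (RingHom.id F) (-d) = 0 by rw [RingHom.id_apply]; ring) hA))
    refine ⟨μ, ?_⟩
    rw [← e, ← mulVec_smul, hμ, neg_neg, ← mulVec_mulVec, ← mulVec_mulVec, mulVec_mulVec _ (tmat f x d),
      tmat_mul hF (hf.alternating x), add_neg_cancel, tmat_zero hF, one_mulVec]
  -- the vectors not orthogonal to `w` are eigenvectors
  have hscal : ∀ x, f w x ≠ 0 → A *ᵥ x = χ • x := by
    intro x hx
    have hxw : x ∉ Submodule.span F {w} := fun e => by
      obtain ⟨c, hc⟩ := Submodule.mem_span_singleton.1 e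
      rw [← hc, hf.bilinear.smul_right, hf.alternating, mul_zero] at hx
      exact hx rfl
    by_cases h3 : 3 ≤ n
    · have heig : ∀ y, f w y ≠ 0 → ∃ μ : F, A *ᵥ y = μ • y := fun y hy => by
        obtain ⟨μ, hμ⟩ := hmove (y - w) 1 (by rw [hF.sub_right, hf.alternating, sub_zero]; exact hy) one_ne_zero
        rw [one_smul, add_sub_cancel] at hμ
        exact ⟨μ, hμ⟩
      obtain ⟨α, hα⟩ := heig x hx
      -- a second vector orthogonal to `w`
      obtain ⟨z, hz, hzw⟩ := exists_common_zero_not_mem (Submodule.span F {w}) ![formVec f w]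
        (by rw [finrank_span_singleton hw, Fintype.card_fin]; omega)
      have hwz : f w z = 0 := hF.eq_zero_comm (by rw [← hF.dot]; exact hzw 0)
      obtain ⟨α1, h1⟩ := heig (x + w) (by rw [hf.bilinear.add_right, hf.alternating, add_zero]; exact hx)
      obtain ⟨α2, h2⟩ := heig (x + z) (by rw [hf.bilinear.add_right, hwz, add_zero]; exact hx)
      obtain ⟨β, h12⟩ := heig (x + w + z) (by
        rw [hf.bilinear.add_right, hf.bilinear.add_right, hwz, hf.alternating, add_zero, add_zero]; exact hx)
      rw [mulVec_add, hα, ← hχ] at h1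
      rw [mulVec_add, hα] at h2
      rw [mulVec_add, mulVec_add, hα, ← hχ] at h12
      have hind : ∀ p q r : F, p • x + q • w + r • z = 0 → p = 0 ∧ q = 0 ∧ r = 0 := by
        intro p q r h
        have hp : p = 0 := by
          have e := congrArg (f w) h
          rw [hf.bilinear.add_right, hf.bilinear.add_right, hf.bilinear.smul_right, hf.bilinear.smul_right,
            hf.bilinear.smul_right, hf.alternating, hwz, hF.zero_right, mul_zero, mul_zero, add_zero,
            add_zero] at e
          exact (mul_eq_zero.1 e).resolve_right hx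
        subst hp
        rw [zero_smul, zero_add] at h
        by_cases hr : r = 0
        · subst hr
          rw [zero_smul, add_zero, smul_eq_zero] at h
          exact ⟨rfl, h.resolve_right hw, rfl⟩
        · exfalso
          refine hz (Submodule.mem_span_singleton.2 ⟨-(r⁻¹ * q), ?_⟩)
          have e : r • z = -(q • w) := eq_neg_of_add_eq_zero_right h
          rw [neg_smul, ← smul_smul, ← smul_neg, ← e, inv_smul_smul₀ hr]
      obtain ⟨e1, e2, -⟩ := hind (α - α1) (χ - α1) 0 (by linear_combination (norm := module) h1)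
      obtain ⟨e3, e4, e5⟩ := hind (α2 - β) (χ - β) (α2 - β) (by linear_combination (norm := module) h12 - h2)
      rw [hα, sub_eq_zero.1 e1, ← sub_eq_zero.1 e2]
    · obtain ⟨c, hc, hc1⟩ := hex.resolve_left h3
      obtain ⟨μ, hμ⟩ := hmove x 1 hx one_ne_zero
      obtain ⟨ν, hν⟩ := hmove x c hx hc
      exact eig3 hxw hw one_ne_zero hc hc1.symm hχ.symm hμ hν
  apply hAs χ
  refine Matrix.mulVec_injective (funext fun z => ?_)
  rw [smul_mulVec, one_mulVec]
  obtain ⟨x, hx⟩ := (sform hf).nondeg w hw
  have hwx : f w x ≠ 0 := fun e => hx (hF.eq_zero_comm e)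
  by_cases hz : f w z = 0
  · have h1 := hscal (x + z) (by rw [hf.bilinear.add_right, hz, add_zero]; exact hwx)
    rw [mulVec_add, hscal x hwx, smul_add] at h1
    exact add_left_cancel h1
  · exact hscal z hz

end Cfsg.Agent.Lib.TensorFormMax.SympSide
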