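import Cfsg.Agent.Lib.TensorFormMax.UnitSide
import Cfsg.Agent.Lib.TensorFormMax.BlkKron

/-!
Two hermitian factors: the data, and the transvection centres of an overgroup whose coefficient algebra is full.
-/

set_option autoImplicit false

namespace Cfsg.Agent.Lib.TensorFormMax.UnitFull

open Matrix Kronecker
open Cfsg.Agent.Lib.Subspaces.Transvection Cfsg.Agent.Lib.Subspaces.FormVec
  Cfsg.Agent.Lib.Subspaces.UnitaryForm
  Cfsg.Agent.Lib.TensorMax.Block Cfsg.Agent.Lib.TensorMax.Lemmas Cfsg.Agent.Lib.TensorFormMax.Basic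
  Cfsg.Agent.Lib.TensorFormMax.Radical Cfsg.Agent.Lib.TensorFormMax.Algebra
  Cfsg.Agent.Lib.TensorFormMax.UnitSide

variable {F : Type*} [Field F] {m k : ℕ}

local notation "V1" => Fin m → F
local notation "V2" => Fin k → F
local notation "Vec" => Fin m × Fin k → F
local notation "Big" => Matrix (Fin m × Fin k) (Fin m × Fin k) F
local notation "A1" => Matrix (Fin m) (Fin m) F
local notation "G" => GL (Fin m × Fin k) F

/-- An overgroup of the stabiliser of a tensor product of two hermitian forms. -/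
structure Data (σ : F ≃+* F) (e0 : F) (f₁ : (Fin m → F) → (Fin m → F) → F)
    (f₂ : (Fin k → F) → (Fin k → F) → F) (B : (Fin m × Fin k → F) → (Fin m × Fin k → F) → F)
    (M : Subgroup (GL (Fin m × Fin k) F)) : Prop where
  u1 : Cfsg.Geo.IsUnitaryForm σ f₁
  u2 : Cfsg.Geo.IsUnitaryForm σ f₂
  hN : ∀ r : F, σ r = r → ∃ c, c * σ c = r
  he0 : e0 ≠ 0
  hσe0 : σ e0 = -e0
  lin : IsLinearLeft B
  addR : ∀ x y z, B x (y + z) = B x y + B x z
  Bswap : ∀ x y, B y x = -σ (B x y)
  hB : ∀ z u w, B z (tens u w) = f₁ (ctr (formVec (scaled e0 f₂) w) z) u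
  iso : ∀ g ∈ M, ∀ x y, B ((g : Big) *ᵥ x) ((g : Big) *ᵥ y) = B x y
  stab : ∀ g : GL (Fin m × Fin k) F, g ∈ Cfsg.Geo.kroneckerSubgroup m k F → (g : Big).det = 1 →
    (∀ x y, B ((g : Big) *ᵥ x) ((g : Big) *ᵥ y) = B x y) → g ∈ M
  hm : 2 ≤ m
  hk : 4 ≤ k

variable {σ : F ≃+* F} {e0 : F} {f₁ : (Fin m → F) → (Fin m → F) → F}
  {f₂ : (Fin k → F) → (Fin k → F) → F} {B : (Fin m × Fin k → F) → (Fin m × Fin k → F) → F}
  {M : Subgroup (GL (Fin m × Fin k) F)} (D : Data σ e0 f₁ f₂ B M)

namespace Data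

include D

theorem smulR (c : F) (x y : Vec) : B x (c • y) = σ c * B x y := by
  rw [D.Bswap, D.lin.smul_left, map_mul, D.Bswap y x]; ring

theorem zeroR (x : Vec) : B x 0 = 0 := by
  rw [← zero_smul F x, D.smulR, map_zero, zero_mul]

theorem subR (x y z : Vec) : B x (y - z) = B x y - B x z := by
  rw [eq_sub_iff_add_eq, ← D.addR, sub_add_cancel]

theorem kron_left (g : A1) (φ : V2) (z : Vec) :
    ctr φ ((g ⊗ₖ (1 : Matrix (Fin k) (Fin k) F)) *ᵥ z) = g *ᵥ ctr φ z := by
  have _ := D.hm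
  funext i
  simp only [ctr, mulVec, dotProduct, kroneckerMap_apply, Matrix.one_apply, Fintype.sum_prod_type, mul_ite, mul_one,
    mul_zero, ite_mul, zero_mul, Finset.sum_ite_eq, Finset.mem_univ, if_true, Finset.mul_sum]
  rw [Finset.sum_comm]
  exact Finset.sum_congr rfl fun j _ => Finset.sum_congr rfl fun c _ => by ring

/-- An isometry of the first factor of determinant one. -/
theorem left_mem {g g' : A1} (_hgg : g * g' = 1) (hd : g.det = 1) (hiso : ∀ x y, f₁ (g *ᵥ x) (g *ᵥ y) = f₁ x y) :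
    ∃ h ∈ M, (h : Big) = g ⊗ₖ (1 : Matrix (Fin k) (Fin k) F) := by
  have hdK : (g ⊗ₖ (1 : Matrix (Fin k) (Fin k) F)).det = 1 := by
    rw [det_kronecker, hd, one_pow, one_mul, det_one, one_pow]
  let h : G := GeneralLinearGroup.mkOfDetNeZero _ (by rw [hdK]; exact one_ne_zero :
    (g ⊗ₖ (1 : Matrix (Fin k) (Fin k) F)).det ≠ 0)
  refine ⟨h, D.stab h ⟨GeneralLinearGroup.mkOfDetNeZero g (by rw [hd]; exact one_ne_zero), 1, rfl⟩ hdK
    fun x y => ?_, rfl⟩
  show B ((g ⊗ₖ (1 : Matrix (Fin k) (Fin k) F)) *ᵥ x) ((g ⊗ₖ (1 : Matrix (Fin k) (Fin k) F)) *ᵥ y) = B x y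
  conv_lhs => arg 2; rw [← sum_tens_slice y, mulVec_sum]
  conv_rhs => rw [← sum_tens_slice y]
  let L : ∀ x, Vec →+ F := fun x => AddMonoidHom.mk' (B x) (D.addR x)
  show L _ _ = L _ _
  rw [map_sum, map_sum]
  refine Finset.sum_congr rfl fun i _ => ?_
  show B _ _ = B _ _
  rw [kron_mulVec_tens, one_mulVec, D.hB, D.hB, D.kron_left, hiso]

theorem root (v : V2) (c : F) (hv : scaled e0 f₂ v v = 0) (hc : σ c = c) :
    InM M (el (c • (1 : A1)) v (formVec (scaled e0 f₂) v)) := by
  have h2 := sform_scaled D.u2 D.he0 D.hσe0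
  set φ := formVec (scaled e0 f₂) v
  have h : φ ⬝ᵥ (c • v) = 0 := by rw [dotProduct_smul, h2.dot, hv, smul_zero]
  let g : G := kronGL 1 (tv (c • v) φ)
  have hg : (g : Big) = 1 + el (c • (1 : A1)) v φ := by
    show ((1 : GL (Fin m) F) : A1) ⊗ₖ (tv (c • v) φ : Matrix (Fin k) (Fin k) F) = _
    rw [coe_tv h, Units.val_one, kronecker_add, one_kronecker_one, el, smul_kronecker, ← kronecker_smul,
      ← smul_vecMulVec]
  refine ⟨g, D.stab g (kronGL_mem _ _) ?_ fun x y => ?_, hg⟩
  · show (((1 : GL (Fin m) F) : A1) ⊗ₖ (tv (c • v) φ : Matrix (Fin k) (Fin k) F)).det = 1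
    rw [det_kronecker, det_tv, one_pow, mul_one, Units.val_one, det_one, one_pow]
  · rw [hg, add_mulVec, add_mulVec, one_mulVec, one_mulVec, scalar_el_mulVec, scalar_el_mulVec, D.lin.add_left,
      D.addR, D.addR, D.hB x, D.hB (tens _ v), D.Bswap y (tens _ v), D.hB y, ctr_tens, h2.dot, hv, zero_smul,
      herm_zero_left D.u1, smul_right D.u1, smul_right D.u1, map_mul, D.u1.involutive, ← D.u1.herm, hc]
    ring

theorem setting [Finite F] : Setting (σ : F →+* F) 1 f₁ (scaled e0 f₂) B M where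
  h1 := UnitSide.sform D.u1
  h2 := sform_scaled D.u2 D.he0 D.hσe0
  rich := UnitSide.rich D.u2 D.hN D.he0 D.hk
  lin := D.lin
  addR := D.addR
  Bswap x y := by rw [D.Bswap x y]; simp
  hB := D.hB
  iso := D.iso
  root := D.root
  hm := D.hm
  hk := by have := D.hk; omega

/-- A diagonal element of the second factor on a hyperbolic frame. -/
theorem exists_torus [Finite F] (hk4 : k = 4) {v s r : V2} (hs : Pair f₂ v s) (hr : Pair f₂ v r)
    (hn : r ∉ Submodule.span F {v} ⊔ Submodule.span F {s}) {l : F} (hl : l ≠ 0) :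
    f₂ r s ≠ 0 ∧ ∃ g ∈ M, (∀ a : V1, (g : Big) *ᵥ tens a v = tens a (l • v)) ∧
      ∀ a : V1, (g : Big) *ᵥ tens a s = tens a (σ l • s) := by
  classical
  have hf := D.u2
  -- the partner of `v`
  have hv' : v ∉ Submodule.span F ({s} ∪ {r} : Set V2) := fun e => by
    rw [Submodule.span_union] at e
    obtain ⟨x, hx, y, hy, hxy⟩ := Submodule.mem_sup.1 e
    obtain ⟨b, rfl⟩ := Submodule.mem_span_singleton.1 hy
    rcases eq_or_ne b 0 with rfl | hb
    · rw [zero_smul, add_zero] at hxy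
      obtain ⟨a, rfl⟩ := Submodule.mem_span_singleton.1 hx
      have ha : a ≠ 0 := fun e0 => hs.ne (by rw [← hxy, e0, zero_smul])
      exact hs.indep (Submodule.mem_span_singleton.2 ⟨a⁻¹, by rw [← hxy, inv_smul_smul₀ ha]⟩)
    · refine hn ?_
      rw [show r = b⁻¹ • (v - x) by rw [← hxy, add_sub_cancel_left, inv_smul_smul₀ hb]]
      exact Submodule.smul_mem _ _ (Submodule.sub_mem _
        (Submodule.mem_sup_left (Submodule.mem_span_singleton_self v)) (Submodule.mem_sup_right hx))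
  obtain ⟨w0, hw0, hw0v⟩ := dual_right hf hv'
  have hw0s : f₂ w0 s = 0 := hw0 s (Submodule.subset_span (Or.inl rfl))
  have hw0r : f₂ w0 r = 0 := hw0 r (Submodule.subset_span (Or.inr rfl))
  have hvs : f₂ v s = 0 := swap_eq_zero hf hs.orth
  have hvr : f₂ v r = 0 := swap_eq_zero hf hr.orth
  obtain ⟨c, hc⟩ := exists_shift hf D.hN (t := w0) (p := v)
    (Or.inr fun e => one_ne_zero (hw0v.symm.trans (swap_eq_zero hf e)))
  set w := w0 + c • v with hw
  have hwv : f₂ w v = 1 := by rw [hw, hf.add_left, hf.smul_left, hw0v, hs.left, mul_zero, add_zero]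
  have hws : f₂ w s = 0 := by rw [hw, hf.add_left, hf.smul_left, hw0s, hvs, mul_zero, add_zero]
  have hwr : f₂ w r = 0 := by rw [hw, hf.add_left, hf.smul_left, hw0r, hvr, mul_zero, add_zero]
  have hvw : f₂ v w = 1 := by rw [hf.herm v w, hwv, map_one]
  have hsw : f₂ s w = 0 := swap_eq_zero hf hws
  have hrw : f₂ r w = 0 := swap_eq_zero hf hwr
  set β := f₂ r s with hβ
  have hsr : f₂ s r = σ β := hf.herm s r
  let bv : Fin 4 → V2 := ![v, w, s, r]
  have hind : LinearIndependent F bv := by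
    rw [Fintype.linearIndependent_iff]
    intro g hg
    simp only [Fin.sum_univ_four, bv, Matrix.cons_val_zero, Matrix.cons_val_one, Matrix.cons_val] at hg
    have h1 : g 1 = 0 := by
      have e := congrArg (fun x => f₂ x v) hg
      simp only [hf.add_left, hf.smul_left, hs.left, hwv, hs.orth, hr.orth, herm_zero_left hf, mul_zero,
        mul_one, add_zero, zero_add] at e
      exact e
    rw [h1, zero_smul, add_zero] at hg
    have h3 : g 3 = 0 := by
      by_contra h3
      refine hn ?_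
      rw [show r = (g 3)⁻¹ • ((-g 0) • v + (-g 2) • s) by
        rw [eq_inv_smul_iff₀ h3]; linear_combination (norm := module) hg]
      exact Submodule.smul_mem _ _ (Submodule.add_mem _
        (Submodule.mem_sup_left (Submodule.smul_mem _ _ (Submodule.mem_span_singleton_self v)))
        (Submodule.mem_sup_right (Submodule.smul_mem _ _ (Submodule.mem_span_singleton_self s))))
    rw [h3, zero_smul, add_zero] at hg
    have h2 : g 2 = 0 := by
      by_contra h2
      refine hs.indep (Submodule.mem_span_singleton.2 ⟨(g 2)⁻¹ * -g 0, ?_⟩)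
      rw [← smul_smul, inv_smul_eq_iff₀ h2]
      linear_combination (norm := module) -hg
    rw [h2, zero_smul, add_zero, smul_eq_zero, or_iff_left hs.ne] at hg
    intro i
    fin_cases i
    exacts [hg, h1, h2, h3]
  let bb : Module.Basis (Fin 4) F V2 := basisOfLinearIndependentOfCardEqFinrank hind (by simp [hk4])
  have hbb : ∀ i, bb i = bv i := fun i => by simp [bb]
  have hform : ∀ a b : Fin 4 → F, f₂ (∑ i, a i • bv i) (∑ i, b i • bv i) =
      a 0 * σ (b 1) + a 1 * σ (b 0) + a 2 * σ (b 3) * σ β + a 3 * σ (b 2) * β := fun a b => by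
    simp only [Fin.sum_univ_four, bv, Matrix.cons_val_zero, Matrix.cons_val_one, Matrix.cons_val,
      hf.add_left, hf.smul_left, Subspaces.UnitaryForm.add_right hf, Subspaces.UnitaryForm.smul_right hf,
      hs.left, hs.right, hr.right, hc, hwv, hvw, hws, hwr, hsw, hrw, hvs, hvr, hs.orth, hr.orth, hsr, ← hβ]
    ring
  have hβ0 : β ≠ 0 := by
    intro e
    have hs0 : s ≠ 0 := fun e0 => hs.indep (by rw [e0]; exact Submodule.zero_mem _)
    refine hs0 (eq_zero_of_left hf fun x => ?_)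
    rw [show s = ∑ i, (Pi.single 2 1 : Fin 4 → F) i • bv i by simp [bv, Pi.single_apply],
      ← bb.sum_repr x, Finset.sum_congr rfl fun i _ => by rw [hbb i], hform]
    simp [e]
  refine ⟨hβ0, ?_⟩
  have hσl : σ l ≠ 0 := by simpa using hl
  let d : Fin 4 → F := ![l, (σ l)⁻¹, σ l, l⁻¹]
  let L : V2 →ₗ[F] V2 := bb.constr F fun i => d i • bv i
  have hLb : ∀ i, L (bv i) = d i • bv i := fun i => by rw [← hbb, bb.constr_basis, hbb]
  have hLdet : LinearMap.det L = 1 := by
    rw [← LinearMap.det_toMatrix bb,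
      show LinearMap.toMatrix bb bb L = Matrix.diagonal d from Matrix.ext fun i j => by
        rw [LinearMap.toMatrix_apply, hbb, hLb, map_smul, ← hbb, bb.repr_self, Finsupp.smul_apply,
          Matrix.diagonal_apply, Finsupp.single_apply, smul_eq_mul]
        split_ifs <;> simp_all, Matrix.det_diagonal, Fin.prod_univ_four]
    simp [d, hl, hσl]
  have hLiso : ∀ x y, f₂ (L x) (L y) = f₂ x y := fun x y => by
    have he : ∀ x, ∃ a : Fin 4 → F, x = ∑ i, a i • bv i ∧ L x = ∑ i, (d i * a i) • bv i := fun x =>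
      ⟨fun i => bb.repr x i, (bb.sum_repr x).symm.trans (Finset.sum_congr rfl fun i _ => by rw [hbb i]),
        by
          conv_lhs => rw [← bb.sum_repr x, map_sum]
          refine Finset.sum_congr rfl fun i _ => ?_
          rw [map_smul, hbb, hLb, smul_smul, mul_comm]⟩
    obtain ⟨a, ha, ha'⟩ := he x
    obtain ⟨b, hb, hb'⟩ := he y
    rw [ha', hb', hform, ha, hb, hform]
    simp [d, map_mul, map_inv₀, hf.involutive]
    field_simp
  set N := LinearMap.toMatrix' L with hN
  have hNd : N.det = 1 := by rw [hN, LinearMap.det_toMatrix', hLdet]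
  let Ng : GL (Fin k) F := GeneralLinearGroup.mkOfDetNeZero N (by rw [hNd]; exact one_ne_zero)
  let g : G := kronGL 1 Ng
  have hgval : (g : Big) = (1 : A1) ⊗ₖ N := by
    show ((1 : GL (Fin m) F) : A1) ⊗ₖ (Ng : Matrix (Fin k) (Fin k) F) = _
    rw [Units.val_one]; rfl
  have hgt : ∀ a w, (g : Big) *ᵥ tens a w = tens a (L w) := fun a w => by
    rw [hgval, kron_mulVec_tens, one_mulVec, hN, LinearMap.toMatrix'_mulVec]
  have hctr : ∀ (x : Vec) (w : V2), ctr (formVec (scaled e0 f₂) (L w)) ((g : Big) *ᵥ x) =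
      ctr (formVec (scaled e0 f₂) w) x := fun x w => by
    funext i
    rw [ctr_eq_dot, ctr_eq_dot, (sform_scaled hf D.he0 D.hσe0).dot, (sform_scaled hf D.he0 D.hσe0).dot,
      show slice ((g : Big) *ᵥ x) i = L (slice x i) by
        rw [← LinearMap.toMatrix'_mulVec L, hgval, ← hN]
        funext d
        simp [slice, mulVec, dotProduct, Fintype.sum_prod_type, Matrix.one_apply]]
    simp only [scaled, hLiso]
  refine ⟨g, D.stab g (kronGL_mem _ _) ?_ fun x y => ?_, fun a => ?_, fun a => ?_⟩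
  · rw [hgval, det_kronecker, det_one, one_pow, one_mul, hNd, one_pow]
  · conv_lhs => arg 2; rw [← sum_tens_slice y, mulVec_sum]
    conv_rhs => rw [← sum_tens_slice y]
    let Lx : ∀ x, Vec →+ F := fun x => AddMonoidHom.mk' (B x) (D.addR x)
    show Lx _ _ = Lx _ _
    rw [map_sum, map_sum]
    refine Finset.sum_congr rfl fun i _ => ?_
    show B _ _ = B _ _
    rw [hgt, D.hB, D.hB, hctr]
  · rw [hgt]; exact congrArg _ (hLb 0)
  · rw [hgt]; exact congrArg _ (hLb 2)

/-- The sliding of the second vector of a pair, also for four-dimensional second factors. -/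
theorem slides [Finite F] : Slides (scaled e0 f₂) M := by
  have S := D.setting
  by_cases h5 : 5 ≤ k
  · exact (UnitSide.duals D.u2 D.hN D.he0 h5).slides S
  have hk4 : k = 4 := by have := D.hk; omega
  refine ⟨fun v s h => ?_, fun v s r A hs hr hn h => ?_⟩
  · obtain ⟨w, hw, hwv, hws⟩ := dual_two D.u2 D.hN (pair_of_scaled D.he0 h) e0⁻¹
    exact ⟨w, (scaled_eq_zero D.he0).2 hw, by rw [scaled, hwv, mul_inv_cancel₀ D.he0],
      (scaled_eq_zero D.he0).2 hws⟩
  have hs' := pair_of_scaled D.he0 hs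
  have hr' := pair_of_scaled D.he0 hr
  obtain ⟨hβ, -⟩ := D.exists_torus hk4 hs' hr' hn one_ne_zero
  set γ := scaled e0 f₂ r s with hγ
  have hγ0 : γ ≠ 0 := mul_ne_zero D.he0 hβ
  let P : AddSubgroup F :=
    { carrier := {c | Has (scaled e0 f₂) M v (c • A) s}
      zero_mem' := by show Has _ M v _ s; rw [zero_smul]; exact has_zero S v s
      add_mem' := fun {a b} ha hb => by show Has _ M v _ s; rw [add_smul]; exact Has.add S ha hb
      neg_mem' := fun {a} ha => by
        obtain ⟨x, hx, hA⟩ := (ha : Has (scaled e0 f₂) M v (a • A) s)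
        refine ⟨x⁻¹, M.inv_mem hx, fun u => inv_fix S hA.1 u, fun z hz => ?_⟩
        rw [Acts.inv S hs.left hA hz]
        dsimp only
        rw [neg_smul, neg_mulVec, ← neg_one_smul F ((a • A) *ᵥ _), tens_smul_left, neg_one_smul,
          sub_eq_add_neg] }
  have hsq : ∀ l : F, l * l ∈ P := fun l => by
    rcases eq_or_ne l 0 with rfl | hl
    · rw [mul_zero]; exact P.zero_mem
    obtain ⟨-, g, hg, hgv, hgs⟩ := D.exists_torus hk4 hs' hr' hn hl
    obtain ⟨x, hx, hA⟩ := Has.move S h hg hgv hgs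
    have hσl : σ l ≠ 0 := by simpa using hl
    have h1 : Has (scaled e0 f₂) M v (l • A) (σ l • s) := by
      refine ⟨x, hx, fun u => ?_, fun z hz => ?_⟩
      · have e := hA.1 (l⁻¹ • u)
        rwa [tens_smul_left, tens_smul_right, inv_smul_smul₀ hl] at e
      · rw [hA.2 z (by rw [ctr_smul_vec S, hz, smul_zero])]
        dsimp only
        rw [smul_mulVec, tens_smul_right, tens_smul_left]
    have h2 := Has.of_smul S h1
    rw [RingEquiv.coe_toRingHom, D.u2.involutive, smul_smul] at h2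
    exact h2
  have hall : ∀ c : F, c ∈ P := fun c => by
    by_cases h2 : (2 : F) = 0
    · obtain ⟨y, hy⟩ := FiniteField.isSquare_of_char_two
        (ringChar.eq_iff.2 (CharTwo.of_one_ne_zero_of_two_eq_zero one_ne_zero h2)) c
      rw [hy]; exact hsq y
    · have : c = (c + 1) / 2 * ((c + 1) / 2) - (c - 1) / 2 * ((c - 1) / 2) := by field_simp; ring
      rw [this]; exact P.sub_mem (hsq _) (hsq _)
  have h3 := Has.slide S hs.ne hs.left hr.right hr.orth (hall γ⁻¹ : Has (scaled e0 f₂) M v (γ⁻¹ • A) s)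
  rwa [← hγ, smul_smul, mul_inv_cancel₀ hγ0, one_smul] at h3

theorem exists_moving : ∃ c : F, (σ : F →+* F) c ≠ c := by
  by_contra h
  push Not at h
  exact D.u1.ne_refl (RingEquiv.ext h)

/-- Outside the rigid case every coefficient occurs. -/
theorem allHas_all [Finite F] (hG : ¬ NoRadical (scaled e0 f₂) M)
    (hex : 3 ≤ m ∨ ∃ r : F, σ r = r ∧ r ≠ 0 ∧ r ≠ 1) : ∀ A : A1, AllHas (scaled e0 f₂) M A := by
  have S := D.setting
  have hD := D.slides
  have hmul : ∀ {A C : A1}, AllHas (scaled e0 f₂) M A → AllHas (scaled e0 f₂) M C →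
      AllHas (scaled e0 f₂) M (A * C) := fun hA hC => allHas_mul_of_sigma S hD D.exists_moving hA hC
  set C := coeff S hD hmul
  have hinv := coeff_invariant S hD hmul fun g g' h1 h2 h3 => D.left_mem h1 h2 h3
  obtain ⟨A, hA, hAall⟩ := exists_nonscalar S hD hG
  obtain ⟨e, he, he'⟩ := exists_skew_scalar D.u1
  have htop : C = ⊤ := InvariantAlgebra.eq_top (UnitSide.sform D.u1) hinv D.hm
    (fun a ha haa => span_nonorth D.u1 ha haa) (by
      obtain ⟨v, hv, hvv, -⟩ := exists_iso_orth D.u1 D.hN (![] : Fin 0 → V1) (by simpa using D.hm)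
      exact ⟨v, hv, hvv⟩) ⟨e, he, by rw [one_mul]; exact he'⟩
    (hex.imp_right fun ⟨r, hr, hr0, hr1⟩ => ⟨e, r * e, he, mul_ne_zero hr0 he,
      fun h => hr1 (mul_right_cancel₀ he (by rw [one_mul]; exact h.symm)),
      by rw [one_mul]; exact he', by
        show 1 * (r * e) + σ (r * e) = 0
        rw [map_mul, hr]; linear_combination r * he'⟩)
    fun w hw => no_line D.u1 D.hN D.hm hex C hinv ⟨A, hAall, hA⟩ w hw
  exact fun X => (htop ▸ Algebra.mem_top : X ∈ C)

/-- All transvections with a given centre lie in the group. -/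
def Ctr (_D : Data σ e0 f₁ f₂ B M) (x : Vec) : Prop :=
  B x x = 0 ∧ ∀ γ : F, σ γ = γ → ∃ g ∈ M, ∀ z, (g : Big) *ᵥ z = z + (γ * B z x) • x

theorem B_move {g : G} (hg : g ∈ M) (z w : Vec) :
    B (((g⁻¹ : G) : Big) *ᵥ z) w = B z ((g : Big) *ᵥ w) := by
  rw [← D.iso g hg, gl_mulVec_inv]

theorem ctr_conj {x : Vec} (h : D.Ctr x) {g : G} (hg : g ∈ M) : D.Ctr ((g : Big) *ᵥ x) := by
  refine ⟨by rw [D.iso g hg, h.1], fun γ hγ => ?_⟩
  obtain ⟨t, ht, htz⟩ := h.2 γ hγ
  refine ⟨g * t * g⁻¹, M.mul_mem (M.mul_mem hg ht) (M.inv_mem hg), fun z => ?_⟩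
  rw [gl_mul_mulVec, gl_mul_mulVec, htz, mulVec_add, gl_mulVec_inv, mulVec_smul, D.B_move hg]

theorem ctr_smul' {x : Vec} (h : D.Ctr x) (t : F) : D.Ctr (t • x) := by
  refine ⟨by rw [D.lin.smul_left, D.smulR, h.1]; ring, fun γ hγ => ?_⟩
  obtain ⟨g, hg, hgz⟩ := h.2 (γ * (t * σ t)) (by rw [map_mul, map_mul, hγ, D.u1.involutive]; ring)
  exact ⟨g, hg, fun z => by rw [hgz, D.smulR, smul_smul]; congr 2; ring⟩

/-- The vectors whose Eichler transformations at `p` lie in the group. -/
def eich (D : Data σ e0 f₁ f₂ B M) (p : Vec) : AddSubgroup Vec where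
  carrier := {w | B w p = 0 ∧ ∃ g ∈ M, (g : Big) *ᵥ p = p ∧ ∀ z, B z p = 0 → (g : Big) *ᵥ z = z + B z w • p}
  zero_mem' := ⟨form_zero_left D.lin p, 1, M.one_mem, by rw [Units.val_one, one_mulVec], fun z _ => by
    rw [D.zeroR, zero_smul, add_zero, Units.val_one, one_mulVec]⟩
  add_mem' := by
    rintro w w' ⟨hw, g, hg, hgp, hgz⟩ ⟨hw', g', hg', hgp', hgz'⟩
    refine ⟨by rw [D.lin.add_left, hw, hw', add_zero], g * g', M.mul_mem hg hg', by
      rw [gl_mul_mulVec, hgp', hgp], fun z hz => ?_⟩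
    rw [gl_mul_mulVec, hgz' z hz, mulVec_add, mulVec_smul, hgz z hz, hgp, D.addR, add_smul]
    abel
  neg_mem' := by
    rintro w ⟨hw, g, hg, hgp, hgz⟩
    refine ⟨by rw [← neg_one_smul F w, D.lin.smul_left, hw, mul_zero], g⁻¹, M.inv_mem hg, by
      conv_lhs => rw [← hgp, gl_inv_mulVec], fun z hz => gl_mulVec_injective g ?_⟩
    show (g : Big) *ᵥ _ = (g : Big) *ᵥ _
    rw [gl_mulVec_inv, mulVec_add, mulVec_smul, hgz z hz, hgp, ← neg_one_smul F w, D.smulR, map_neg, map_one]
    module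

theorem mem_eich_of_add {p w : Vec} (hp : D.Ctr p) (hw : D.Ctr w) (hpw : D.Ctr (p + w)) (hwp : B w p = 0) :
    w ∈ D.eich p := by
  refine ⟨hwp, ?_⟩
  obtain ⟨g, hg, hgz⟩ := hpw.2 1 (map_one σ)
  obtain ⟨g', hg', hgz'⟩ := hw.2 (-1) (by rw [map_neg, map_one])
  have hpw' : B p w = 0 := by rw [D.Bswap, hwp, map_zero, neg_zero]
  refine ⟨g * g', M.mul_mem hg hg', ?_, fun z hz => ?_⟩
  · rw [gl_mul_mulVec, hgz', hpw', mul_zero, zero_smul, add_zero, hgz, D.addR, hp.1, hpw']
    simp
  · rw [gl_mul_mulVec, hgz', hgz, D.lin.add_left, D.lin.smul_left, D.addR, D.addR, hz, hwp, hw.1]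
    module

theorem eich_conj {p w : Vec} (hw : w ∈ D.eich p) {y : G} (hy : y ∈ M)
    (hyp : (y : Big) *ᵥ p = p) : (y : Big) *ᵥ w ∈ D.eich p := by
  obtain ⟨hwp, g, hg, hgp, hgz⟩ := hw
  have hyp' : ((y⁻¹ : G) : Big) *ᵥ p = p := by conv_lhs => rw [← hyp, gl_inv_mulVec]
  refine ⟨by conv_lhs => rw [← hyp]; rw [D.iso y hy, hwp], y * g * y⁻¹,
    M.mul_mem (M.mul_mem hy hg) (M.inv_mem hy), by rw [gl_mul_mulVec, gl_mul_mulVec, hyp', hgp, hyp],
    fun z hz => ?_⟩
  have hz' : B (((y⁻¹ : G) : Big) *ᵥ z) p = 0 := by rw [D.B_move hy, hyp, hz]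
  rw [gl_mul_mulVec, gl_mul_mulVec, hgz _ hz', mulVec_add, gl_mulVec_inv, mulVec_smul, hyp, D.B_move hy]

/-- Moving a vector of `eich` by a transvection fixing `p`. -/
theorem eich_step {p w u : Vec} (hw : w ∈ D.eich p) (hu : D.Ctr u) (hpu : B p u = 0) :
    B w u • u ∈ D.eich p := by
  obtain ⟨y, hy, hyz⟩ := hu.2 1 (map_one σ)
  have h1 := D.eich_conj hw hy (by rw [hyz, hpu, mul_zero, zero_smul, add_zero])
  rw [hyz, one_mul] at h1
  have := (D.eich p).sub_mem h1 hw
  rwa [add_sub_cancel_left] at this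

section pure

variable [Finite F] (hall : ∀ A : Matrix (Fin m) (Fin m) F, AllHas (scaled e0 f₂) M A)
include hall

theorem ctr_pure (a : V1) {v : V2} (hvv : f₂ v v = 0) : D.Ctr (tens a v) := by
  have S := D.setting
  have hv' : scaled e0 f₂ v v = 0 := (scaled_eq_zero D.he0).2 hvv
  refine ⟨by rw [S.B_tens, hv', zero_mul], fun γ hγ => ?_⟩
  rcases eq_or_ne v 0 with rfl | hv
  · exact ⟨1, M.one_mem, fun z => by rw [tens_zero_right, smul_zero, add_zero, Units.val_one, one_mulVec]⟩
  obtain ⟨γ1, hγ1⟩ := exists_trace D.u1 hγ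
  set R : A1 := vecMulVec a (formVec f₁ a)
  have hRu : ∀ u, R *ᵥ u = f₁ u a • a := fun u => by
    rw [vecMulVec_mulVec, op_smul_eq_smul, (UnitSide.sform D.u1).dot]
  have hadj : ∀ c : F, AdjPair f₁ (c • R) (σ c • R) := fun c u u' => by
    rw [smul_mulVec, smul_mulVec, hRu, hRu, D.u1.smul_left, D.u1.smul_left, smul_right D.u1, smul_right D.u1,
      D.u1.involutive, ← D.u1.herm]
    ring
  have h1 : AdjPair f₁ (1 : A1) 1 := fun u u' => by rw [one_mulVec, one_mulVec]
  obtain ⟨g, hg, hval⟩ := el_all S D.slides (hall (γ1 • R)) (hall 1) (hadj γ1) h1 hv hv'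
  refine ⟨g, hg, fun z => ?_⟩
  rw [hval, add_mulVec, one_mulVec, el_mulVec, mul_one, one_mul, ← add_smul, hγ1, smul_mulVec, hRu, D.hB,
    ← mul_smul, tens_smul_left]

theorem eich_all {a : V1} {v : V2} (ha : a ≠ 0) (hv : v ≠ 0) (hvv : f₂ v v = 0) (z : Vec)
    (hz : B z (tens a v) = 0) : z ∈ D.eich (tens a v) := by
  have S := D.setting
  have h2 := sform_scaled D.u2 D.he0 D.hσe0
  have hv' : scaled e0 f₂ v v = 0 := (scaled_eq_zero D.he0).2 hvv
  have hp := D.ctr_pure hall a hvv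
  set W := D.eich (tens a v)
  have hblock : ∀ b, tens b v ∈ W := fun b =>
    D.mem_eich_of_add hp (D.ctr_pure hall b hvv) (by rw [← tens_add_left]; exact D.ctr_pure hall _ hvv)
      (by rw [S.B_tens, hv', zero_mul])
  have hsame : ∀ s, f₂ s s = 0 → f₂ s v = 0 → tens a s ∈ W := fun s hs hsv =>
    D.mem_eich_of_add hp (D.ctr_pure hall a hs) (by
      rw [← tens_add_right]
      refine D.ctr_pure hall _ ?_
      rw [D.u2.add_left, add_right D.u2, add_right D.u2, hvv, hs, hsv, swap_eq_zero D.u2 hsv]; ring)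
      (by rw [S.B_tens, (scaled_eq_zero D.he0).2 hsv, zero_mul])
  have hiso : ∀ (b : V1) (r : V2), f₂ r r = 0 → f₂ r v = 0 → tens b r ∈ W := by
    intro b r hr hrv
    by_cases hmem : r ∈ Submodule.span F {v}
    · obtain ⟨t, rfl⟩ := Submodule.mem_span_singleton.1 hmem
      rw [tens_smul_right, ← tens_smul_left]; exact hblock _
    have hnon : ∀ b : V1, f₁ a b ≠ 0 → tens b r ∈ W := by
      intro b hab
      obtain ⟨s, hs, hsv, hsr⟩ : ∃ s, f₂ s s = 0 ∧ f₂ s v = 0 ∧ f₂ s r ≠ 0 := by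
        by_contra hc
        push Not at hc
        exact hmem (UnitSide.avoid D.u2 D.hN D.hk hv hvv hc)
      set β := scaled e0 f₂ s r * f₁ a b with hβ
      have hβ0 : β ≠ 0 := mul_ne_zero (mul_ne_zero D.he0 hsr) hab
      have hs' : f₂ ((β⁻¹) • s) ((β⁻¹) • s) = 0 := by rw [D.u2.smul_left, smul_right D.u2, hs]; ring
      have := D.eich_step (hsame _ hs' (by rw [D.u2.smul_left, hsv, mul_zero])) (D.ctr_pure hall b hr)
        (by rw [S.B_tens, h2.eq_zero_comm ((scaled_eq_zero D.he0).2 hrv), zero_mul])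
      rwa [S.B_tens, h2.lin.smul_left, mul_assoc, ← hβ, inv_mul_cancel₀ hβ0, one_smul] at this
    by_cases hab : f₁ a b = 0
    · obtain ⟨b1, hb1⟩ := (D.u1.nondegenerate a ha).2
      have := W.sub_mem (hnon (b + b1) (by rw [add_right D.u1, hab, zero_add]; exact hb1)) (hnon b1 hb1)
      rwa [tens_add_left, add_sub_cancel_right] at this
    · exact hnon b hab
  have hperp : ∀ (b : V1) (w : V2), f₂ w v = 0 → tens b w ∈ W := by
    intro b w hw
    let R : Submodule F V2 :=
      { carrier := {w | ∀ b : V1, tens b w ∈ W}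
        add_mem' := fun hp hq b => by rw [tens_add_right]; exact W.add_mem (hp b) (hq b)
        zero_mem' := fun b => by rw [tens_zero_right]; exact W.zero_mem
        smul_mem' := fun c p hp b => by rw [tens_smul_right, ← tens_smul_left]; exact hp _ }
    suffices w ∈ Submodule.span F {r | f₂ r r = 0 ∧ f₂ r v = 0} from
      (Submodule.span_le (p := R)).2 (fun r hr b => hiso b r hr.1 hr.2) this b
    by_contra hn
    obtain ⟨φ, hφ, hφw⟩ := exists_functional hn
    obtain ⟨y, hy⟩ := formVec_surjective (isLinearLeft_of_unitary D.u2) (add_right D.u2) D.u2.nondegenerate φ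
    have hy' := UnitSide.avoid D.u2 D.hN D.hk hv hvv (w := y) fun s hs hsv => by
      rw [← (UnitSide.sform D.u2).dot, hy]
      exact hφ s (Submodule.subset_span ⟨hs, hsv⟩)
    obtain ⟨c, rfl⟩ := Submodule.mem_span_singleton.1 hy'
    rw [← hy, (UnitSide.sform D.u2).dot, smul_right D.u2, hw, mul_zero] at hφw
    exact zero_ne_one hφw
  obtain ⟨y, hyy, hyv⟩ := exists_hyperbolic D.u2 hv hvv
  have hpart : ∀ d : V1, f₁ d a = 0 → tens d y ∈ W := by
    intro d hd
    rcases eq_or_ne d 0 with rfl | hd0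
    · rw [tens_zero_left]; exact W.zero_mem
    obtain ⟨x, hx⟩ := (D.u1.nondegenerate d hd0).1
    set β := scaled e0 f₂ v y * f₁ x d with hβ
    have hvy : scaled e0 f₂ v y ≠ 0 := fun e => by
      have := h2.eq_zero_comm e
      rw [scaled, hyv, mul_one] at this
      exact D.he0 this
    have hβ0 : β ≠ 0 := mul_ne_zero hvy hx
    have := D.eich_step (hblock (β⁻¹ • x)) (D.ctr_pure hall d hyy) (by
      rw [S.B_tens, swap_eq_zero D.u1 hd, mul_zero])
    rwa [S.B_tens, D.u1.smul_left, mul_left_comm, ← hβ, inv_mul_cancel₀ hβ0, one_smul] at this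
  set d := ctr (formVec (scaled e0 f₂) v) z with hd
  have hda : f₁ d a = 0 := by rw [← hz, D.hB]
  rw [← sub_add_cancel z (tens (e0⁻¹ • d) y)]
  refine W.add_mem ?_ (hpart _ (by rw [D.u1.smul_left, hda, mul_zero]))
  rw [← sum_tens_slice (z - tens (e0⁻¹ • d) y)]
  refine sum_mem fun i _ => hperp _ _ ((scaled_eq_zero D.he0).1 ?_)
  rw [← h2.dot, ← ctr_eq_dot, ctr_sub, S.ctr_form_tens, scaled, hyv, mul_one, smul_inv_smul₀ D.he0, hd, sub_self]
  rfl

/-- Every isotropic vector is a centre. -/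
theorem ctr_all {x : Vec} (hx : B x x = 0) : D.Ctr x := by
  have S := D.setting
  rcases eq_or_ne x 0 with rfl | hx0
  · exact ⟨hx, fun γ _ => ⟨1, M.one_mem, fun z => by rw [smul_zero, add_zero, Units.val_one, one_mulVec]⟩⟩
  obtain ⟨a0, v, hvv, hxp⟩ : ∃ a v, f₂ v v = 0 ∧ B x (tens a v) ≠ 0 := by
    by_contra hc
    push Not at hc
    refine hx0 (funext fun p => ?_)
    have hsl : slice x p.1 = 0 := by
      refine (sform_scaled D.u2 D.he0 D.hσe0).eq_of_left fun u => ?_
      rw [form_zero_left (sform_scaled D.u2 D.he0 D.hσe0).lin]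
      have hu : u ∈ Submodule.span F {v : V2 | scaled e0 f₂ v v = 0} := by
        rw [BlkKron.span_isotropic S]; trivial
      let L : Submodule F V2 :=
        { carrier := {u | scaled e0 f₂ (slice x p.1) u = 0}
          add_mem' := fun {q r} hq hr => by
            show scaled e0 f₂ _ (q + r) = 0
            rw [(sform_scaled D.u2 D.he0 D.hσe0).add_right, hq, hr, add_zero]
          zero_mem' := (sform_scaled D.u2 D.he0 D.hσe0).zero_right _
          smul_mem' := fun c q hq => by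
            show scaled e0 f₂ _ (c • q) = 0
            rw [(sform_scaled D.u2 D.he0 D.hσe0).smul_right, hq, mul_zero] }
      refine (Submodule.span_le (p := L)).2 (fun w hw => ?_) hu
      have e : Cfsg.Agent.Lib.TensorMax.Lemmas.ctr (formVec (scaled e0 f₂) w) x = 0 := by
        refine (UnitSide.sform D.u1).eq_of_left fun b => ?_
        rw [herm_zero_left D.u1, ← D.hB]
        exact hc b w ((scaled_eq_zero D.he0).1 hw)
      show scaled e0 f₂ _ w = 0
      rw [← (sform_scaled D.u2 D.he0 D.hσe0).dot, ← ctr_eq_dot, e]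
      rfl
    exact congrFun hsl p.2
  set a := (σ (B x (tens a0 v)))⁻¹ • a0
  have hxp1 : B x (tens a v) = 1 := by
    rw [tens_smul_left, D.smulR, map_inv₀, D.u1.involutive, inv_mul_cancel₀ hxp]
  have ha : a ≠ 0 := fun e => by
    rw [e, tens_zero_left, D.zeroR] at hxp1
    exact zero_ne_one hxp1
  have hv : v ≠ 0 := fun e => by
    rw [e, tens_zero_right, D.zeroR] at hxp1
    exact zero_ne_one hxp1
  set p := tens a v with hpdef
  obtain ⟨y, hyy, hyv⟩ := exists_hyperbolic D.u2 hv hvv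
  obtain ⟨a', ha'⟩ := (UnitSide.sform D.u1).exists_one ha
  set q := tens a' (e0⁻¹ • y)
  have hyy' : f₂ (e0⁻¹ • y) (e0⁻¹ • y) = 0 := by rw [D.u2.smul_left, smul_right D.u2, hyy]; ring
  have hq := D.ctr_pure hall a' hyy'
  have hqp : B q p = 1 := by
    rw [S.B_tens, ha', scaled, D.u2.smul_left, hyv, mul_one, mul_one, mul_inv_cancel₀ D.he0]
  have hp := D.ctr_pure hall a hvv
  have hpq : B p q = -1 := by rw [D.Bswap, hqp, map_one]
  obtain ⟨hwp, g, hg, hgp, hgz⟩ := D.eich_all hall ha hv hvv (x - q)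
    (by rw [form_sub_left D.lin, hxp1, hqp, sub_self])
  set q' := (g : Big) *ᵥ q
  have hpq' : B p q' = -1 := by
    have h0 := D.iso g hg p q
    rw [hpdef, hgp, ← hpdef] at h0
    rw [h0, hpq]
  have hq'p : B q' p = 1 := by rw [D.Bswap, hpq', map_neg, map_one, neg_neg]
  -- the difference is a multiple of `p`
  set t := σ (B q (q' - x)) with ht
  have hd : q' - x - t • p = 0 := by
    by_contra hne
    obtain ⟨u, hu⟩ : ∃ u, B u (q' - x - t • p) ≠ 0 := by
      by_contra hc
      push Not at hc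
      refine hne (funext fun i => ?_)
      have hB0 : ∀ (b : V1) (w : V2), B (q' - x - t • p) (tens b w) = 0 := fun b w => by
        rw [D.Bswap, hc, map_zero, neg_zero]
      have hsl : slice (q' - x - t • p) i.1 = 0 := by
        refine (sform_scaled D.u2 D.he0 D.hσe0).eq_of_left fun w => ?_
        rw [form_zero_left (sform_scaled D.u2 D.he0 D.hσe0).lin,
          ← (sform_scaled D.u2 D.he0 D.hσe0).dot, ← ctr_eq_dot,
          show ctr (formVec (scaled e0 f₂) w) (q' - x - t • p) = 0 from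
            (UnitSide.sform D.u1).eq_of_left fun b => by rw [← D.hB, hB0, herm_zero_left D.u1]]
        rfl
      exact congrFun hsl i.2
    apply hu
    have hperp : ∀ z, B z p = 0 → B z (q' - x - t • p) = 0 := fun z hz => by
      have h1 := D.iso g hg z q
      rw [hgz z hz, D.lin.add_left, D.lin.smul_left, hpq', D.subR] at h1
      rw [D.subR, D.subR, D.smulR, hz, mul_zero, sub_zero]
      linear_combination h1
    rw [show u = (u - B u p • q) + B u p • q by rw [sub_add_cancel], D.lin.add_left, D.lin.smul_left,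
      hperp _ (by rw [form_sub_left D.lin, D.lin.smul_left, hqp, mul_one, sub_self]), D.subR, D.smulR,
      hqp, ht, D.u1.involutive, mul_one, sub_self, mul_zero, add_zero]
  have hq' : q' = x + t • p := by linear_combination (norm := module) hd
  have hσt : σ t = t := by
    have h1 : B q' q' = 0 := by rw [D.iso g hg, hq.1]
    rw [hq', D.lin.add_left, D.addR, D.addR, D.smulR, D.smulR, D.lin.smul_left, D.lin.smul_left, hx, hp.1,
      hxp1, D.Bswap x p, hxp1, map_one] at h1
    linear_combination h1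
  obtain ⟨τ, hτ, hτz⟩ := hp.2 (-t) (by rw [map_neg, hσt])
  have h := D.ctr_conj (D.ctr_conj hq hg) hτ
  rw [hτz, hq'p, mul_one] at h
  convert h using 1
  change x = q' + -t • p
  rw [hq']
  module

end pure

end Data

end Cfsg.Agent.Lib.TensorFormMax.UnitFull
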