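import Cfsg.Agent.Lib.TensorFormMax.UnitRigid
import Cfsg.Agent.Lib.Subspaces.UnitarySplit
import Cfsg.Agent.Lib.Forms.TensorFrame
import Cfsg.Agent.Lib.TensorMax.Main

/-!
The stabiliser of a tensor product of two hermitian forms is maximal in the special unitary group.
-/

set_option autoImplicit false

namespace Cfsg.Agent.Lib.TensorFormMax.UnitMain

open Matrix Kronecker
open Cfsg.Agent.Lib.Subspaces.Transvection Cfsg.Agent.Lib.Subspaces.FormVec
  Cfsg.Agent.Lib.Subspaces.UnitaryForm Cfsg.Agent.Lib.Subspaces.UnitaryGen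
  Cfsg.Agent.Lib.TensorMax.Block Cfsg.Agent.Lib.TensorMax.Lemmas Cfsg.Agent.Lib.TensorFormMax.Basic
  Cfsg.Agent.Lib.TensorFormMax.UnitSide Cfsg.Agent.Lib.TensorFormMax.UnitFull
  Cfsg.Agent.Lib.Forms.TensorFrame

/-- A rank one perturbation of the identity is no Kronecker product. -/
theorem rank_one_not_kron {F : Type*} [Field F] {m k : ℕ} (hm : 2 ≤ m) (hk : 2 ≤ k)
    {g : GL (Fin m × Fin k) F} {x φ : Fin m × Fin k → F} (hx : x ≠ 0) (hφ : φ ≠ 0)
    (hg : ∀ z, (g : Matrix (Fin m × Fin k) (Fin m × Fin k) F) *ᵥ z = z + (φ ⬝ᵥ z) • x) :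
    g ∉ Cfsg.Geo.kroneckerSubgroup m k F := by
  rintro ⟨a, b, hab⟩
  have hX : ∀ p q, tens ((a : Matrix (Fin m) (Fin m) F) *ᵥ p) ((b : Matrix (Fin k) (Fin k) F) *ᵥ q) - tens p q =
      (φ ⬝ᵥ tens p q) • x := fun p q => by
    have := hg (tens p q)
    rw [hab, kron_mulVec_tens] at this
    rw [this, add_sub_cancel_left]
  have hscal : ∃ μ : F, (a : Matrix (Fin m) (Fin m) F) = μ • 1 := by
    by_contra hc
    push Not at hc
    obtain ⟨u, hu⟩ := Cfsg.Agent.Lib.TensorMax.FullAlgebra.exists_not_eigen hc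
    obtain ⟨χ, hχ, hχu⟩ := exists_functional hu
    have hχ0 := hχ u (Submodule.mem_span_singleton_self u)
    have hb : ∀ q, (b : Matrix (Fin k) (Fin k) F) *ᵥ q = (φ ⬝ᵥ tens u q) • UnitRigid.ctr1 χ x := fun q => by
      have e := congrArg (UnitRigid.ctr1 χ) (hX u q)
      rw [UnitRigid.ctr1_sub, UnitRigid.ctr1_tens, UnitRigid.ctr1_tens, hχu, hχ0, one_smul, zero_smul, sub_zero]
        at e
      rw [e]
      ext d; simp [UnitRigid.ctr1, Finset.mul_sum, mul_left_comm]
    let P : (Fin k → F) →ₗ[F] F :=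
      { toFun := fun q => φ ⬝ᵥ tens u q
        map_add' := fun p q => by rw [tens_add_right, dotProduct_add]
        map_smul' := fun d p => by rw [RingHom.id_apply, tens_smul_right, dotProduct_smul] }
    have hinj : Function.Injective P := fun p q e => gl_mulVec_injective b
      (show (b : Matrix (Fin k) (Fin k) F) *ᵥ p = (b : Matrix (Fin k) (Fin k) F) *ᵥ q by
        rw [hb, hb]; exact congrArg (· • UnitRigid.ctr1 χ x) e)
    have := LinearMap.finrank_le_finrank_of_injective hinj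
    rw [Module.finrank_fin_fun, Module.finrank_self] at this
    omega
  obtain ⟨μ, hμ⟩ := hscal
  -- the second factor
  set N : Matrix (Fin k) (Fin k) F := μ • (b : Matrix (Fin k) (Fin k) F) - 1
  have hXt : ∀ p q, tens p (N *ᵥ q) = (φ ⬝ᵥ tens p q) • x := fun p q => by
    rw [← hX, hμ, smul_mulVec, one_mulVec, tens_smul_left, sub_mulVec, smul_mulVec, one_mulVec]
    ext d; simp [tens]; ring
  by_cases hN : ∀ q, N *ᵥ q = 0
  · refine hφ (funext fun p => ?_)
    have e := hXt (Pi.single p.1 1) (Pi.single p.2 1)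
    rw [hN, tens_zero_right, eq_comm, smul_eq_zero, or_iff_left hx] at e
    rw [show tens (Pi.single p.1 1 : Fin m → F) (Pi.single p.2 1) = Pi.single p 1 by
      ext ⟨a, b⟩; obtain ⟨i, d⟩ := p
      simp only [tens, Pi.single_apply, Prod.mk.injEq]; split_ifs <;> simp_all, dotProduct_single, mul_one] at e
    exact e
  · push Not at hN
    obtain ⟨q, hq⟩ := hN
    let P : (Fin m → F) →ₗ[F] F :=
      { toFun := fun p => φ ⬝ᵥ tens p q
        map_add' := fun r s => by rw [tens_add_left, dotProduct_add]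
        map_smul' := fun d r => by rw [RingHom.id_apply, tens_smul_left, dotProduct_smul] }
    have hinj : Function.Injective P := fun r s e => tens_injective hq
      (show tens r (N *ᵥ q) = tens s (N *ᵥ q) by rw [hXt, hXt]; exact congrArg (· • x) e)
    have := LinearMap.finrank_le_finrank_of_injective hinj
    rw [Module.finrank_fin_fun, Module.finrank_self] at this
    omega

theorem maximal {F : Type*} [Field F] [Fintype F] (n q : ℕ) (hF : Fintype.card F = q ^ 2) (hn : 10 ≤ n)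
    (n₁ n₂ : ℕ) (h1 : 2 ≤ n₁) (h12 : n₁ < n₂) (hex : ¬ (n₁ = 2 ∧ q = 2)) (e : Fin n ≃ Fin n₁ × Fin n₂)
    (P : GL (Fin n) F) (f₁ : (Fin n₁ → F) → (Fin n₁ → F) → F) (f₂ : (Fin n₂ → F) → (Fin n₂ → F) → F)
    (hf₁ : Cfsg.Geo.IsUnitaryFormPow q f₁) (hf₂ : Cfsg.Geo.IsUnitaryFormPow q f₂)
    (hT : Cfsg.Geo.IsTensorFormStructure (fun x : F => x ^ q) (Cfsg.hermForm n F q) f₁ f₂ e P) :
    Cfsg.Geo.IsMaximalIn (Cfsg.GU n F q ⊓ Cfsg.Geo.specialLinear (Fin n) F)
      (Cfsg.Geo.tensorProductSubgroup n₁ n₂ e P ⊓ (Cfsg.GU n F q ⊓ Cfsg.Geo.specialLinear (Fin n) F)) := by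
  classical
  set σ := powAut hF with hσdef
  have hH := hermForm_isUnitary (n := n) hF
  set h := Cfsg.hermForm n F q with hhdef
  rw [← hσdef] at hH
  have u1 : Cfsg.Geo.IsUnitaryForm σ f₁ :=
    ⟨hH.ne_refl, hH.involutive, hf₁.add_left, hf₁.smul_left, fun v w => hf₁.herm v w, hf₁.nondegenerate⟩
  have u2 : Cfsg.Geo.IsUnitaryForm σ f₂ :=
    ⟨hH.ne_refl, hH.involutive, hf₂.add_left, hf₂.smul_left, fun v w => hf₂.herm v w, hf₂.nondegenerate⟩
  obtain ⟨c, hc, hBp⟩ := form_pure (f := h) (σ := fun x : F => x ^ q) (fun a b => mul_pow a b q)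
    (eq_formOfGram (isLinearLeft_of_unitary u1) (Subspaces.UnitaryForm.add_right u1) (Subspaces.UnitaryForm.smul_right u1))
    (eq_formOfGram (isLinearLeft_of_unitary u2) (Subspaces.UnitaryForm.add_right u2) (Subspaces.UnitaryForm.smul_right u2)) hT
  set φ : GL (Fin n₁ × Fin n₂) F ≃* GL (Fin n) F :=
    (Cfsg.Geo.glReindex (F := F) e.symm).trans (MulAut.conj P) with hφ
  -- coordinates
  let T : (Fin n₁ × Fin n₂ → F) →ₗ[F] (Fin n → F) :=
    (Matrix.mulVecLin (P : Matrix (Fin n) (Fin n) F)).comp (LinearMap.funLeft F F e)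
  have hTapp : ∀ z, T z = (P : Matrix (Fin n) (Fin n) F) *ᵥ (z ∘ e) := fun z => rfl
  have hTinj : Function.Injective T := fun a b h => by
    have := gl_mulVec_injective P (show (P : Matrix (Fin n) (Fin n) F) *ᵥ (a ∘ e) = _ *ᵥ (b ∘ e) from h)
    funext p
    simpa using congrFun this (e.symm p)
  have hTsurj : Function.Surjective T := fun x =>
    ⟨(((P⁻¹ : GL (Fin n) F) : Matrix (Fin n) (Fin n) F) *ᵥ x) ∘ e.symm, by
      rw [hTapp]
      conv_rhs => rw [← gl_mulVec_inv P x]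
      congr 1
      funext i; simp⟩
  have hφT : ∀ g z, (φ g : Matrix (Fin n) (Fin n) F) *ᵥ T z =
      T ((g : Matrix (Fin n₁ × Fin n₂) (Fin n₁ × Fin n₂) F) *ᵥ z) := by
    intro g z
    rw [hTapp, hTapp]
    show ((P * Cfsg.Geo.glReindex e.symm g * P⁻¹ : GL (Fin n) F) : Matrix (Fin n) (Fin n) F) *ᵥ _ = _
    rw [gl_mul_mulVec, gl_mul_mulVec, gl_inv_mulVec]
    congr 1
    show (Matrix.reindexAlgEquiv F F e.symm) (g : Matrix (Fin n₁ × Fin n₂) (Fin n₁ × Fin n₂) F) *ᵥ _ = _
    rw [Matrix.coe_reindexAlgEquiv, Matrix.reindex_apply, Equiv.symm_symm, Matrix.submatrix_mulVec_equiv]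
    congr 1
    congr 1
    funext p; simp
  have hcard : n = n₁ * n₂ := by simpa using Fintype.card_congr e
  have hk4 : 4 ≤ n₂ := by
    by_contra hlt
    have := Nat.mul_le_mul (show n₁ ≤ 2 by omega) (show n₂ ≤ 3 by omega)
    omega
  -- the scalar is fixed
  obtain ⟨a1, ha1⟩ : ∃ a : Fin n₁ → F, f₁ a a ≠ 0 := by
    obtain ⟨p, -, hp⟩ := exists_aniso_of_lt u1 (![] : Fin 0 → Fin n₁ → F) (by omega)
    exact ⟨p, hp⟩
  obtain ⟨a2, ha2⟩ : ∃ a : Fin n₂ → F, f₂ a a ≠ 0 := by
    obtain ⟨p, -, hp⟩ := exists_aniso_of_lt u2 (![] : Fin 0 → Fin n₂ → F) (by omega)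
    exact ⟨p, hp⟩
  have hσc : σ c = c := by
    have h0 := self_fixed hH (pure e P a1 a2)
    rw [hBp, map_mul, map_mul, self_fixed u1, self_fixed u2] at h0
    exact mul_right_cancel₀ (mul_ne_zero ha1 ha2) h0
  obtain ⟨e0, he0, he0'⟩ := exists_skew_scalar u1
  have hσe0 : σ e0 = -e0 := eq_neg_of_add_eq_zero_right he0'
  set r := e0 * c⁻¹ with hr
  have hr0 : r ≠ 0 := mul_ne_zero he0 (inv_ne_zero hc)
  have hσr : σ r = -r := by rw [hr, map_mul, map_inv₀, hσc, hσe0, neg_mul]
  set B : (Fin n₁ × Fin n₂ → F) → (Fin n₁ × Fin n₂ → F) → F := fun x y => r * h (T x) (T y) with hB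
  have hBlin : IsLinearLeft B := ⟨fun x y v => by simp only [hB, map_add, hH.add_left, mul_add],
    fun d x v => by simp only [hB, map_smul, hH.smul_left, mul_left_comm]⟩
  have hB0 : ∀ u w u' w', B (tens u w) (tens u' w') = f₁ u u' * scaled e0 f₂ w w' := by
    intro u w u' w'
    show r * h (pure e P u w) (pure e P u' w') = _
    rw [hBp, hr, scaled]
    field_simp
  have hBz : ∀ z u w, B z (tens u w) = f₁ (ctr (formVec (scaled e0 f₂) w) z) u := by
    intro z u w
    let L : (Fin n₁ × Fin n₂ → F) →+ F := AddMonoidHom.mk' (fun x => B x (tens u w)) fun x y => hBlin.add_left x y _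
    let R : (Fin n₁ → F) →+ F := AddMonoidHom.mk' (fun x => f₁ x u) fun x y => hf₁.add_left x y u
    have hctr : ctr (formVec (scaled e0 f₂) w) z =
        ∑ i, scaled e0 f₂ (slice z i) w • (Pi.single i 1 : Fin n₁ → F) := by
      funext i
      simp [ctr_eq_dot, (sform_scaled u2 he0 hσe0).dot, Pi.single_apply, Finset.sum_apply]
    conv_lhs => rw [← sum_tens_slice z]
    show L _ = R _
    rw [hctr, map_sum, map_sum]
    refine Finset.sum_congr rfl fun i _ => ?_
    show B _ _ = f₁ _ u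
    rw [hB0, hf₁.smul_left, mul_comm]
  have hdet : ∀ g : GL (Fin n₁ × Fin n₂) F, φ g ∈ Cfsg.Geo.specialLinear (Fin n) F ↔
      (g : Matrix (Fin n₁ × Fin n₂) (Fin n₁ × Fin n₂) F).det = 1 := fun g => by
    rw [mem_specialLinear_iff]
    exact Eq.congr_left (congrArg Units.val (Cfsg.Agent.Lib.TensorMax.Main.det_transport e.symm P g))
  have hGU : ∀ g : GL (Fin n₁ × Fin n₂) F, φ g ∈ Cfsg.GU n F q ↔
      ∀ x y, B ((g : Matrix (Fin n₁ × Fin n₂) (Fin n₁ × Fin n₂) F) *ᵥ x)
        ((g : Matrix (Fin n₁ × Fin n₂) (Fin n₁ × Fin n₂) F) *ᵥ y) = B x y := by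
    intro g
    rw [mem_GU_iff']
    refine ⟨fun hg x y => ?_, fun hg u v => ?_⟩
    · show r * h _ _ = r * h _ _
      rw [← hφT, ← hφT, hhdef, hg]
    · obtain ⟨u, rfl⟩ := hTsurj u
      obtain ⟨v, rfl⟩ := hTsurj v
      rw [hφT, hφT]
      exact mul_left_cancel₀ hr0 (hg u v)
  have hmem : ∀ x, φ x ∈ Cfsg.Geo.tensorProductSubgroup n₁ n₂ e P ↔
      x ∈ Cfsg.Geo.kroneckerSubgroup n₁ n₂ F := by
    intro x
    constructor
    · rintro ⟨y, ⟨z, hz, rfl⟩, hy⟩
      have : φ z = φ x := hy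
      rwa [← φ.injective this]
    · exact fun hx => ⟨_, ⟨x, hx, rfl⟩, rfl⟩
  have htv : ∀ (x : Fin n₁ × Fin n₂ → F) (a : F), h (T x) (T x) = 0 → ∀ z,
      ((φ.symm (tv (T x) (a • formVec h (T x)))) : Matrix (Fin n₁ × Fin n₂) (Fin n₁ × Fin n₂) F) *ᵥ z =
        z + (a / r * B z x) • x := by
    intro x a hx z
    refine hTinj ?_
    rw [← hφT, φ.apply_symm_apply, utv_mulVec hH hx, map_add, map_smul]
    simp only [hB]
    congr 2
    field_simp
  refine ⟨lt_of_le_of_ne inf_le_right fun heq => ?_, fun M hM hMle => ?_⟩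
  · -- a transvection at a pure tensor
    obtain ⟨v, hv, hvv, -⟩ := exists_iso_orth u2 (Subspaces.UnitarySplit.norm_surjective hF)
      (![] : Fin 0 → Fin n₂ → F) (by omega)
    set x := tens a1 v
    have hxx : h (T x) (T x) = 0 := by
      show h (pure e P a1 v) (pure e P a1 v) = 0
      rw [hBp, hvv, mul_zero, mul_zero]
    have hg := utv_mem_SU hF hxx he0'
    rw [← heq, Subgroup.mem_inf] at hg
    have hk := (hmem _).1 (show φ (φ.symm (tv (T x) (e0 • formVec h (T x)))) ∈ _ by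
      rw [φ.apply_symm_apply]; exact hg.1)
    have ha10 : a1 ≠ 0 := fun e => ha1 (by rw [e, herm_zero_left u1])
    refine rank_one_not_kron h1 (by omega) (x := x)
      (φ := (e0 / r) • formVec B x) ?_ ?_ (fun z => ?_) hk
    · exact fun e' => ha10 (tens_injective hv (show tens a1 v = tens 0 v by
        rw [show tens a1 v = 0 from e', tens_zero_left]))
    · intro e'
      obtain ⟨w, hw⟩ := (u2.nondegenerate v hv).1
      have h0 := formVec_dot hBlin x (tens a1 w)
      rw [(smul_eq_zero.1 e').resolve_left (div_ne_zero he0 hr0), zero_dotProduct, hB0] at h0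
      exact mul_ne_zero ha1 (mul_ne_zero he0 hw) h0.symm
    · rw [htv x e0 hxx, smul_dotProduct, formVec_dot hBlin, smul_eq_mul]
  · set M' := M.comap φ.toMonoidHom with hM'
    have hsub : ∀ g ∈ M', φ g ∈ Cfsg.GU n F q ⊓ Cfsg.Geo.specialLinear (Fin n) F := fun g hg => hMle hg
    have D : Data σ e0 f₁ f₂ B M' :=
      { u1 := u1, u2 := u2, hN := Subspaces.UnitarySplit.norm_surjective hF, he0 := he0, hσe0 := hσe0
        lin := hBlin
        addR := fun x y z => by simp only [hB, map_add, Subspaces.UnitaryForm.add_right hH, mul_add]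
        Bswap := fun x y => by
          simp only [hB]
          rw [map_mul, hσr, hH.herm (T y) (T x)]
          ring_nf
        hB := hBz
        iso := fun g hg => (hGU g).1 (hsub g hg).1
        stab := fun g hk hd hi => hM ⟨(hmem g).2 hk, (hGU g).2 hi, (hdet g).2 hd⟩
        hm := h1, hk := hk4 }
    have S := D.setting
    have hexc : 3 ≤ n₁ ∨ ∃ r : F, σ r = r ∧ r ≠ 0 ∧ r ≠ 1 := by
      by_cases h3 : 3 ≤ n₁
      · exact Or.inl h3
      right
      by_contra hct
      push Not at hct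
      refine hex ⟨by omega, ?_⟩
      have h2 := Cfsg.Agent.Lib.Unitary.card_fixed hF
      have hle : Nat.card {x : F // x ^ q = x} ≤ Nat.card (({0, 1} : Finset F)) := by
        refine Nat.card_le_card_of_injective (fun x => ⟨x.1, ?_⟩) fun a b e => by simpa [Subtype.ext_iff] using e
        rcases eq_or_ne x.1 0 with e | e
        · simp [e]
        · simp [hct x.1 x.2 e]
      rw [h2, Nat.card_eq_finsetCard, Finset.card_pair zero_ne_one] at hle
      have := Cfsg.Agent.Lib.Unitary.one_lt_q hF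
      omega
    by_cases hG : NoRadical (scaled e0 f₂) M'
    · refine Or.inl (le_antisymm (fun x hx => ⟨?_, hMle hx⟩) hM)
      have hle : M' ≤ Cfsg.Geo.kroneckerSubgroup n₁ n₂ F := by
        by_cases hlt : n₁ + 2 ≤ n₂
        · exact Rigid.rigid_of_lt S (Or.inl (by omega)) hG hlt
        · refine UnitRigid.rigid_succ D ?_ (by omega) hG
          by_contra h4
          have := Nat.mul_le_mul (show n₁ ≤ 2 by omega) (show n₂ ≤ 3 by omega)
          omega
      have := (hmem _).2 (hle (show φ.symm x ∈ M' by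
        show φ (φ.symm x) ∈ M; rwa [φ.apply_symm_apply]))
      rwa [φ.apply_symm_apply] at this
    · have hall := D.allHas_all hG hexc
      refine Or.inr (le_antisymm hMle (su_le hF (by omega) fun v hv => ⟨hv, fun a ha => ?_⟩))
      obtain ⟨x, rfl⟩ := hTsurj v
      have hx : B x x = 0 := by simp only [hB]; rw [show h (T x) (T x) = 0 from hv, mul_zero]
      obtain ⟨g, hg, hgz⟩ := (D.ctr_all hall hx).2 (a / r) (by
        rw [map_div₀, hσr, eq_neg_of_add_eq_zero_right ha, neg_div_neg_eq])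
      have he : φ.symm (tv (T x) (a • formVec h (T x))) = g := gl_ext fun z => by rw [htv x a hv, hgz]
      have : φ g ∈ M := hg
      rwa [← he, φ.apply_symm_apply] at this

end Cfsg.Agent.Lib.TensorFormMax.UnitMain
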