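import Cfsg.Agent.Lib.TensorFormMax.UnitFull
import Cfsg.Agent.Lib.TensorFormMax.Rigid

/-!
Rigidity for two hermitian factors of adjacent dimensions: a transvection of the first factor plays the role of
the root element.
-/

set_option autoImplicit false

namespace Cfsg.Agent.Lib.TensorFormMax.UnitRigid

open Matrix Kronecker
open Cfsg.Agent.Lib.Subspaces.Transvection Cfsg.Agent.Lib.Subspaces.FormVec
  Cfsg.Agent.Lib.Subspaces.UnitaryForm
  Cfsg.Agent.Lib.TensorMax.Block Cfsg.Agent.Lib.TensorMax.Lemmas Cfsg.Agent.Lib.TensorFormMax.Basic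
  Cfsg.Agent.Lib.TensorFormMax.InvariantAlgebra
  Cfsg.Agent.Lib.TensorFormMax.UnitSide Cfsg.Agent.Lib.TensorFormMax.UnitFull

variable {F : Type*} [Field F] {m k : ℕ}

local notation "V1" => Fin m → F
local notation "V2" => Fin k → F
local notation "Vec" => Fin m × Fin k → F
local notation "Big" => Matrix (Fin m × Fin k) (Fin m × Fin k) F
local notation "A1" => Matrix (Fin m) (Fin m) F
local notation "A2" => Matrix (Fin k) (Fin k) F
local notation "G" => GL (Fin m × Fin k) F

/-- An isometry differing from the identity by rank one. -/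
theorem rank_one_isometry {n : ℕ} {σ : F →+* F} {ε : F} {f : (Fin n → F) → (Fin n → F) → F}
    (hf : SForm σ ε f) {a ψ : Fin n → F} (ha : a ≠ 0) (hψa : ψ ⬝ᵥ a = 0) (hψ : ψ ≠ 0)
    (hiso : ∀ x y, f (x + (ψ ⬝ᵥ x) • a) (y + (ψ ⬝ᵥ y) • a) = f x y) :
    f a a = 0 ∧ ∃ δ : F, δ ≠ 0 ∧ ∀ x, ψ ⬝ᵥ x = δ * f x a := by
  obtain ⟨x1, hx1⟩ := exists_dot_eq_one hψ
  rw [dotProduct_comm] at hx1
  have haa : f a a = 0 := by
    have h1 := hiso x1 a
    rw [hψa, zero_smul, add_zero, hf.lin.add_left, hx1, one_smul, add_eq_left] at h1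
    exact h1
  have hexp : ∀ x y, (ψ ⬝ᵥ x) * f a y + σ (ψ ⬝ᵥ y) * f x a = 0 := fun x y => by
    have h1 := hiso x y
    rw [hf.lin.add_left, hf.add_right, hf.add_right, hf.lin.smul_left, hf.lin.smul_left,
      hf.smul_right, hf.smul_right, haa, mul_zero, mul_zero, add_zero] at h1
    linear_combination h1
  obtain ⟨y, hy⟩ := hf.nondeg a ha
  have hay : f a y ≠ 0 := fun e => hy (hf.eq_zero_comm e)
  refine ⟨haa, -σ (ψ ⬝ᵥ y) / f a y, ?_, fun x => ?_⟩
  · intro e
    have h0 : σ (ψ ⬝ᵥ y) = 0 := by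
      rcases div_eq_zero_iff.1 e with h | h
      · exact neg_eq_zero.1 h
      · exact absurd h hay
    have := hexp x1 y
    rw [hx1, h0, one_mul, zero_mul, add_zero] at this
    exact hay this
  · field_simp
    linear_combination hexp x y

/-- Contraction of the first factor by a functional. -/
def ctr1 (χ : Fin m → F) (z : Fin m × Fin k → F) : Fin k → F := fun d => ∑ i, χ i * z (i, d)

theorem ctr1_tens (χ u : V1) (w : V2) : ctr1 χ (tens u w) = (χ ⬝ᵥ u) • w := by
  ext d
  simp [ctr1, tens, dotProduct, Finset.sum_mul, mul_assoc]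

theorem ctr1_sub (χ : V1) (x y : Vec) : ctr1 χ (x - y) = ctr1 χ x - ctr1 χ y := by
  ext d
  simp [ctr1, mul_sub, Finset.sum_sub_distrib]

theorem kron_one_mulVec (a ψ : V1) (z : Vec) :
    (vecMulVec a ψ ⊗ₖ (1 : A2)) *ᵥ z = tens a (ctr1 ψ z) := by
  ext ⟨i, d⟩
  simp only [mulVec, dotProduct, tens, ctr1, kroneckerMap_apply, vecMulVec_apply, Matrix.one_apply,
    Fintype.sum_prod_type, mul_ite, mul_one, mul_zero, ite_mul, zero_mul, Finset.sum_ite_eq, Finset.mem_univ,
    if_true, Finset.mul_sum]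
  exact Finset.sum_congr rfl fun j _ => by ring

theorem dot_ctr1 (ψ : V1) (φ : V2) (z : Vec) : φ ⬝ᵥ ctr1 ψ z = ψ ⬝ᵥ ctr φ z := by
  simp only [dotProduct, ctr1, ctr, Finset.mul_sum]
  rw [Finset.sum_comm]
  exact Finset.sum_congr rfl fun i _ => Finset.sum_congr rfl fun d _ => by ring

variable {σ : F ≃+* F} {e0 : F} {f₁ : (Fin m → F) → (Fin m → F) → F}
  {f₂ : (Fin k → F) → (Fin k → F) → F} {B : (Fin m × Fin k → F) → (Fin m × Fin k → F) → F}
  {M : Subgroup (GL (Fin m × Fin k) F)} [Finite F] (D : Data σ e0 f₁ f₂ B M)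
include D

/-- A conjugate of a transvection of the first factor inside the stabiliser moves an isotropic pure tensor to
an isotropic pure tensor. -/
theorem left_pure (hm4 : 3 ≤ m) (hkm : k = m + 1) {x : G} (hx : x ∈ M) {b : V1} (hb : b ≠ 0)
    (hbb : f₁ b b = 0) {c : F} (hc : c ≠ 0) {tb : G} (htb : tb ∈ M)
    (htv : (tb : Big) = tmat f₁ b c ⊗ₖ (1 : A2)) (hxk : x * tb * x⁻¹ ∈ Cfsg.Geo.kroneckerSubgroup m k F) :
    ∃ (w w' : V2) (a : V1), w ≠ 0 ∧ scaled e0 f₂ w w = 0 ∧ a ≠ 0 ∧ w' ≠ 0 ∧ scaled e0 f₂ w' w' = 0 ∧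
      (x : Big) *ᵥ tens b w = tens a w' := by
  have S := D.setting
  obtain ⟨a', n', hy⟩ := hxk
  set y : G := x * tb * x⁻¹ with hydef
  have hyM : y ∈ M := M.mul_mem (M.mul_mem hx htb) (M.inv_mem hx)
  set X : Big := (y : Big) - 1 with hXdef
  set φ : V1 := c • formVec f₁ b with hφdef
  have hX0 : ∀ z, (tb : Big) *ᵥ z = z + tens b (ctr1 φ z) := fun z => by
    rw [htv, tmat, ← vecMulVec_smul, ← hφdef, add_kronecker, one_kronecker_one, add_mulVec, one_mulVec,
      kron_one_mulVec]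
  have hX : ∀ z, X *ᵥ ((x : Big) *ᵥ z) = (x : Big) *ᵥ tens b (ctr1 φ z) := fun z => by
    rw [hXdef, sub_mulVec, one_mulVec, hydef, gl_mul_mulVec, gl_inv_mulVec, gl_mul_mulVec, hX0, mulVec_add,
      add_sub_cancel_left]
  obtain ⟨b', hb'⟩ := (UnitSide.sform D.u1).exists_one hb
  have hφb' : φ ⬝ᵥ b' = c := by
    rw [hφdef, smul_dotProduct, (UnitSide.sform D.u1).dot, hb', smul_eq_mul, mul_one]
  let L : V2 →ₗ[F] Vec :=
    { toFun := fun w => (x : Big) *ᵥ tens b w
      map_add' := fun p q => by rw [tens_add_right, mulVec_add]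
      map_smul' := fun d p => by rw [RingHom.id_apply, tens_smul_right, mulVec_smul] }
  have hLinj : Function.Injective L := fun p q e => by
    have e1 := gl_mulVec_injective x (show (x : Big) *ᵥ tens b p = (x : Big) *ᵥ tens b q from e)
    have e2 := congrArg (ctr1 (formVec f₁ b')) e1
    rw [ctr1_tens, ctr1_tens, (UnitSide.sform D.u1).dot] at e2
    have hb'' : f₁ b b' ≠ 0 := fun e => one_ne_zero (hb'.symm.trans (swap_eq_zero D.u1 e))
    exact smul_right_injective _ hb'' e2
  have hrange : ∀ z, X *ᵥ z ∈ LinearMap.range L := fun z => ⟨ctr1 φ (((x⁻¹ : G) : Big) *ᵥ z), by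
    conv_rhs => rw [← gl_mulVec_inv x z, hX]
    rfl⟩
  have hrangeL : LinearMap.range L ≤ LinearMap.range X.mulVecLin := by
    rintro _ ⟨w, rfl⟩
    refine ⟨(x : Big) *ᵥ tens b' (c⁻¹ • w), ?_⟩
    rw [Matrix.mulVecLin_apply, hX, ctr1_tens, hφb', smul_smul, mul_inv_cancel₀ hc, one_smul]
    rfl
  have hLk : Module.finrank F (LinearMap.range L) = k := by
    rw [LinearMap.finrank_range_of_inj hLinj, Module.finrank_fin_fun]
  have hle : LinearMap.range X.mulVecLin ≤ LinearMap.range L := by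
    rintro _ ⟨z, rfl⟩; exact hrange z
  -- neither factor can be scalar-free
  have hsc : (∃ μ : F, (a' : A1) = μ • 1) ∨ ∃ μ : F, (n' : A2) = μ • 1 := by
    by_contra hc'
    push Not at hc'
    obtain ⟨u, hu⟩ := Cfsg.Agent.Lib.TensorMax.FullAlgebra.exists_not_eigen hc'.1
    obtain ⟨w0, hw0⟩ := Cfsg.Agent.Lib.TensorMax.FullAlgebra.exists_not_eigen hc'.2
    have hXt : ∀ p q, X *ᵥ tens p q = tens ((a' : A1) *ᵥ p) ((n' : A2) *ᵥ q) - tens p q := fun p q => by
      rw [hXdef, sub_mulVec, one_mulVec, hy, kron_mulVec_tens]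
    let R : V2 →ₗ[F] Vec :=
      { toFun := fun w => X *ᵥ tens u w
        map_add' := fun p q => by rw [tens_add_right, mulVec_add]
        map_smul' := fun d p => by rw [RingHom.id_apply, tens_smul_right, mulVec_smul] }
    have hinj : Function.Injective R := by
      rw [injective_iff_map_eq_zero]
      intro w hw
      obtain ⟨χ, hχ, hχu⟩ := exists_functional hu
      have hχ0 := hχ u (Submodule.mem_span_singleton_self u)
      have e : X *ᵥ tens u w = 0 := hw
      have e1 := congrArg (ctr1 χ) e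
      rw [hXt, ctr1_sub, ctr1_tens, ctr1_tens, hχu, hχ0, one_smul, zero_smul, sub_zero,
        show ctr1 χ (0 : Vec) = 0 by ext d; simp [ctr1]] at e1
      exact gl_mulVec_injective n' (show (n' : A2) *ᵥ w = (n' : A2) *ᵥ 0 by rw [e1, mulVec_zero])
    have hRL : LinearMap.range R = LinearMap.range L :=
      Submodule.eq_of_le_of_finrank_le (by rintro _ ⟨w, rfl⟩; exact hrange _)
        (by rw [hLk, LinearMap.finrank_range_of_inj hinj, Module.finrank_fin_fun])
    obtain ⟨χ, hχn, hχ⟩ := exists_common_zero_not_mem (⊥ : Submodule F V1) ![u, (a' : A1) *ᵥ u]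
      (by rw [finrank_bot, Fintype.card_fin]; omega)
    have hχu : χ ⬝ᵥ u = 0 := by rw [dotProduct_comm]; exact hχ 0
    have hχau : χ ⬝ᵥ (a' : A1) *ᵥ u = 0 := by rw [dotProduct_comm]; exact hχ 1
    refine hχn ((Submodule.mem_bot F).2 (funext fun i => ?_))
    obtain ⟨w, hw⟩ : X *ᵥ tens (Pi.single i 1) w0 ∈ LinearMap.range R := hRL.symm ▸ hrange _
    have e1 := congrArg (ctr1 χ) (show X *ᵥ tens u w = _ from hw)
    rw [hXt, hXt, ctr1_sub, ctr1_sub, ctr1_tens, ctr1_tens, ctr1_tens, ctr1_tens, hχu, hχau, zero_smul, zero_smul,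
      sub_zero, dotProduct_single, mul_one] at e1
    by_contra hi
    refine hw0 (Submodule.mem_span_singleton.2 ?_)
    by_cases hp : χ ⬝ᵥ (a' : A1) *ᵥ Pi.single i 1 = 0
    · rw [hp, zero_smul, zero_sub, eq_comm, neg_eq_zero, smul_eq_zero] at e1
      exact absurd (e1.resolve_left hi) fun e0 => hw0 (by rw [e0, mulVec_zero]; exact Submodule.zero_mem _)
    · refine ⟨(χ ⬝ᵥ (a' : A1) *ᵥ Pi.single i 1)⁻¹ * χ i, ?_⟩
      rw [← smul_smul, inv_smul_eq_iff₀ hp]
      exact (sub_eq_zero.1 e1.symm).symm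
  -- the second factor is scalar
  obtain ⟨N1, hN1⟩ : ∃ N1 : A1, X = N1 ⊗ₖ (1 : A2) := by
    rcases hsc with ⟨μ, hμ⟩ | ⟨μ, hμ⟩
    swap
    · refine ⟨μ • (a' : A1) - 1, ?_⟩
      rw [hXdef, hy, hμ, kronecker_smul, ← smul_kronecker]
      ext ⟨i, d⟩ ⟨j, d'⟩
      by_cases e : d = d' <;> simp [kroneckerMap_apply, Matrix.one_apply, e]
    exfalso
    set N : A2 := μ • (n' : A2) - 1
    have hXt : ∀ p q, X *ᵥ tens p q = tens p (N *ᵥ q) := fun p q => by
      rw [hXdef, sub_mulVec, one_mulVec, hy, hμ, kron_mulVec_tens, smul_mulVec, one_mulVec, sub_mulVec,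
        one_mulVec, smul_mulVec, tens_smul_left]
      ext d; simp [tens]; ring
    by_cases h1 : ∃ v', ∀ w, N *ᵥ w ∈ Submodule.span F {v'}
    · obtain ⟨v', hv'⟩ := h1
      let P : V1 →ₗ[F] Vec :=
        { toFun := fun u => tens u v'
          map_add' := fun p q => tens_add_left _ _ _
          map_smul' := fun d p => by rw [RingHom.id_apply, tens_smul_left] }
      have hP : LinearMap.range X.mulVecLin ≤ LinearMap.range P := by
        rintro _ ⟨z, rfl⟩
        rw [Matrix.mulVecLin_apply, ← sum_tens_slice z, mulVec_sum]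
        refine sum_mem fun i _ => ?_
        obtain ⟨s, hs⟩ := Submodule.mem_span_singleton.1 (hv' (slice z i))
        exact ⟨s • Pi.single i 1, by
          show tens _ v' = _
          rw [hXt, ← hs, tens_smul_left, tens_smul_right]⟩
      have h2 := Submodule.finrank_mono (hrangeL.trans hP)
      have h3 := LinearMap.finrank_range_le P
      rw [hLk] at h2
      rw [Module.finrank_fin_fun] at h3
      omega
    · push Not at h1
      obtain ⟨w1, hw1⟩ := h1 0
      obtain ⟨w2, hw2⟩ := h1 (N *ᵥ w1)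
      let R : (V1 × V1) →ₗ[F] Vec :=
        { toFun := fun p => X *ᵥ (tens p.1 w1 + tens p.2 w2)
          map_add' := fun p q => by
            rw [← mulVec_add, Prod.fst_add, Prod.snd_add, tens_add_left, tens_add_left]; congr 1; abel
          map_smul' := fun d p => by
            rw [RingHom.id_apply, ← mulVec_smul, Prod.smul_fst, Prod.smul_snd, tens_smul_left, tens_smul_left,
              smul_add] }
      have hinj : Function.Injective R := by
        rw [injective_iff_map_eq_zero]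
        rintro ⟨p, q⟩ hp
        have hp' : tens p (N *ᵥ w1) + tens q (N *ᵥ w2) = 0 := by
          rw [← hXt, ← hXt, ← mulVec_add]; exact hp
        obtain ⟨η, hη, hη1⟩ := exists_functional hw2
        have e1 := congrArg (ctr η) hp'
        rw [ctr_add, ctr_tens, ctr_tens, hη _ (Submodule.mem_span_singleton_self _), hη1, zero_smul, one_smul,
          zero_add] at e1
        have hq : q = 0 := e1.trans (by ext i; simp [ctr])
        subst hq
        rw [tens_zero_left, add_zero] at hp'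
        have hw1' : N *ᵥ w1 ≠ 0 := fun e => hw1 (by rw [e]; exact Submodule.zero_mem _)
        have : p = 0 := tens_injective hw1' (show tens p _ = tens 0 _ by rw [hp', tens_zero_left])
        rw [this]; rfl
      have h2 := Submodule.finrank_mono (show LinearMap.range R ≤ LinearMap.range L by
        rintro _ ⟨p, rfl⟩; exact hrange _)
      rw [LinearMap.finrank_range_of_inj hinj, hLk, Module.finrank_prod, Module.finrank_fin_fun] at h2
      omega
  have hXt : ∀ p q, X *ᵥ tens p q = tens (N1 *ᵥ p) q := fun p q => by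
    rw [hN1, kron_mulVec_tens, one_mulVec]
  -- rank one
  obtain ⟨u1, hu1⟩ : ∃ u1, N1 *ᵥ u1 ≠ 0 := by
    by_contra hc'
    push Not at hc'
    have hN0 : N1 = 0 := Matrix.mulVec_injective (funext fun u => by rw [hc' u, zero_mulVec])
    have h2 := Submodule.finrank_mono hrangeL
    rw [hLk, hN1, hN0, zero_kronecker, show Matrix.mulVecLin (0 : Big) = 0 by ext; simp, LinearMap.range_zero,
      finrank_bot] at h2
    omega
  set a := N1 *ᵥ u1 with hadef
  have hrk : ∀ u, N1 *ᵥ u ∈ Submodule.span F {a} := by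
    intro u
    by_contra hu
    let R : (V2 × V2) →ₗ[F] Vec :=
      { toFun := fun p => X *ᵥ (tens u1 p.1 + tens u p.2)
        map_add' := fun p q => by
          rw [← mulVec_add, Prod.fst_add, Prod.snd_add, tens_add_right, tens_add_right]; congr 1; abel
        map_smul' := fun d p => by
          rw [RingHom.id_apply, ← mulVec_smul, Prod.smul_fst, Prod.smul_snd, tens_smul_right, tens_smul_right,
            smul_add] }
    have hinj : Function.Injective R := by
      rw [injective_iff_map_eq_zero]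
      rintro ⟨p, q⟩ hp
      have hp' : tens a p + tens (N1 *ᵥ u) q = 0 := by
        rw [← hXt, ← hXt, ← mulVec_add]; exact hp
      obtain ⟨η, hη, hη1⟩ := exists_functional hu
      have e1 := congrArg (ctr1 η) hp'
      have hadd : ctr1 η (tens a p + tens (N1 *ᵥ u) q) = ctr1 η (tens a p) + ctr1 η (tens (N1 *ᵥ u) q) := by
        ext d; simp [ctr1, mul_add, Finset.sum_add_distrib]
      rw [hadd, ctr1_tens, ctr1_tens, hη _ (Submodule.mem_span_singleton_self _), hη1, zero_smul, one_smul,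
        zero_add] at e1
      have hq : q = 0 := e1.trans (by ext d; simp [ctr1])
      subst hq
      rw [tens_zero_right, add_zero] at hp'
      obtain ⟨i, hi⟩ := Function.ne_iff.1 hu1
      have : p = 0 := funext fun d => (mul_eq_zero.1 (congrFun hp' (i, d))).resolve_left hi
      rw [this]; rfl
    have h2 := Submodule.finrank_mono (show LinearMap.range R ≤ LinearMap.range L by
      rintro _ ⟨p, rfl⟩; exact hrange _)
    rw [LinearMap.finrank_range_of_inj hinj, hLk, Module.finrank_prod, Module.finrank_fin_fun] at h2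
    omega
  obtain ⟨η, hη⟩ := exists_dot_eq_one hu1
  set ψ : V1 := η ᵥ* N1
  have hNψ : ∀ u, N1 *ᵥ u = (ψ ⬝ᵥ u) • a := fun u => by
    obtain ⟨t, ht⟩ := Submodule.mem_span_singleton.1 (hrk u)
    rw [← dotProduct_mulVec, ← ht, dotProduct_smul, hη, smul_eq_mul, mul_one]
  have hN1v : N1 = vecMulVec a ψ := Matrix.mulVec_injective (funext fun u => by
    rw [hNψ, vecMulVec_mulVec, op_smul_eq_smul])
  have hXψ : ∀ z, X *ᵥ z = tens a (ctr1 ψ z) := fun z => by rw [hN1, hN1v, kron_one_mulVec]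
  have hxb : ∀ w, (x : Big) *ᵥ tens b w = tens a (c⁻¹ • ctr1 ψ ((x : Big) *ᵥ tens b' w)) := fun w => by
    rw [tens_smul_right, ← hXψ, hX, ctr1_tens, hφb', tens_smul_right, mulVec_smul, inv_smul_smul₀ hc]
  have hψ1 : ψ ⬝ᵥ u1 = 1 := by rw [← dotProduct_mulVec]; exact hη
  have hψ0 : ψ ≠ 0 := fun e => by rw [e, zero_dotProduct] at hψ1; exact zero_ne_one hψ1
  have h2' := sform_scaled D.u2 D.he0 D.hσe0
  have hk0 : (Pi.single ⟨0, by omega⟩ 1 : V2) ≠ 0 := by simp
  have hψa : ψ ⬝ᵥ a = 0 := by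
    set p := tens u1 (Pi.single ⟨0, by omega⟩ (1 : F) : V2)
    have e : X *ᵥ (X *ᵥ p) = 0 := by
      conv_lhs => rw [← gl_mulVec_inv x p, hX, hX]
      rw [ctr1_tens, hφdef, smul_dotProduct, (UnitSide.sform D.u1).dot, hbb, smul_zero, zero_smul,
        tens_zero_right, mulVec_zero]
    rw [hXt, hXt, ← hadef, hNψ a] at e
    obtain ⟨i, hi⟩ := Function.ne_iff.1 hu1
    obtain ⟨d, hd⟩ := Function.ne_iff.1 hk0
    have := congrFun e (i, d)
    simp only [tens, Pi.smul_apply, smul_eq_mul, Pi.zero_apply, mul_eq_zero] at this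
    exact (this.resolve_right hd).resolve_right hi
  obtain ⟨y2, hy2⟩ := h2'.nondeg _ hk0
  obtain ⟨haa, δ, hδ, hψδ⟩ := rank_one_isometry (UnitSide.sform D.u1) hu1 hψa hψ0 fun p q => by
    have e : ∀ (u : V1) (w : V2), (y : Big) *ᵥ tens u w = tens (u + (ψ ⬝ᵥ u) • a) w := fun u w => by
      rw [show (y : Big) = 1 + X by rw [hXdef, add_sub_cancel], add_mulVec, one_mulVec, hXt, hNψ,
        tens_add_left]
    have := D.iso y hyM (tens p y2) (tens q (Pi.single ⟨0, by omega⟩ 1))
    rw [e, e, S.B_tens, S.B_tens] at this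
    exact mul_left_cancel₀ hy2 this
  have hBa : ∀ z w, B z (tens a w) = δ⁻¹ * scaled e0 f₂ (ctr1 ψ z) w := fun z w => by
    rw [D.hB, ← h2'.dot, dot_ctr1, hψδ, inv_mul_cancel_left₀ hδ]
  obtain ⟨w, hw, hww, -⟩ := exists_iso_orth D.u2 D.hN (![] : Fin 0 → V2) (by have := D.hk; omega)
  set w' := c⁻¹ • ctr1 ψ ((x : Big) *ᵥ tens b' w) with hw'def
  have hw' : w' ≠ 0 := fun e => hw (hLinj (show L w = L 0 by
    show (x : Big) *ᵥ tens b w = (x : Big) *ᵥ tens b 0
    rw [hxb, ← hw'def, e, tens_zero_right, tens_zero_right, mulVec_zero]))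
  refine ⟨w, w', a, hw, (scaled_eq_zero D.he0).2 hww, hu1, hw', ?_, hxb w⟩
  have h1 := D.iso x hx (tens b' w) (tens b w)
  rw [hxb, ← hw'def, hBa, S.B_tens, (scaled_eq_zero D.he0).2 hww, zero_mul] at h1
  rw [hw'def]
  rw [h2'.lin.smul_left, ← hw'def, (mul_eq_zero.1 h1).resolve_left (inv_ne_zero hδ), mul_zero]

/-- The rigid case of adjacent dimensions. -/
theorem rigid_succ (hm4 : 3 ≤ m) (hkm : k = m + 1) (hNR : NoRadical (scaled e0 f₂) M) :
    M ≤ Cfsg.Geo.kroneckerSubgroup m k F := by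
  have S := D.setting
  have hmk : RootKron.Sep m k (σ : F →+* F) (1 : F) := Or.inl (by omega)
  have hF1 := UnitSide.sform D.u1
  intro g hg
  obtain ⟨b, hb, hbb, -⟩ := exists_iso_orth D.u1 D.hN (![] : Fin 0 → V1) (by omega)
  obtain ⟨c, hc, hcs⟩ := exists_skew_scalar D.u1
  have hcs' : (1 : F) * c + (σ : F →+* F) c = 0 := by rw [one_mul]; exact hcs
  obtain ⟨tb, htb, htv⟩ := D.left_mem (g := tmat f₁ b c) (g' := tmat f₁ b (-c))
    (by rw [tmat_mul hF1 hbb, add_neg_cancel, tmat_zero hF1]) (tmat_det hF1 hbb c) (tmat_isometry hF1 hbb hcs')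
  obtain ⟨v, hv, hvv, -⟩ := S.rich.orth 0 ![] (by omega)
  obtain ⟨T0, hT0, hT0v⟩ := S.root_one hvv
  set T : G := g * T0 * g⁻¹ with hTdef
  set φ : V1 := c • formVec f₁ b with hφdef
  have hbapp : ∀ z, (tb : Big) *ᵥ z = z + tens b (ctr1 φ z) := fun z => by
    rw [htv, tmat, ← vecMulVec_smul, ← hφdef, add_kronecker, one_kronecker_one, add_mulVec, one_mulVec,
      kron_one_mulVec]
  have htbk : tb ∈ Cfsg.Geo.kroneckerSubgroup m k F :=
    ⟨GeneralLinearGroup.mkOfDetNeZero (tmat f₁ b c) (by rw [tmat_det hF1 hbb c]; exact one_ne_zero), 1, htv⟩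
  obtain ⟨p, hp⟩ := CharP.exists F
  have : Fact p.Prime :=
    ⟨(CharP.char_is_prime_or_zero F p).resolve_right (CharP.char_ne_zero_of_finite F p)⟩
  have htp : tb ^ p = 1 := by
    refine Rigid.pow_eq_one (X := vecMulVec b φ ⊗ₖ (1 : A2)) ?_ ?_
    · rw [htv, tmat, ← vecMulVec_smul, ← hφdef, add_kronecker, one_kronecker_one]
    · rw [← Matrix.mul_kronecker_mul, vecMulVec_mul_vecMulVec, hφdef, smul_dotProduct, hF1.dot, hbb, smul_zero,
        zero_smul, vecMulVec_zero, zero_kronecker]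
  have hTp : T ^ p = 1 := by
    rw [hTdef, conj_pow, Rigid.pow_eq_one hT0v (by rw [el_mul, S.h2.dot, hvv, zero_smul]), mul_one, mul_inv_cancel]
  have hsub : Subgroup.closure ({tb, T} : Set G) ≤ M := by
    rw [Subgroup.closure_le]
    rintro x (rfl | rfl)
    · exact htb
    · exact M.mul_mem (M.mul_mem hg hT0) (M.inv_mem hg)
  obtain ⟨x, hx, hxk⟩ := SylowArg.exists_conj_mem _ htp hTp htbk fun x hx hxk => by
    obtain ⟨w, w', a, hw, hww, ha, hw', hww', h⟩ := left_pure D hm4 hkm (hsub hx) hb hbb hc htb htv hxk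
    exact Rigid.mem_of_pure S hmk hNR (hsub hx) hw hww ha hw' hww' h
  have hxM : x ∈ M := hsub hx
  have hgM : x⁻¹ * g ∈ M := M.mul_mem (M.inv_mem hxM) hg
  obtain ⟨d, v1, hv1, hv11, hd, hblk⟩ : Blk (scaled e0 f₂) (x⁻¹ * g) v := by
    refine RootKron.blk_of_kron S hmk
      (M.mul_mem (M.mul_mem (M.inv_mem hxM) (hsub (Subgroup.subset_closure (by simp)))) hxM) hv hvv hxk ?_
    rw [← Units.val_mul, show x⁻¹ * T * x * (x⁻¹ * g) = x⁻¹ * g * T0 by rw [hTdef]; group,
      Units.val_mul, hT0v]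
  obtain ⟨-, C, ⟨-, hCs⟩, hgC, -, -⟩ := RootKron.Blk.extract S hgM hv hv1 hd hblk
  let Lb : V2 →ₗ[F] Vec :=
    { toFun := fun w => tens b w
      map_add' := fun p q => tens_add_right _ _ _
      map_smul' := fun d p => tens_smul_right d _ _ }
  set U := LinearMap.range (Rigid.blockMap g v) ⊔ LinearMap.range Lb
  have hU : ∀ z, (x : Big) *ᵥ z - z ∈ U := by
    clear hgC hblk hxk hgM hxM
    induction hx using Subgroup.closure_induction with
    | mem x hx =>
      rcases hx with rfl | rfl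
      · intro z
        rw [hbapp, add_sub_cancel_left]
        exact Submodule.mem_sup_right ⟨_, rfl⟩
      · intro z
        rw [hTdef, gl_mul_mulVec, gl_mul_mulVec, hT0v, add_mulVec, one_mulVec, el_mulVec, one_mulVec, mulVec_add,
          gl_mulVec_inv, add_sub_cancel_left]
        exact Submodule.mem_sup_left ⟨_, rfl⟩
    | one => intro z; simp
    | mul x y _ _ hx hy =>
      intro z
      rw [gl_mul_mulVec, ← sub_add_sub_cancel _ ((y : Big) *ᵥ z) z]
      exact U.add_mem (hx _) (hy z)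
    | inv x _ hx =>
      intro z
      have := U.neg_mem (hx (((x⁻¹ : G) : Big) *ᵥ z))
      rwa [gl_mulVec_inv, neg_sub] at this
  obtain ⟨a, hab⟩ : ∃ a : V1, a ∉ Submodule.span F {b} := by
    by_contra hc'
    push Not at hc'
    have := Submodule.finrank_mono (show (⊤ : Submodule F V1) ≤ _ from fun a _ => hc' a)
    rw [finrank_top, Module.finrank_fin_fun, finrank_span_singleton hb] at this
    omega
  obtain ⟨a0, rfl⟩ := hCs a
  have hxg : (x : Big) *ᵥ tens (C a0) v1 = (g : Big) *ᵥ tens a0 v := by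
    rw [← hgC, ← gl_mul_mulVec, mul_inv_cancel_left]
  have hm1 := hU (tens (C a0) v1)
  rw [hxg] at hm1
  obtain ⟨_, ⟨a2, rfl⟩, _, ⟨y, rfl⟩, he⟩ := Submodule.mem_sup.1 hm1
  have he' : (g : Big) *ᵥ tens (a0 - a2) v = tens (C a0) v1 + tens b y := by
    have e2 : (g : Big) *ᵥ tens a2 v + tens b y = (g : Big) *ᵥ tens a0 v - tens (C a0) v1 := he
    rw [tens_sub_left, mulVec_sub]
    linear_combination (norm := module) -e2
  obtain ⟨v0, hv0, hv00, hv0o⟩ := S.rich.orth 2 ![v1, y] (by omega)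
  refine Rigid.mem_of_orth S hmk hNR hg hv hvv hv0 hv00 (a' := a0 - a2) (fun e => hab ?_) fun i => ?_
  · rw [e, tens_zero_left, mulVec_zero] at he'
    obtain ⟨η, hη⟩ := exists_dot_eq_one hv1
    have h1 := congrArg (ctr η) he'
    rw [ctr_add, ctr_tens, ctr_tens, hη, one_smul, show ctr η (0 : Vec) = 0 by ext i; simp [ctr]] at h1
    rw [show C a0 = -(η ⬝ᵥ y) • b by linear_combination (norm := module) -h1]
    exact Submodule.smul_mem _ _ (Submodule.mem_span_singleton_self b)
  · rw [he', show slice (tens (C a0) v1 + tens b y) i = C a0 i • v1 + b i • y by ext d; simp [slice, tens],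
      S.h2.add_right, S.h2.smul_right, S.h2.smul_right, show scaled e0 f₂ v0 v1 = 0 from hv0o 0,
      show scaled e0 f₂ v0 y = 0 from hv0o 1, mul_zero, mul_zero, add_zero]

end Cfsg.Agent.Lib.TensorFormMax.UnitRigid
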