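import Cfsg.Agent.Lib.TensorFormMax.Algebra
import Cfsg.Agent.Lib.Subspaces.UnitaryForm

/-!
The geometry of hermitian forms, and of their skew multiples, used by the tensor product argument.
-/

set_option autoImplicit false

namespace Cfsg.Agent.Lib.TensorFormMax.UnitSide

open Matrix
open Cfsg.Agent.Lib.Subspaces.Transvection Cfsg.Agent.Lib.Subspaces.FormVec
  Cfsg.Agent.Lib.Subspaces.UnitaryForm Cfsg.Agent.Lib.TensorFormMax.Basic
  Cfsg.Agent.Lib.TensorFormMax.Radical Cfsg.Agent.Lib.TensorFormMax.Algebra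
  Cfsg.Agent.Lib.TensorFormMax.InvariantAlgebra

variable {F : Type*} [Field F] {n : ℕ} {σ : F ≃+* F} {f : (Fin n → F) → (Fin n → F) → F}

local notation "Vec" => Fin n → F
local notation "Mat" => Matrix (Fin n) (Fin n) F

/-- A scalar multiple of a form. -/
def scaled (e0 : F) (f : (Fin n → F) → (Fin n → F) → F) (x y : Fin n → F) : F := e0 * f x y

/-- A hermitian form as a sesquilinear form. -/
theorem sform (hf : Cfsg.Geo.IsUnitaryForm σ f) : SForm (σ : F →+* F) 1 f where
  invol := hf.involutive
  lin := isLinearLeft_of_unitary hf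
  swap x y := by rw [one_mul]; exact hf.herm y x
  nondeg v hv := (hf.nondegenerate v hv).1

/-- A skew multiple of a hermitian form. -/
theorem sform_scaled (hf : Cfsg.Geo.IsUnitaryForm σ f) {e0 : F} (he0 : e0 ≠ 0) (hσ : σ e0 = -e0) :
    SForm (σ : F →+* F) (-1) (scaled e0 f) where
  invol := hf.involutive
  lin := ⟨fun x y v => by rw [scaled, scaled, scaled, hf.add_left, mul_add],
    fun c x v => by rw [scaled, scaled, hf.smul_left, mul_left_comm]⟩
  swap x y := by
    show e0 * f y x = -1 * σ (e0 * f x y)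
    rw [map_mul, hσ, hf.herm y x]; ring
  nondeg v hv := by
    obtain ⟨x, hx⟩ := (hf.nondegenerate v hv).1
    exact ⟨x, mul_ne_zero he0 hx⟩

theorem scaled_eq_zero {e0 : F} (he0 : e0 ≠ 0) {x y : Vec} : scaled e0 f x y = 0 ↔ f x y = 0 := by
  rw [scaled, mul_eq_zero, or_iff_right he0]

variable (hf : Cfsg.Geo.IsUnitaryForm σ f) (hN : ∀ r : F, σ r = r → ∃ c, c * σ c = r)
include hf

theorem eq_zero_of_left {x : Vec} (h : ∀ u, f u x = 0) : x = 0 := by
  by_contra hx
  obtain ⟨u, hu⟩ := (hf.nondegenerate x hx).1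
  exact hu (h u)

/-- Two scalars of norm one other than one. -/
theorem exists_norm_one : ∃ a b : F, a * σ a = 1 ∧ b * σ b = 1 ∧ a ≠ 1 ∧ b ≠ 1 ∧ a ≠ b := by
  obtain ⟨b, hb⟩ : ∃ b, σ b ≠ b := by
    by_contra h
    push Not at h
    exact hf.ne_refl (RingEquiv.ext h)
  have hb0 : b ≠ 0 := fun e => hb (by rw [e, map_zero])
  have hb1 : b + 1 ≠ 0 := fun e => hb (by rw [eq_neg_of_add_eq_zero_left e, map_neg, map_one])
  have hσb : σ b ≠ 0 := by simpa using hb0
  have hσb1 : σ (b + 1) ≠ 0 := fun e => hb1 (σ.injective (by rw [e, map_zero]))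
  have h1 : σ (b + 1) = σ b + 1 := by rw [map_add, map_one]
  refine ⟨b / σ b, (b + 1) / σ (b + 1), ?_, ?_, fun e => hb ?_, fun e => hb ?_, fun e => hb ?_⟩
  · rw [map_div₀, hf.involutive]; field_simp
  · rw [map_div₀, hf.involutive]; field_simp
  · rw [div_eq_one_iff_eq hσb] at e; exact e.symm
  · rw [div_eq_one_iff_eq hσb1, h1] at e; exact (add_right_cancel e).symm
  · rw [div_eq_div_iff hσb hσb1, h1] at e; linear_combination -e

include hN in
/-- An isotropic vector on an affine line with anisotropic or non-orthogonal direction. -/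
theorem exists_shift {t p : Vec} (h : f p p ≠ 0 ∨ f p t ≠ 0) : ∃ a : F, f (t + a • p) (t + a • p) = 0 := by
  by_cases hpp : f p p = 0
  · obtain ⟨a, -, ha⟩ := exists_isotropic_shift hf hpp (z := t) (h.resolve_left (not_not_intro hpp))
    exact ⟨a, ha⟩
  · set γ := f p p with hγ
    set β := f p t with hβ
    have hσγ : σ γ = γ := self_fixed hf p
    obtain ⟨x, hx⟩ := hN ((β * σ β - γ * f t t) / (γ * γ)) (by
      rw [map_div₀, map_sub, map_mul, map_mul, map_mul, hf.involutive, hσγ, self_fixed hf]; ring)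
    refine ⟨x - σ β / γ, ?_⟩
    rw [expand_add_smul hf, ← hγ, ← hβ]
    simp only [map_sub, map_mul, map_div₀, hσγ, hf.involutive]
    field_simp
    field_simp at hx
    linear_combination hx

variable [Finite F]

/-- An anisotropic vector orthogonal to given vectors. -/
theorem exists_aniso {l : ℕ} (s : Fin l → Vec) {z : Vec} (hz : ∀ i, f z (s i) = 0)
    (hn : z ∉ Submodule.span F (Set.range s)) : ∃ p, (∀ i, f p (s i) = 0) ∧ f p p ≠ 0 := by
  obtain ⟨w, hw, hwz⟩ := dual_right hf hn
  have hw' : ∀ i, f w (s i) = 0 := fun i => hw _ (Submodule.subset_span ⟨i, rfl⟩)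
  by_cases h1 : f z z = 0
  · by_cases h2 : f w w = 0
    · obtain ⟨μ, hμ⟩ := exists_add_ne_zero hf
      refine ⟨z + μ • w, fun i => ?_, ?_⟩
      · rw [hf.add_left, hf.smul_left, hz, hw', mul_zero, add_zero]
      · rwa [expand_add_smul hf, h1, h2, hwz, mul_one, zero_add, mul_zero, add_zero]
    · exact ⟨w, hw', h2⟩
  · exact ⟨z, hz, h1⟩

theorem exists_aniso_of_lt {l : ℕ} (s : Fin l → Vec) (hl : 2 * l < n) :
    ∃ p, (∀ i, f p (s i) = 0) ∧ f p p ≠ 0 :=
  exists_anisotropic hf s (by rw [Fintype.card_fin]; exact hl)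

omit [Finite F] in
/-- A vector outside a span and orthogonal to given vectors. -/
theorem exists_orth {l r : ℕ} (T : Fin r → Vec) (s : Fin l → Vec) (h : r + l < n) :
    ∃ z, z ∉ Submodule.span F (Set.range T) ∧ ∀ i, f z (s i) = 0 := by
  obtain ⟨z, hz, hzs⟩ := exists_common_zero_not_mem (Submodule.span F (Set.range T))
    (fun i => formVec f (s i)) (by
      have := finrank_span_range_le T
      rw [Fintype.card_fin]; omega)
  exact ⟨z, hz, fun i => by rw [← formVec_dot (isLinearLeft_of_unitary hf)]; exact hzs i⟩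

omit [Finite F] in
include hN in
/-- Isotropic vectors orthogonal to given vectors. -/
theorem exists_iso_orth {l : ℕ} (s : Fin l → Vec) (hl : l + 2 ≤ n) :
    ∃ v, v ≠ 0 ∧ f v v = 0 ∧ ∀ i, f v (s i) = 0 := by
  have hne : ∀ {p : Vec}, p ∉ Submodule.span F (Set.range (![] : Fin 0 → Vec)) → p ≠ 0 := fun {p} h e =>
    h (by rw [e]; exact Submodule.zero_mem _)
  obtain ⟨p, hp, hps⟩ := exists_orth hf ![] s (by omega)
  by_cases hpp : f p p = 0
  · exact ⟨p, hne hp, hpp, hps⟩
  obtain ⟨q, hq, hqs⟩ := exists_orth hf ![] (Fin.cons p s : Fin (l + 1) → Vec) (by omega)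
  have hqp : f q p = 0 := hqs 0
  have hqs' : ∀ i, f q (s i) = 0 := fun i => hqs i.succ
  by_cases hqq : f q q = 0
  · exact ⟨q, hne hq, hqq, hqs'⟩
  obtain ⟨a, ha⟩ := exists_shift hf hN (t := p) (p := q) (Or.inl hqq)
  refine ⟨p + a • q, fun e => hpp ?_, ha, fun i => by rw [hf.add_left, hf.smul_left, hps, hqs', mul_zero, add_zero]⟩
  have h1 := congrArg (fun x => f x p) e
  simp only [hf.add_left, hf.smul_left, hqp, mul_zero, add_zero, herm_zero_left hf] at h1
  exact h1

include hN in
/-- Only the multiples of an isotropic vector are orthogonal to the isotropic vectors orthogonal to it. -/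
theorem avoid (hn : 4 ≤ n) {v w : Vec} (hv : v ≠ 0) (_hvv : f v v = 0)
    (h : ∀ s, f s s = 0 → f s v = 0 → f s w = 0) : w ∈ Submodule.span F {v} := by
  obtain ⟨a, -, ha, -, ha1, -, -⟩ := exists_norm_one hf
  have hperp : ∀ z, f z v = 0 → f z w = 0 := by
    intro z hzv
    by_cases hzz : f z z = 0
    · exact h z hzz hzv
    obtain ⟨x, hx, hxs⟩ := exists_orth hf ![v] ![v, z] (by omega)
    obtain ⟨y, hy, hyy⟩ := exists_aniso hf ![v, z] hxs fun e => by
      obtain ⟨d, hd⟩ := (Submodule.mem_span_range_iff_exists_fun F).1 e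
      simp only [Fin.sum_univ_two, Matrix.cons_val_zero, Matrix.cons_val_one] at hd
      have e1 : f x z = 0 := hxs 1
      rw [← hd, hf.add_left, hf.smul_left, hf.smul_left, swap_eq_zero hf hzv, mul_zero, zero_add,
        mul_eq_zero, or_iff_left hzz] at e1
      refine hx ((Submodule.mem_span_range_iff_exists_fun F).2 ⟨fun _ => d 0, ?_⟩)
      rw [← hd, e1]
      simp
    have hyv : f y v = 0 := hy 0
    have hyz : f y z = 0 := hy 1
    obtain ⟨c, hc⟩ := exists_shift hf hN (t := z) (p := y) (Or.inl hyy)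
    have hc' : f (z + (a * c) • y) (z + (a * c) • y) = 0 := by
      rw [expand_add_smul hf, hyz, mul_zero, map_zero, add_zero, add_zero] at hc ⊢
      rw [map_mul]
      linear_combination hc + c * σ c * f y y * ha
    have e1 := h _ hc (by rw [hf.add_left, hf.smul_left, hzv, hyv, mul_zero, add_zero])
    have e2 := h _ hc' (by rw [hf.add_left, hf.smul_left, hzv, hyv, mul_zero, add_zero])
    rw [hf.add_left, hf.smul_left] at e1 e2
    have e3 : (1 - a) * f z w = 0 := by linear_combination e2 - a * e1
    exact (mul_eq_zero.1 e3).resolve_left (sub_ne_zero.2 ha1.symm)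
  obtain ⟨c, hc⟩ := exists_smul_of_ker_le ((sform hf).formVec_ne hv) (ψ := formVec f w) fun z hz => by
    rw [(sform hf).dot] at hz ⊢
    exact hperp z hz
  refine Submodule.mem_span_singleton.2 ⟨σ c, sub_eq_zero.1 (eq_zero_of_left hf fun u => ?_)⟩
  have e : f u w = c * f u v := by
    rw [← (sform hf).dot, hc, smul_dotProduct, (sform hf).dot, smul_eq_mul]
  rw [sub_right hf, smul_right hf, hf.involutive, e, sub_self]

variable {e0 : F} (he0 : e0 ≠ 0)

include hN he0 in
theorem rich (hn : 4 ≤ n) : IsoRich (scaled e0 f) where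
  orth l s hl := by
    obtain ⟨v, hv, hvv, hvs⟩ := exists_iso_orth hf hN s hl
    exact ⟨v, hv, (scaled_eq_zero he0).2 hvv, fun i => (scaled_eq_zero he0).2 (hvs i)⟩
  avoid v w hv hvv h := UnitSide.avoid hf hN hn hv ((scaled_eq_zero he0).1 hvv) fun s hs hsv =>
    (scaled_eq_zero he0).1 (h s ((scaled_eq_zero he0).2 hs) ((scaled_eq_zero he0).2 hsv))

include hN in
theorem dual_two {v s : Vec} (h : Pair f v s) (a : F) : ∃ w, f w w = 0 ∧ f w v = a ∧ f w s = 0 := by
  have hn : v ∉ Submodule.span F {s} := fun e => by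
    obtain ⟨c, hc⟩ := Submodule.mem_span_singleton.1 e
    have hc0 : c ≠ 0 := fun e0 => h.ne (by rw [← hc, e0, zero_smul])
    exact h.indep (Submodule.mem_span_singleton.2 ⟨c⁻¹, by rw [← hc, inv_smul_smul₀ hc0]⟩)
  obtain ⟨t, ht, htv⟩ := dual_right hf hn
  have hts := ht s (Submodule.mem_span_singleton_self s)
  have ht' : t ∉ Submodule.span F (Set.range ![v, s]) := fun e => by
    have hle : Submodule.span F (Set.range ![v, s]) ≤ LinearMap.ker
        (Matrix.mulVecLin (Matrix.of fun _ : Fin 1 => formVec f v)) := by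
      rw [Submodule.span_le]
      rintro _ ⟨i, rfl⟩
      refine LinearMap.mem_ker.2 (funext fun _ => ?_)
      show formVec f v ⬝ᵥ ![v, s] i = 0
      rw [(sform hf).dot]
      fin_cases i
      · exact h.left
      · exact h.orth
    have h1 := congrFun (LinearMap.mem_ker.1 (hle e)) 0
    have h2 : formVec f v ⬝ᵥ t = 0 := h1
    rw [(sform hf).dot, htv] at h2
    exact one_ne_zero h2
  obtain ⟨p, hp, hpt⟩ := dual_right hf ht'
  obtain ⟨c, hc⟩ := exists_shift hf hN (t := t) (p := p) (Or.inr (by rw [hpt]; exact one_ne_zero))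
  have hpv : f p v = 0 := hp v (Submodule.subset_span ⟨0, rfl⟩)
  have hps : f p s = 0 := hp s (Submodule.subset_span ⟨1, rfl⟩)
  refine ⟨a • (t + c • p), ?_, ?_, ?_⟩
  · rw [hf.smul_left, smul_right hf, hc]; ring
  · rw [hf.smul_left, hf.add_left, hf.smul_left, htv, hpv]; ring
  · rw [hf.smul_left, hf.add_left, hf.smul_left, hts, hps]; ring

include hN in
theorem dual_three (hn : 5 ≤ n) {v s r : Vec} (hs : Pair f v s) (hr : Pair f v r)
    (hind : r ∉ Submodule.span F {v} ⊔ Submodule.span F {s}) (a b : F) :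
    ∃ t, f t t = 0 ∧ f t v = 0 ∧ f t s = a ∧ f t r = b := by
  have hsn : s ∉ Submodule.span F {v} ⊔ Submodule.span F {r} := fun e => by
    obtain ⟨x, hx, y, hy, hxy⟩ := Submodule.mem_sup.1 e
    obtain ⟨c, rfl⟩ := Submodule.mem_span_singleton.1 hy
    have hc : c ≠ 0 := fun e0 => hs.indep (by rw [e0, zero_smul, add_zero] at hxy; exact hxy ▸ hx)
    refine hind ?_
    rw [show r = c⁻¹ • (s - x) by rw [← hxy, add_sub_cancel_left, inv_smul_smul₀ hc]]
    exact Submodule.smul_mem _ _ (Submodule.sub_mem _
      (Submodule.mem_sup_right (Submodule.mem_span_singleton_self s)) (Submodule.mem_sup_left hx))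
  obtain ⟨t1, h1, h1s⟩ := dual_right hf hsn
  obtain ⟨t2, h2, h2r⟩ := dual_right hf hind
  have h1v := h1 v (Submodule.mem_sup_left (Submodule.mem_span_singleton_self v))
  have h1r := h1 r (Submodule.mem_sup_right (Submodule.mem_span_singleton_self r))
  have h2v := h2 v (Submodule.mem_sup_left (Submodule.mem_span_singleton_self v))
  have h2s := h2 s (Submodule.mem_sup_right (Submodule.mem_span_singleton_self s))
  set t := a • t1 + b • t2 with ht
  have htv : f t v = 0 := by simp [ht, hf.add_left, hf.smul_left, h1v, h2v]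
  have hts : f t s = a := by simp [ht, hf.add_left, hf.smul_left, h1s, h2s]
  have htr : f t r = b := by simp [ht, hf.add_left, hf.smul_left, h1r, h2r]
  by_cases hab : a = 0 ∧ b = 0
  · exact ⟨0, herm_zero_left hf 0, herm_zero_left hf v, by rw [herm_zero_left hf, hab.1],
      by rw [herm_zero_left hf, hab.2]⟩
  suffices ∃ p, (∀ i, f p (![v, s, r] i) = 0) ∧ (f p p ≠ 0 ∨ f p t ≠ 0) by
    obtain ⟨p, hp, hpd⟩ := this
    obtain ⟨c, hc⟩ := exists_shift hf hN hpd
    refine ⟨t + c • p, hc, ?_, ?_, ?_⟩
    · rw [hf.add_left, hf.smul_left, htv, show f p v = 0 from hp 0]; ring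
    · rw [hf.add_left, hf.smul_left, hts, show f p s = 0 from hp 1]; ring
    · rw [hf.add_left, hf.smul_left, htr, show f p r = 0 from hp 2]; ring
  by_cases htU : t ∈ Submodule.span F (Set.range ![v, s, r])
  swap
  · obtain ⟨p, hp, hpt⟩ := dual_right hf htU
    exact ⟨p, fun i => hp _ (Submodule.subset_span ⟨i, rfl⟩), Or.inr (by rw [hpt]; exact one_ne_zero)⟩
  obtain ⟨co, hco⟩ := (Submodule.mem_span_range_iff_exists_fun F).1 htU
  simp only [Fin.sum_univ_three, Matrix.cons_val_zero, Matrix.cons_val_one, Matrix.cons_val_two,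
    Matrix.tail_cons, Matrix.head_cons] at hco
  have hts' : a = co 2 * f r s := by
    rw [← hts, ← hco]
    simp [hf.add_left, hf.smul_left, hs.right, swap_eq_zero hf hs.orth]
  have htr' : b = co 1 * f s r := by
    rw [← htr, ← hco]
    simp [hf.add_left, hf.smul_left, hr.right, swap_eq_zero hf hr.orth]
  have hsr : f s r ≠ 0 := fun e => hab ⟨by rw [hts', swap_eq_zero hf e, mul_zero], by rw [htr', e, mul_zero]⟩
  have hrs : f r s ≠ 0 := fun e => hsr (swap_eq_zero hf e)
  obtain ⟨z, hz, hzs⟩ := exists_orth hf ![v] ![v, s, r] (by omega)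
  have hzU : z ∉ Submodule.span F (Set.range ![v, s, r]) := fun e => by
    obtain ⟨d, hd⟩ := (Submodule.mem_span_range_iff_exists_fun F).1 e
    simp only [Fin.sum_univ_three, Matrix.cons_val_zero, Matrix.cons_val_one, Matrix.cons_val_two,
      Matrix.tail_cons, Matrix.head_cons] at hd
    have e1 : f z s = 0 := hzs 1
    have e2 : f z r = 0 := hzs 2
    rw [← hd] at e1 e2
    simp [hf.add_left, hf.smul_left, hs.right, swap_eq_zero hf hs.orth, hrs] at e1
    simp [hf.add_left, hf.smul_left, hr.right, swap_eq_zero hf hr.orth, hsr] at e2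
    refine hz ((Submodule.mem_span_range_iff_exists_fun F).2 ⟨fun _ => d 0, ?_⟩)
    rw [← hd, e1, e2]
    simp
  obtain ⟨p, hp, hpp⟩ := exists_aniso hf _ hzs hzU
  exact ⟨p, hp, Or.inl hpp⟩

omit hf [Finite F] in
theorem pair_of_scaled (he0 : e0 ≠ 0) {v s : Vec} (h : Pair (scaled e0 f) v s) : Pair f v s :=
  ⟨h.ne, (scaled_eq_zero he0).1 h.left, (scaled_eq_zero he0).1 h.right, (scaled_eq_zero he0).1 h.orth, h.indep⟩

include hN he0 in
theorem duals (hn : 5 ≤ n) : Duals (scaled e0 f) where
  two v s h := by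
    obtain ⟨w, hw, hwv, hws⟩ := dual_two hf hN (pair_of_scaled he0 h) e0⁻¹
    exact ⟨w, (scaled_eq_zero he0).2 hw, by rw [scaled, hwv, mul_inv_cancel₀ he0], (scaled_eq_zero he0).2 hws⟩
  three v s r hs hr hind := by
    obtain ⟨t, ht, htv, hts, htr⟩ := dual_three hf hN hn (pair_of_scaled he0 hs) (pair_of_scaled he0 hr)
      hind e0⁻¹ (σ e0⁻¹)
    exact ⟨t, (scaled_eq_zero he0).2 ht, (scaled_eq_zero he0).2 htv, by rw [scaled, hts, mul_inv_cancel₀ he0],
      by rw [scaled, hf.herm r t, htr, hf.involutive, mul_inv_cancel₀ he0]⟩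

omit [Finite F] in
theorem exists_hyperbolic {w : Vec} (hw : w ≠ 0) (hww : f w w = 0) : ∃ b, f b b = 0 ∧ f b w = 1 := by
  obtain ⟨x, hx⟩ := (sform hf).exists_one hw
  have hwx : f w x ≠ 0 := fun e => one_ne_zero (hx.symm.trans (swap_eq_zero hf e))
  obtain ⟨c, -, hc⟩ := exists_isotropic_shift hf hww hwx
  exact ⟨x + c • w, hc, by rw [hf.add_left, hf.smul_left, hx, hww, mul_zero, add_zero]⟩

omit [Finite F] in
theorem span_nonorth {a : Vec} (ha : a ≠ 0) (haa : f a a = 0) :
    Submodule.span F {b | f b b = 0 ∧ f b a ≠ 0} = ⊤ := by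
  obtain ⟨b, hb, hba⟩ := exists_hyperbolic hf ha haa
  obtain ⟨e, he, he'⟩ := exists_skew_scalar hf
  set W := Submodule.span F {b | f b b = 0 ∧ f b a ≠ 0}
  have hbW : b ∈ W := Submodule.subset_span ⟨hb, by rw [hba]; exact one_ne_zero⟩
  have hab : f a b = 1 := by rw [hf.herm, hba, map_one]
  have haW : a ∈ W := by
    have h1 : b + e • a ∈ W := by
      refine Submodule.subset_span ⟨?_, ?_⟩
      · rw [expand_add_smul hf, hb, hab, haa, mul_one, he', mul_zero, add_zero, add_zero]
      · rw [hf.add_left, hf.smul_left, hba, haa, mul_zero, add_zero]; exact one_ne_zero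
    have h2 := W.smul_mem e⁻¹ (W.sub_mem h1 hbW)
    rwa [add_sub_cancel_left, inv_smul_smul₀ he] at h2
  have hone : ∀ z, f z a = 1 → z ∈ W := fun z hz => by
    obtain ⟨c, -, hc⟩ := exists_isotropic_shift hf haa (z := z)
      (by rw [hf.herm, hz, map_one]; exact one_ne_zero)
    have := W.sub_mem (Submodule.subset_span (show z + c • a ∈ {b | f b b = 0 ∧ f b a ≠ 0} from
      ⟨hc, by rw [hf.add_left, hf.smul_left, hz, haa, mul_zero, add_zero]; exact one_ne_zero⟩))
      (W.smul_mem c haW)
    rwa [add_sub_cancel_right] at this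
  refine eq_top_iff.2 fun z _ => ?_
  have := W.add_mem (hone (z - f z a • b + b) (by
    rw [hf.add_left, form_sub_left (isLinearLeft_of_unitary hf), hf.smul_left, hba]; ring))
    (W.smul_mem (f z a - 1) hbW)
  convert this using 1
  module

/-- A quasi-reflection. -/
def qref (f : (Fin n → F) → (Fin n → F) → F) (u : Fin n → F) (l : F) : Matrix (Fin n) (Fin n) F :=
  1 + vecMulVec u (((l - 1) / f u u) • formVec f u)

omit [Finite F] in
theorem qref_mulVec (u : Vec) (l : F) (x : Vec) : qref f u l *ᵥ x = x + ((l - 1) / f u u * f x u) • u := by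
  rw [qref, add_mulVec, one_mulVec, vecMulVec_mulVec, op_smul_eq_smul, smul_dotProduct, (sform hf).dot,
    smul_eq_mul]

omit [Finite F] in
theorem qref_det {u : Vec} (hu : f u u ≠ 0) (l : F) : (qref f u l).det = l := by
  rw [qref, vecMulVec_eq Unit, det_one_add_replicateCol_mul_replicateRow, smul_dotProduct, (sform hf).dot,
    smul_eq_mul, div_mul_cancel₀ _ hu, add_sub_cancel]

omit [Finite F] in
theorem qref_isometry {u : Vec} (hu : f u u ≠ 0) {l : F} (hl : l * σ l = 1) (x y : Vec) :
    f (qref f u l *ᵥ x) (qref f u l *ᵥ y) = f x y := by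
  rw [qref_mulVec hf, qref_mulVec hf, hf.add_left, add_right hf, add_right hf, hf.smul_left, hf.smul_left,
    smul_right hf, smul_right hf, map_mul, map_div₀, map_sub, map_one, self_fixed hf, hf.herm u y]
  field_simp
  linear_combination f x u * σ (f y u) * hl

omit [Finite F] in
theorem qref_mul {u : Vec} (hu : f u u ≠ 0) (l l' : F) : qref f u l * qref f u l' = qref f u (l * l') := by
  refine Matrix.mulVec_injective (funext fun x => ?_)
  rw [← mulVec_mulVec, qref_mulVec hf, qref_mulVec hf, qref_mulVec hf, hf.add_left, hf.smul_left,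
    add_assoc, ← add_smul]
  congr 2
  field_simp
  ring

omit [Finite F] in
theorem qref_one (u : Vec) : qref f u 1 = 1 := by
  have _ := hf
  rw [qref, sub_self, zero_div, zero_smul, vecMulVec_zero, add_zero]

include hN in
/-- A normalised subalgebra which is not scalar has no common eigenvector. -/
theorem no_line (hn : 2 ≤ n) (hex : 3 ≤ n ∨ ∃ r : F, σ r = r ∧ r ≠ 0 ∧ r ≠ 1)
    (S : Subalgebra F (Matrix (Fin n) (Fin n) F)) (hinv : Invariant f S)
    (hns : ∃ A ∈ S, ∀ c : F, A ≠ c • 1) (w : Vec) (hw : w ≠ 0) :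
    ¬ ∀ A ∈ S, A *ᵥ w ∈ Submodule.span F {w} := by
  intro hline
  have hF := sform hf
  obtain ⟨A, hA, hAs⟩ := hns
  obtain ⟨χ, hχ⟩ := Submodule.mem_span_singleton.1 (hline A hA)
  have horbit : ∀ g g' : Mat, g * g' = 1 → g.det = 1 → (∀ x y, f (g *ᵥ x) (g *ᵥ y) = f x y) →
      ∃ μ : F, A *ᵥ (g *ᵥ w) = μ • (g *ᵥ w) := by
    intro g g' hgg hd hiso
    have hg'g : g' * g = 1 := mul_eq_one_comm.1 hgg
    have hd' : g'.det = 1 := by
      have := congrArg Matrix.det hgg
      rwa [det_mul, hd, one_mul, det_one] at this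
    have hiso' : ∀ x y, f (g' *ᵥ x) (g' *ᵥ y) = f x y := fun x y => by
      rw [← hiso (g' *ᵥ x) (g' *ᵥ y), mulVec_mulVec, mulVec_mulVec, hgg, one_mulVec, one_mulVec]
    obtain ⟨μ, hμ⟩ := Submodule.mem_span_singleton.1 (hline _ (hinv g' g hg'g hd' hiso' A hA))
    refine ⟨μ, ?_⟩
    rw [← mulVec_smul, hμ, ← mulVec_mulVec, ← mulVec_mulVec, mulVec_mulVec _ g g', hgg, one_mulVec]
  apply hAs χ
  let K : Submodule F Vec :=
    { carrier := {x | A *ᵥ x = χ • x}
      add_mem' := fun {p q} (hp : A *ᵥ p = χ • p) (hq : A *ᵥ q = χ • q) => by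
        show A *ᵥ (p + q) = χ • (p + q)
        rw [mulVec_add, hp, hq, smul_add]
      zero_mem' := show A *ᵥ 0 = χ • 0 by rw [mulVec_zero, smul_zero]
      smul_mem' := fun c p (hp : A *ᵥ p = χ • p) => by
        show A *ᵥ (c • p) = χ • (c • p)
        rw [mulVec_smul, hp, smul_comm] }
  have hwK : w ∈ K := hχ.symm
  suffices htop : ∀ x, x ∈ K from Matrix.mulVec_injective (funext fun x => by
    rw [smul_mulVec, one_mulVec]; exact htop x)
  by_cases hz : ∃ z, f z z ≠ 0 ∧ f w z = 0
  · obtain ⟨z, hzz, hwz⟩ := hz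
    obtain ⟨a, b, ha, hb, ha1, hb1, hab⟩ := exists_norm_one hf
    have hu : ∀ u, f u u ≠ 0 → f w u ≠ 0 → u ∈ K := by
      intro u huu hwu
      by_cases hm : u ∈ Submodule.span F {w}
      · obtain ⟨t, rfl⟩ := Submodule.mem_span_singleton.1 hm
        exact K.smul_mem t hwK
      have hmove : ∀ l : F, l * σ l = 1 → ∃ μ : F,
          A *ᵥ (w + ((l - 1) / f u u * f w u) • u) = μ • (w + ((l - 1) / f u u * f w u) • u) := by
        intro l hl
        have hl' : σ l * σ (σ l) = 1 := by rw [hf.involutive, mul_comm]; exact hl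
        obtain ⟨μ, hμ⟩ := horbit (qref f u l * qref f z (σ l)) (qref f z l * qref f u (σ l))
          (by rw [Matrix.mul_assoc, ← Matrix.mul_assoc (qref f z (σ l)), qref_mul hf hzz, mul_comm (σ l),
            hl, qref_one hf, Matrix.one_mul, qref_mul hf huu, hl, qref_one hf])
          (by rw [det_mul, qref_det hf huu, qref_det hf hzz, hl])
          (fun x y => by rw [← mulVec_mulVec, ← mulVec_mulVec, qref_isometry hf huu hl, qref_isometry hf hzz hl'])
        refine ⟨μ, ?_⟩
        rwa [← mulVec_mulVec, qref_mulVec hf z, hwz, mul_zero, zero_smul, add_zero, qref_mulVec hf] at hμ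
      obtain ⟨μ, hμ⟩ := hmove a ha
      obtain ⟨ν, hν⟩ := hmove b hb
      exact eig3 hm hw (mul_ne_zero (div_ne_zero (sub_ne_zero.2 ha1) huu) hwu)
        (mul_ne_zero (div_ne_zero (sub_ne_zero.2 hb1) huu) hwu)
        (fun e => hab (by
          field_simp at e
          linear_combination e)) hχ.symm hμ hν
    by_cases hww : f w w = 0
    · -- `w` isotropic
      obtain ⟨d, hd, hdw⟩ := exists_hyperbolic hf hw hww
      obtain ⟨μ, hμ⟩ := exists_add_ne_zero hf
      have hwd : f w d = 1 := by rw [hf.herm, hdw, map_one]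
      have hone : ∀ x, f x w = 1 → x ∈ K := by
        intro x hx
        have hwx : f w x = 1 := by rw [hf.herm, hx, map_one]
        by_cases hxx : f x x = 0
        · have hn1 : f (x + μ • w) (x + μ • w) ≠ 0 := by
            rw [expand_add_smul hf, hxx, hwx, hww, mul_one, zero_add, mul_zero, add_zero]
            exact hμ
          have hn2 : f w (x + μ • w) ≠ 0 := by
            rw [add_right hf, smul_right hf, hwx, hww, mul_zero, add_zero]
            exact one_ne_zero
          have h1 : x + μ • w ∈ K := hu _ hn1 hn2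
          have := K.sub_mem h1 (K.smul_mem μ hwK)
          rwa [add_sub_cancel_right] at this
        · exact hu x hxx (by rw [hwx]; exact one_ne_zero)
      intro x
      have := K.add_mem (hone (x - f x w • d + d) (by
        rw [hf.add_left, form_sub_left (isLinearLeft_of_unitary hf), hf.smul_left, hdw]; ring))
        (K.smul_mem (f x w - 1) (hone d hdw))
      convert this using 1
      module
    · -- `w` anisotropic
      have hperp : ∀ y, f y w = 0 → y ∈ K := by
        intro y hyw
        have hwy : f w y = 0 := swap_eq_zero hf hyw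
        have key : ∀ c : F, f y y + c * σ c * f w w ≠ 0 → c ≠ 0 → y ∈ K := by
          intro c hc hc0
          have h1 : y + c • w ∈ K := hu _ (by rwa [expand_add_smul hf, hwy, mul_zero, map_zero, add_zero, add_zero])
            (by rw [add_right hf, smul_right hf, hwy, zero_add]; exact mul_ne_zero (by simpa using hc0) hww)
          have := K.sub_mem h1 (K.smul_mem c hwK)
          rwa [add_sub_cancel_right] at this
        by_cases hyy : f y y + 1 * σ 1 * f w w = 0
        swap
        · exact key 1 hyy one_ne_zero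
        rcases hex with h3 | ⟨r, hr, hr0, hr1⟩
        · -- two isotropic vectors through `y`
          have hyy0 : f y y ≠ 0 := fun e => hww (by simpa [e] using hyy)
          obtain ⟨y', hy', hy'n⟩ : ∃ y', (∀ i, f y' (![w, y] i) = 0) ∧ f y' y' ≠ 0 := by
            obtain ⟨z', hz', hzs⟩ := exists_orth hf (![] : Fin 0 → Vec) ![w, y] (by omega)
            have hz0 : z' ≠ 0 := fun e => hz' (by rw [e]; exact Submodule.zero_mem _)
            refine exists_aniso hf _ hzs fun e => hz0 ?_
            obtain ⟨co, hco⟩ := (Submodule.mem_span_range_iff_exists_fun F).1 e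
            simp only [Fin.sum_univ_two, Matrix.cons_val_zero, Matrix.cons_val_one] at hco
            have e1 : f z' w = 0 := hzs 0
            have e2 : f z' y = 0 := hzs 1
            rw [← hco] at e1 e2
            simp [hf.add_left, hf.smul_left, hyw, hww] at e1
            simp [hf.add_left, hf.smul_left, hwy, hyy0] at e2
            rw [← hco, e1, e2, zero_smul, zero_smul, add_zero]
          have hy'w : f y' w = 0 := hy' 0
          have hy'y : f y' y = 0 := hy' 1
          obtain ⟨c, hc⟩ := exists_shift hf hN (t := y) (p := y') (Or.inl hy'n)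
          have hc' : f (y + (a * c) • y') (y + (a * c) • y') = 0 := by
            rw [expand_add_smul hf, hy'y, mul_zero, map_zero, add_zero, add_zero] at hc ⊢
            rw [map_mul]
            linear_combination hc + c * σ c * f y' y' * ha
          have hiso : ∀ p, f p w = 0 → f p p = 0 → p ∈ K := fun p hp hpp => by
            have h1 : p + (1 : F) • w ∈ K := hu _ (by
              rw [expand_add_smul hf, hpp, swap_eq_zero hf hp, map_one]
              simpa using hww)
              (by rw [add_right hf, smul_right hf, swap_eq_zero hf hp, map_one, zero_add, one_mul]; exact hww)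
            have := K.sub_mem h1 (K.smul_mem 1 hwK)
            rwa [add_sub_cancel_right] at this
          have h1 := hiso _ (by rw [hf.add_left, hf.smul_left, hyw, hy'w, mul_zero, add_zero]) hc
          have h2 := hiso _ (by rw [hf.add_left, hf.smul_left, hyw, hy'w, mul_zero, add_zero]) hc'
          have h3 := K.smul_mem (1 - a)⁻¹ (K.sub_mem h2 (K.smul_mem a h1))
          convert h3 using 1
          rw [smul_add, smul_smul, show y + (a * c) • y' - (a • y + (a * c) • y') = (1 - a) • y by module,
            inv_smul_smul₀ (sub_ne_zero.2 ha1.symm)]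
        · obtain ⟨c, hc⟩ := hN r hr
          refine key c ?_ fun e => hr0 (by rw [← hc, e, zero_mul])
          rw [hc]
          intro e
          rw [map_one, one_mul, one_mul] at hyy
          have : (r - 1) * f w w = 0 := by linear_combination e - hyy
          exact hr1 (sub_eq_zero.1 ((mul_eq_zero.1 this).resolve_right hww))
      intro x
      have := K.add_mem (hperp (x - (f x w / f w w) • w) (by
        rw [form_sub_left (isLinearLeft_of_unitary hf), hf.smul_left, div_mul_cancel₀ _ hww, sub_self]))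
        (K.smul_mem (f x w / f w w) hwK)
      rwa [sub_add_cancel] at this
  · -- an isotropic line in dimension two
    push Not at hz
    have hww : f w w = 0 := by
      by_contra hww
      obtain ⟨y, hy, hys⟩ := exists_orth hf (![] : Fin 0 → Vec) ![w] (by omega)
      obtain ⟨p, hp, hpp⟩ := exists_aniso hf _ hys fun e => by
        obtain ⟨co, hco⟩ := (Submodule.mem_span_range_iff_exists_fun F).1 e
        simp only [Fin.sum_univ_one, Matrix.cons_val_fin_one] at hco
        have e1 : f y w = 0 := hys 0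
        rw [← hco, hf.smul_left] at e1
        exact hy (by rw [← hco, (mul_eq_zero.1 e1).resolve_right hww, zero_smul]; exact Submodule.zero_mem _)
      exact hz p hpp (swap_eq_zero hf (hp 0))
    have hn2 : n = 2 := by
      by_contra hne
      obtain ⟨y, hy, hys⟩ := exists_orth hf ![w] ![w] (by omega)
      obtain ⟨p, hp, hpp⟩ := exists_aniso hf _ hys hy
      exact hz p hpp (swap_eq_zero hf (hp 0))
    obtain ⟨d, hd, hdw⟩ := exists_hyperbolic hf hw hww
    obtain ⟨e, he, he'⟩ := exists_skew_scalar hf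
    obtain ⟨r, hr, hr0, hr1⟩ := hex.resolve_left (show ¬ 3 ≤ n by omega)
    have hwd : f w d = 1 := by rw [hf.herm, hdw, map_one]
    have hmove : ∀ c : F, c + σ c = 0 → ∃ μ : F, A *ᵥ (w + c • d) = μ • (w + c • d) := by
      intro c hc
      have hc' : (1 : F) * c + (σ : F →+* F) c = 0 := by rw [one_mul]; exact hc
      obtain ⟨μ, hμ⟩ := horbit (tmat f d c) (tmat f d (-c))
        (by rw [tmat_mul hF hd, add_neg_cancel, tmat_zero hF]) (tmat_det hF hd c) (tmat_isometry hF hd hc')
      rw [tmat_mulVec hF, hwd, mul_one] at hμ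
      exact ⟨μ, hμ⟩
    have hre : r * e + σ (r * e) = 0 := by rw [map_mul, hr]; linear_combination r * he'
    obtain ⟨μ, hμ⟩ := hmove e he'
    obtain ⟨ν, hν⟩ := hmove (r * e) hre
    have hdn : d ∉ Submodule.span F {w} := fun e1 => by
      obtain ⟨t, ht⟩ := Submodule.mem_span_singleton.1 e1
      rw [← ht, hf.smul_left, hww, mul_zero] at hdw
      exact zero_ne_one hdw
    have hdK : d ∈ K := eig3 hdn hw he (mul_ne_zero hr0 he) (fun e1 => hr1 (by
      have : (r - 1) * e = 0 := by linear_combination -e1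
      exact sub_eq_zero.1 ((mul_eq_zero.1 this).resolve_right he))) hχ.symm hμ hν
    intro x
    set x' := x - f x w • d - f x d • w
    have hx' : x' = 0 := by
      by_contra hne
      have h1 : f x' w = 0 := by
        simp [x', form_sub_left (isLinearLeft_of_unitary hf), hf.smul_left, hdw, hww]
      have h2 : f x' d = 0 := by
        simp [x', form_sub_left (isLinearLeft_of_unitary hf), hf.smul_left, hd, hwd]
      obtain ⟨u, hu⟩ := (hf.nondegenerate x' hne).1
      have hspan : u ∈ Submodule.span F {w} ⊔ Submodule.span F {d} := by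
        have hind : LinearIndependent F ![w, d] := by
          rw [LinearIndependent.pair_iff]
          intro p q hpq
          have e1 : q = 0 := by
            have := congrArg (fun y => f y w) hpq
            simpa [hf.add_left, hf.smul_left, hww, hdw, herm_zero_left hf] using this
          have e2 : p = 0 := by
            have := congrArg (fun y => f y d) hpq
            simpa [hf.add_left, hf.smul_left, hwd, hd, herm_zero_left hf] using this
          exact ⟨e2, e1⟩
        have := hind.span_eq_top_of_card_eq_finrank (by rw [Fintype.card_fin, Module.finrank_fin_fun, hn2])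
        rw [Matrix.range_cons, Matrix.range_cons, Matrix.range_empty, Set.union_empty, Submodule.span_union] at this
        rw [this]; trivial
      obtain ⟨p, hp, q, hq, rfl⟩ := Submodule.mem_sup.1 hspan
      obtain ⟨s, rfl⟩ := Submodule.mem_span_singleton.1 hp
      obtain ⟨t, rfl⟩ := Submodule.mem_span_singleton.1 hq
      exact hu (swap_eq_zero hf (by rw [add_right hf, smul_right hf, smul_right hf, h1, h2]; ring))
    have := K.add_mem (K.smul_mem (f x w) hdK) (K.smul_mem (f x d) hwK)
    convert this using 1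
    have e1 : x - f x w • d - f x d • w = 0 := hx'
    linear_combination (norm := module) e1

end Cfsg.Agent.Lib.TensorFormMax.UnitSide
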